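import Cfsg.Agent.H80.Glauberman

/-!
# Constituents on a normal subgroup are conjugate
-/

set_option linter.style.haveILetI false

open scoped ComplexConjugate

namespace Cfsg.Agent.H80

open Cfsg.Agent.CharBasic

variable {H : Type*} [Group H] [Fintype H] (K : Subgroup H)

/-- First orthogonality, as a sum. -/
theorem irr_sum_orth {K : Type*} [Group K] [Fintype K] [DecidableEq (Cfsg.IrrCharacter K)]
    (γ ψ : Cfsg.IrrCharacter K) :
    ∑ n : K, (γ : K → ℂ) n * (ψ : K → ℂ) n⁻¹ = if γ = ψ then (Nat.card K : ℂ) else 0 := by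
  have h := congrArg (fun a : AlgInt => (a : ℂ)) (valInt_orth γ ψ)
  split_ifs with hc <;> simpa [hc] using h

/-- `Σ_n γ(x n) ψ(n⁻¹) = δ |K| γ(x) / γ(1)`. -/
theorem sum_mul_shift {K : Type*} [Group K] [Fintype K] [DecidableEq (Cfsg.IrrCharacter K)]
    (γ ψ : Cfsg.IrrCharacter K) (x : K) :
    (γ : K → ℂ) 1 * ∑ n : K, (γ : K → ℂ) (x * n) * (ψ : K → ℂ) n⁻¹ =
      (γ : K → ℂ) x * (if γ = ψ then (Nat.card K : ℂ) else 0) := by
  have hshift : ∀ c : K, ∑ n : K, (γ : K → ℂ) (x * n) * (ψ : K → ℂ) n⁻¹ =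
      ∑ n : K, (γ : K → ℂ) (x * (c * n * c⁻¹)) * (ψ : K → ℂ) n⁻¹ := by
    intro c
    symm
    refine Fintype.sum_equiv (MulAut.conj c).toEquiv _ _ fun n => ?_
    have e : (MulAut.conj c).toEquiv n = c * n * c⁻¹ := rfl
    rw [e, show (c * n * c⁻¹)⁻¹ = c * n⁻¹ * c⁻¹ by group, IsIrr.isClassFunction ψ.2]
  refine mul_left_cancel₀ (show (Nat.card K : ℂ) ≠ 0 by simp [Nat.card_pos.ne']) ?_
  calc (Nat.card K : ℂ) * ((γ : K → ℂ) 1 * ∑ n : K, (γ : K → ℂ) (x * n) * (ψ : K → ℂ) n⁻¹)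
      = ∑ c : K, (γ : K → ℂ) 1 *
          ∑ n : K, (γ : K → ℂ) (x * (c * n * c⁻¹)) * (ψ : K → ℂ) n⁻¹ := by
        simp only [← hshift, Finset.sum_const, Finset.card_univ, nsmul_eq_mul,
          Nat.card_eq_fintype_card]
    _ = ∑ n : K, (γ : K → ℂ) 1 *
          (∑ c : K, (γ : K → ℂ) (x * (c * n * c⁻¹))) * (ψ : K → ℂ) n⁻¹ := by
        simp only [Finset.mul_sum, Finset.sum_mul]
        rw [Finset.sum_comm]
        simp only [mul_assoc]
    _ = (Nat.card K : ℂ) * ((γ : K → ℂ) x * ∑ n : K, (γ : K → ℂ) n * (ψ : K → ℂ) n⁻¹) := by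
        rw [Finset.mul_sum, Finset.mul_sum]
        exact Finset.sum_congr rfl fun n _ => by rw [sum_conj_mul]; ring
    _ = _ := by rw [irr_sum_orth]

variable [hK : K.Normal]

/-- The twist of a character of a normal subgroup by an element of the group. -/
def conjTwist (α : Cfsg.IrrCharacter K) (d : H) : Cfsg.IrrCharacter K :=
  twist α (MulAut.conjNormal d)

theorem conjTwist_apply (α : Cfsg.IrrCharacter K) (d : H) (n : K) :
    (conjTwist K α d : K → ℂ) n = (α : K → ℂ) ⟨d * n * d⁻¹, hK.conj_mem n n.2 d⟩ := by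
  show (α : K → ℂ) (MulAut.conjNormal d n) = _
  congr 1

theorem classInner_res_conjTwist [Fintype K] {f : H → ℂ} (hf : Cfsg.IsClassFunction H f)
    (α : Cfsg.IrrCharacter K) (d : H) :
    Cfsg.classInner (fun n : K => f n) (conjTwist K α d : K → ℂ) =
      Cfsg.classInner (fun n : K => f n) (α : K → ℂ) := by
  rw [← classInner_comp_mulEquiv' (MulAut.conjNormal d) (fun n : K => f n) (α : K → ℂ)]
  congr 1
  funext n
  show f n = f (MulAut.conjNormal d n : K)
  rw [MulAut.conjNormal_apply, hf]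
where
  classInner_comp_mulEquiv' (e : K ≃* K) (φ ψ : K → ℂ) :
      Cfsg.classInner (fun x => φ (e x)) (fun x => ψ (e x)) = Cfsg.classInner φ ψ := by
    unfold Cfsg.classInner
    congr 1
    exact Fintype.sum_equiv e.toEquiv _ _ fun x => rfl

/-- Clifford: two constituents of an irreducible character on a normal subgroup are conjugate. -/
theorem exists_conjTwist_eq [Fintype K] (β : Cfsg.IrrCharacter H) {α γ : Cfsg.IrrCharacter K}
    (hα : Cfsg.classInner (fun n : K => (β : H → ℂ) n) (α : K → ℂ) ≠ 0)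
    (hγ : Cfsg.classInner (fun n : K => (β : H → ℂ) n) (γ : K → ℂ) ≠ 0) :
    ∃ d : H, conjTwist K α d = γ := by
  classical
  by_contra hcon
  push Not at hcon
  obtain ⟨n, ρ, hρ, hβ⟩ := β.2
  have hres : Cfsg.IsCharacter K (fun n : K => (β : H → ℂ) n) :=
    ⟨n, ρ.comp K.subtype, by rw [← hβ]; rfl⟩
  have hnat : ∀ δ : Cfsg.IrrCharacter K, ∃ m : ℕ,
      Cfsg.classInner (fun n : K => (β : H → ℂ) n) (δ : K → ℂ) = m :=
    fun δ => classInner_isChar_nat hres (IsIrr.isCharacter δ.2)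
  choose m hm using hnat
  have hexp : ∀ x : K, (β : H → ℂ) x = ∑ δ : Cfsg.IrrCharacter K, (m δ : ℂ) * (δ : K → ℂ) x := by
    intro x
    have h := congrFun (classFunction_expansion (IsChar.isClassFunction hres)) x
    rw [h, Finset.sum_apply]
    exact Finset.sum_congr rfl fun δ _ => by rw [Pi.smul_apply, smul_eq_mul, hm]
  let Φ : K → ℂ := fun y => ∑ d : H, (conjTwist K α d : K → ℂ) y
  have hΦ : ∀ (c : H) (y : K), Φ (MulAut.conjNormal c y) = Φ y := by
    intro c y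
    refine Fintype.sum_equiv (Equiv.mulRight c) _ _ fun d => ?_
    show (α : K → ℂ) (MulAut.conjNormal d (MulAut.conjNormal c y)) =
      (α : K → ℂ) (MulAut.conjNormal (d * c) y)
    rw [map_mul]; rfl
  let a : Cfsg.IrrCharacter K → ℕ := fun δ => (Finset.univ.filter fun d : H => conjTwist K α d = δ).card
  have hsum : ∀ (x : K) (δ : Cfsg.IrrCharacter K), ∑ y : K, (δ : K → ℂ) (x * y) * Φ y⁻¹ =
      (a δ : ℂ) * (Nat.card K : ℂ) * (δ : K → ℂ) x / (δ : K → ℂ) 1 := by
    intro x δ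
    rw [eq_div_iff (IsIrr.one_ne_zero δ.2)]
    simp only [Φ, Finset.mul_sum, Finset.sum_mul]
    rw [Finset.sum_comm]
    have : ∀ d : H, ∑ y : K, (δ : K → ℂ) (x * y) * (conjTwist K α d : K → ℂ) y⁻¹ * (δ : K → ℂ) 1 =
        (δ : K → ℂ) x * (if δ = conjTwist K α d then (Nat.card K : ℂ) else 0) := by
      intro d
      rw [← Finset.sum_mul, mul_comm, sum_mul_shift]
    simp only [this, ← Finset.mul_sum]
    rw [Finset.sum_ite, Finset.sum_const_zero, add_zero, Finset.sum_const, nsmul_eq_mul]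
    have : (Finset.univ.filter fun d : H => δ = conjTwist K α d).card = a δ := by
      simp only [a, eq_comm]
    rw [this]; ring
  have key : ∀ x : K, (β : H → ℂ) 1 * ∑ y : K, (β : H → ℂ) ((x : H) * y) * Φ y⁻¹ =
      (β : H → ℂ) x * ∑ y : K, (β : H → ℂ) y * Φ y⁻¹ := by
    intro x
    refine mul_left_cancel₀ (show (Nat.card H : ℂ) ≠ 0 by simp [Nat.card_pos.ne']) ?_
    have hinv : ∑ c : H, ∑ y : K, (β : H → ℂ) ((x : H) * (c * y * c⁻¹)) * Φ y⁻¹ =
        (Nat.card H : ℂ) * ∑ y : K, (β : H → ℂ) ((x : H) * y) * Φ y⁻¹ := by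
      rw [Finset.sum_congr rfl fun c _ => ?_, Finset.sum_const, Finset.card_univ, nsmul_eq_mul,
        Nat.card_eq_fintype_card]
      refine Fintype.sum_equiv (MulAut.conjNormal c).toEquiv _ _ fun y => ?_
      show _ = (β : H → ℂ) ((x : H) * ((MulAut.conjNormal c y : K) : H)) *
        Φ (MulAut.conjNormal c y)⁻¹
      rw [MulAut.conjNormal_apply, ← map_inv, hΦ]
    rw [mul_left_comm, ← hinv, Finset.mul_sum]
    rw [Finset.sum_congr rfl fun c _ => Finset.mul_sum _ _ _, Finset.sum_comm,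
      Finset.mul_sum, Finset.mul_sum]
    refine Finset.sum_congr rfl fun y _ => ?_
    rw [← Finset.mul_sum, ← Finset.sum_mul, ← mul_assoc, sum_conj_mul]
    ring
  -- pair with γ
  have hL : ∑ x : K, (∑ y : K, (β : H → ℂ) ((x : H) * y) * Φ y⁻¹) * (γ : K → ℂ) x⁻¹ = 0 := by
    have : ∀ x : K, ∑ y : K, (β : H → ℂ) ((x : H) * y) * Φ y⁻¹ =
        ∑ δ : Cfsg.IrrCharacter K, (m δ : ℂ) *
          ((a δ : ℂ) * (Nat.card K : ℂ) * (δ : K → ℂ) x / (δ : K → ℂ) 1) := by
      intro x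
      simp only [← hsum, Finset.mul_sum]
      rw [Finset.sum_comm]
      refine Finset.sum_congr rfl fun y _ => ?_
      rw [← Subgroup.coe_mul, hexp, Finset.sum_mul]
      simp only [mul_assoc]
    simp only [this, Finset.sum_mul]
    rw [Finset.sum_comm]
    refine Finset.sum_eq_zero fun δ _ => ?_
    have h := irr_sum_orth δ γ
    have e : ∀ x : K, (m δ : ℂ) * ((a δ : ℂ) * (Nat.card K : ℂ) * (δ : K → ℂ) x / (δ : K → ℂ) 1) *
        (γ : K → ℂ) x⁻¹ = ((m δ : ℂ) * ((a δ : ℂ) * (Nat.card K : ℂ)) / (δ : K → ℂ) 1) *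
          ((δ : K → ℂ) x * (γ : K → ℂ) x⁻¹) := fun x => by ring
    simp only [e, ← Finset.mul_sum, h]
    split_ifs with hd
    · have : a δ = 0 := by
        simp only [a, Finset.card_eq_zero, Finset.filter_eq_empty_iff]
        exact fun d _ => hd ▸ hcon d
      simp [this]
    · simp
  have hR : ∑ x : K, ((β : H → ℂ) x * ∑ y : K, (β : H → ℂ) y * Φ y⁻¹) * (γ : K → ℂ) x⁻¹ = 0 := by
    rw [← mul_zero ((β : H → ℂ) 1), ← hL, Finset.mul_sum]
    exact Finset.sum_congr rfl fun x _ => by rw [← key, mul_assoc]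
  rw [Finset.sum_congr rfl fun x _ => mul_right_comm _ _ _, ← Finset.sum_mul] at hR
  have hmul : ∀ δ : Cfsg.IrrCharacter K, ∑ x : K, (β : H → ℂ) x * (δ : K → ℂ) x⁻¹ =
      (Nat.card K : ℂ) * (m δ : ℂ) := by
    intro δ
    rw [← hm, classInner_def, ← mul_assoc, mul_inv_cancel₀ (by simp [Nat.card_pos.ne']), one_mul]
    exact Finset.sum_congr rfl fun x _ => by rw [IsChar.inv_apply (IsIrr.isCharacter δ.2)]
  have hmd : ∀ d : H, m (conjTwist K α d) = m α := fun d => by
    have h := classInner_res_conjTwist K (IsIrr.isClassFunction β.2) α d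
    rw [hm, hm, Nat.cast_inj] at h
    exact h
  have hS : ∑ y : K, (β : H → ℂ) y * Φ y⁻¹ =
      (Nat.card H : ℂ) * ((Nat.card K : ℂ) * (m α : ℂ)) := by
    simp only [Φ, Finset.mul_sum]
    rw [Finset.sum_comm, Finset.sum_congr rfl fun d _ => (hmul (conjTwist K α d)).trans
      (by rw [hmd]), Finset.sum_const, Finset.card_univ, nsmul_eq_mul]
    simp only [Nat.card_eq_fintype_card]
  rw [hmul, hS] at hR
  simp only [mul_eq_zero, Nat.cast_eq_zero, Nat.card_pos.ne', false_or] at hR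
  rcases hR with h | h
  · exact hγ (by rw [hm, h, Nat.cast_zero])
  · exact hα (by rw [hm, h, Nat.cast_zero])

end Cfsg.Agent.H80
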