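import Cfsg.Agent.CharBasic.Complete
import Cfsg.Agent.BlockBasic.Local
import Mathlib.GroupTheory.GroupAction.SubMulAction.OfFixingSubgroup
import Mathlib.GroupTheory.PGroup
import Mathlib.Algebra.CharP.Two

/-!
# The Glauberman correspondence for a p-group of operators, by congruences modulo p

If a p-group `P` acts on a p'-group `G` with fixed points `C`, then for a fixed irreducible
character `χ` of `G` the reduction mod p of `χ` on `C` satisfies the functional equation of a
character of degree one of the centre of the group algebra of `C`, hence is `±β` for a unique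
irreducible character `β` of `C`.
-/

open scoped ComplexConjugate

set_option linter.style.haveILetI false

namespace Cfsg.Agent.H80

open Cfsg.Agent.CharBasic Cfsg.Agent.BlockBasic

section Orbit

/-- In characteristic `p`, an invariant function sums to its sum over the fixed points. -/
theorem sum_eq_sum_fixed {p : ℕ} [Fact p.Prime] {P X R : Type*} [Group P] [MulAction P X]
    [Fintype X] [CommRing R] [CharP R p] (hP : IsPGroup p P) (f : X → R)
    (hf : ∀ (s : P) (x : X), f (s • x) = f x) [DecidablePred fun x : X => ∀ s : P, s • x = x] :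
    ∑ x, f x = ∑ x with (∀ s : P, s • x = x), f x := by
  classical
  rw [← Finset.sum_filter_add_sum_filter_not Finset.univ (fun x : X => ∀ s : P, s • x = x)]
  suffices h : ∑ x with ¬ (∀ s : P, s • x = x), f x = 0 by rw [h, add_zero]
  rw [Finset.sum_filter]
  let g : X → R := fun x => if ¬ (∀ s : P, s • x = x) then f x else 0
  show ∑ x, g x = 0
  rw [← (MulAction.selfEquivSigmaOrbits P X).symm.sum_comp g, Fintype.sum_sigma]
  refine Finset.sum_eq_zero fun ω _ => ?_
  have hg : ∀ y : MulAction.orbit P ω.out, g y = g ω.out := by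
    rintro ⟨_, s, rfl⟩
    have hiff : (∀ t : P, t • (s • ω.out) = s • ω.out) ↔ ∀ t : P, t • ω.out = ω.out := by
      constructor
      · intro h t
        have h1 := h s⁻¹
        rw [inv_smul_smul] at h1
        have h2 := h t
        rw [← h1] at h2
        exact h2
      · intro h t
        rw [h s, h t]
    show g (s • ω.out) = g ω.out
    simp only [g, hiff, hf]
  refine (Finset.sum_congr rfl fun y _ => hg y).trans ?_
  rw [Finset.sum_const, Finset.card_univ, nsmul_eq_mul]
  by_cases hfix : ∀ t : P, t • ω.out = ω.out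
  · simp [g, hfix]
  obtain ⟨k, hk⟩ := hP.card_orbit ω.out
  rw [← Nat.card_eq_fintype_card, hk]
  rcases k with _ | k
  · exfalso
    rw [pow_zero, Nat.card_eq_one_iff_unique] at hk
    obtain ⟨hs, -⟩ := hk
    exact hfix fun t => congrArg Subtype.val
      (hs.elim (⟨t • ω.out, MulAction.mem_orbit _ t⟩ : MulAction.orbit P ω.out)
        ⟨ω.out, MulAction.mem_orbit_self _⟩)
  · rw [Nat.cast_pow, CharP.cast_eq_zero, zero_pow (Nat.succ_ne_zero k), zero_mul]

end Orbit

section Identity

variable {G : Type*} [Group G] [Fintype G]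

/-- `χ(1) Σ_c χ(x c y c⁻¹) = |G| χ(x) χ(y)` for irreducible `χ`. -/
theorem sum_conj_mul (χ : Cfsg.IrrCharacter G) (x y : G) :
    (χ : G → ℂ) 1 * ∑ c : G, (χ : G → ℂ) (x * (c * y * c⁻¹)) =
      (Nat.card G : ℂ) * (χ : G → ℂ) x * (χ : G → ℂ) y := by
  obtain ⟨n, ρ, hρ, hχ⟩ := χ.2
  haveI := hρ
  rw [← hχ]
  let T : Module.End ℂ (Fin n → ℂ) := ∑ c : G, ρ (c * y * c⁻¹)
  have hT : ∀ g, T * ρ g = ρ g * T := by
    intro g
    simp only [T, Finset.sum_mul, Finset.mul_sum, ← map_mul]
    refine Fintype.sum_equiv (Equiv.mulLeft g⁻¹) _ _ fun c => ?_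
    simp only [Equiv.coe_mulLeft]
    congr 1
    group
  obtain ⟨a, ha⟩ := schur_scalar ρ T hT
  have h1 : (Nat.card G : ℂ) * ρ.character y = a * ρ.character 1 := by
    have := congrArg (LinearMap.trace ℂ (Fin n → ℂ)) ha
    simp only [T, map_sum, map_smul, smul_eq_mul] at this
    have hc : ∀ c : G, LinearMap.trace ℂ (Fin n → ℂ) (ρ (c * y * c⁻¹)) = ρ.character y :=
      fun c => ρ.char_conj y c
    simp only [hc, Finset.sum_const, Finset.card_univ, nsmul_eq_mul] at this
    rw [Nat.card_eq_fintype_card, this, LinearMap.trace_id, Representation.char_one]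
  have h2 : ∑ c : G, ρ.character (x * (c * y * c⁻¹)) = a * ρ.character x := by
    have := congrArg (fun S => LinearMap.trace ℂ (Fin n → ℂ) (ρ x * S)) ha
    simp only [T, Finset.mul_sum, map_sum, mul_smul_comm, map_smul, smul_eq_mul] at this
    simp only [Representation.character, map_mul]
    rw [show (ρ x) * LinearMap.id = ρ x from mul_one _] at this
    simpa [map_mul] using this
  rw [h2, mul_assoc, mul_left_comm _ (ρ.character x), h1]
  ring

/-- A prime not dividing the group order does not divide an irreducible degree. -/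
theorem not_dvd_degree {p n : ℕ} (hp : p.Prime) (hG : ¬ p ∣ Nat.card G)
    (χ : Cfsg.IrrCharacter G) (hn : (χ : G → ℂ) 1 = n) : ¬ p ∣ n := by
  have hn0 : (n : ℂ) ≠ 0 := hn ▸ IsIrr.one_ne_zero χ.2
  have hinner : ∑ x : G, (χ : G → ℂ) x * (χ : G → ℂ) x⁻¹ = (Nat.card G : ℂ) := by
    have h := classInner_irr_self χ.2
    rw [classInner_def, inv_mul_eq_iff_eq_mul₀ (by simp [Nat.card_pos.ne']), mul_one] at h
    refine Eq.trans ?_ h
    exact Finset.sum_congr rfl fun x _ => by rw [IsChar.inv_apply (IsIrr.isCharacter χ.2)]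
  have key : (n : ℂ) * ∑ x : G, ∑ c : G, (χ : G → ℂ) (x * (c * x⁻¹ * c⁻¹)) =
      (Nat.card G : ℂ) * (Nat.card G : ℂ) := by
    rw [Finset.mul_sum]
    conv_rhs => arg 2; rw [← hinner]
    rw [Finset.mul_sum]
    refine Finset.sum_congr rfl fun x _ => ?_
    rw [← hn, sum_conj_mul, mul_assoc]
  have hint : IsIntegral ℤ (((Nat.card G * Nat.card G : ℕ) : ℤ) / ((n : ℤ) : ℂ) : ℂ) := by
    have : (((Nat.card G * Nat.card G : ℕ) : ℤ) / ((n : ℤ) : ℂ) : ℂ) =
        ∑ x : G, ∑ c : G, (χ : G → ℂ) (x * (c * x⁻¹ * c⁻¹)) := by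
      push_cast
      rw [div_eq_iff hn0, ← key, mul_comm]
    rw [this]
    exact IsIntegral.sum _ fun x _ => IsIntegral.sum _ fun c _ =>
      IsChar.isIntegral (IsIrr.isCharacter χ.2) _
  have hd := dvd_of_isIntegral_div (by exact_mod_cast (by simpa using hn0 : n ≠ 0)) hint
  intro hpn
  have : p ∣ Nat.card G * Nat.card G := hpn.trans (by exact_mod_cast hd)
  exact hG ((hp.dvd_mul.1 this).elim id id)

end Identity

section Values

variable {G : Type*} [Group G] [Finite G]

/-- The values of an irreducible character as algebraic integers. -/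
noncomputable def valInt (χ : Cfsg.IrrCharacter G) (g : G) : AlgInt :=
  ⟨(χ : G → ℂ) g, IsChar.isIntegral (IsIrr.isCharacter χ.2) g⟩

@[simp] theorem valInt_coe (χ : Cfsg.IrrCharacter G) (g : G) :
    ((valInt χ g : AlgInt) : ℂ) = (χ : G → ℂ) g := rfl

theorem valInt_one {χ : Cfsg.IrrCharacter G} {n : ℕ} (hn : (χ : G → ℂ) 1 = n) :
    valInt χ 1 = (n : AlgInt) := Subtype.ext (by simpa using hn)

theorem valInt_orth [Fintype G] [DecidableEq (Cfsg.IrrCharacter G)]
    (χ ψ : Cfsg.IrrCharacter G) :
    ∑ g : G, valInt χ g * valInt ψ g⁻¹ = if χ = ψ then (Nat.card G : AlgInt) else 0 := by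
  apply Subtype.ext
  have h := classInner_irrCharacter χ ψ
  rw [classInner_def, inv_mul_eq_iff_eq_mul₀ (by simp [Nat.card_pos.ne'])] at h
  push_cast [apply_ite]
  simp only [valInt_coe, IsChar.inv_apply (IsIrr.isCharacter ψ.2)]
  rw [h]
  split_ifs <;> simp_all

theorem valInt_second_orth [DecidableRel (IsConj : G → G → Prop)] (g h : G) :
    ∑ χ : Cfsg.IrrCharacter G, valInt χ g * valInt χ h⁻¹ =
      if IsConj g h then (Nat.card (Subgroup.centralizer ({g} : Set G)) : AlgInt) else 0 := by
  apply Subtype.ext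
  push_cast [apply_ite]
  simp only [valInt_coe, fun χ : Cfsg.IrrCharacter G => IsChar.inv_apply (IsIrr.isCharacter χ.2) h]
  split_ifs with hc
  · exact second_orthogonality_isConj hc
  · exact second_orthogonality_not_isConj hc

theorem valInt_sum_conj_mul [Fintype G] (χ : Cfsg.IrrCharacter G) (x y : G) :
    valInt χ 1 * ∑ c : G, valInt χ (x * (c * y * c⁻¹)) =
      (Nat.card G : AlgInt) * valInt χ x * valInt χ y := by
  apply Subtype.ext
  push_cast
  simpa using sum_conj_mul χ x y

theorem valInt_conj (χ : Cfsg.IrrCharacter G) (g h : G) :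
    valInt χ (h * g * h⁻¹) = valInt χ g := Subtype.ext (IsIrr.isClassFunction χ.2 g h)

end Values

section Twist

variable {G : Type*} [Group G]

theorem isIrrCharacter_comp_mulEquiv {H : Type*} [Group H] (e : H ≃* G) {χ : G → ℂ}
    (h : Cfsg.IsIrrCharacter G χ) : Cfsg.IsIrrCharacter H fun x => χ (e x) := by
  obtain ⟨n, ρ, hρ, rfl⟩ := h
  refine ⟨n, ρ.comp e.toMonoidHom, ?_, rfl⟩
  let i : Subrepresentation (ρ.comp e.toMonoidHom : Representation ℂ H (Fin n → ℂ)) ≃o
      Subrepresentation ρ :=
    { toFun := fun S => ⟨S.toSubmodule, fun g v hv => by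
        simpa using S.apply_mem_toSubmodule (e.symm g) hv⟩
      invFun := fun S => ⟨S.toSubmodule, fun g v hv => S.apply_mem_toSubmodule (e g) hv⟩
      left_inv := fun S => rfl
      right_inv := fun S => rfl
      map_rel_iff' := Iff.rfl }
  exact i.isSimpleOrder

/-- The twist of an irreducible character by an automorphism. -/
def twist (χ : Cfsg.IrrCharacter G) (e : MulAut G) : Cfsg.IrrCharacter G :=
  ⟨fun x => (χ : G → ℂ) (e x), isIrrCharacter_comp_mulEquiv e χ.2⟩

variable (P : Type*) [Group P] [MulDistribMulAction P G]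

/-- `P` acts on the irreducible characters of `G`. -/
@[reducible] def irrAction : MulAction P (Cfsg.IrrCharacter G) where
  smul s χ := twist χ (MulDistribMulAction.toMulEquiv G s⁻¹)
  one_smul χ := Subtype.ext (funext fun x => by
    show (χ : G → ℂ) ((1 : P)⁻¹ • x) = (χ : G → ℂ) x
    rw [inv_one, one_smul])
  mul_smul s t χ := Subtype.ext (funext fun x => by
    show (χ : G → ℂ) ((s * t)⁻¹ • x) = (χ : G → ℂ) (t⁻¹ • s⁻¹ • x)
    rw [mul_inv_rev, mul_smul])

end Twist

section Main

variable {G P : Type*} [Group G] [Group P] [MulDistribMulAction P G] {p : ℕ} [hp : Fact p.Prime]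

/-- `χ` is invariant under the action. -/
def IsInv (P : Type*) [Group P] [MulDistribMulAction P G] (χ : G → ℂ) : Prop :=
  ∀ (s : P) (g : G), χ (s • g) = χ g

/-- Two fixed elements conjugate in `G` are conjugate in the fixed point subgroup. -/
theorem exists_fixed_conj [Finite G] (hP : IsPGroup p P) (hG : ¬ p ∣ Nat.card G) {x y : G}
    (hx : ∀ s : P, s • x = x) (hy : ∀ s : P, s • y = y) (h : IsConj x y) :
    ∃ c : G, (∀ s : P, s • c = c) ∧ c * x * c⁻¹ = y := by
  classical
  obtain ⟨g, hg⟩ := isConj_iff.1 h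
  let X := {c : G // c * x * c⁻¹ = y}
  let _ : MulAction P X :=
    { smul := fun s c => ⟨s • c.1, by
        have h1 := congrArg (fun z => s • z) c.2
        simp only [smul_mul', smul_inv', hx s, hy s] at h1
        exact h1⟩
      one_smul := fun c => Subtype.ext (one_smul P c.1)
      mul_smul := fun s t c => Subtype.ext (mul_smul s t c.1) }
  have hcard : Nat.card X = Nat.card (Subgroup.centralizer ({x} : Set G)) := by
    rw [← card_conj_eq_centralizer]
    refine Nat.card_congr ⟨fun c => ⟨g⁻¹ * c.1, ?_⟩, fun c => ⟨g * c.1, ?_⟩,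
      fun c => Subtype.ext (mul_inv_cancel_left g c.1),
      fun c => Subtype.ext (inv_mul_cancel_left g c.1)⟩
    · show g⁻¹ * c.1 * x * (g⁻¹ * c.1)⁻¹ = x
      have : g⁻¹ * (c.1 * x * c.1⁻¹) * g = x := by rw [c.2, ← hg]; group
      conv_rhs => rw [← this]
      group
    · show g * c.1 * x * (g * c.1)⁻¹ = y
      have : g * (c.1 * x * c.1⁻¹) * g⁻¹ = y := by rw [c.2, hg]
      conv_rhs => rw [← this]
      group
  have hnd : ¬ p ∣ Nat.card X := fun hd =>
    hG (hd.trans (hcard ▸ Subgroup.card_subgroup_dvd_card _))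
  obtain ⟨c, hc⟩ := hP.nonempty_fixed_point_of_prime_not_dvd_card X hnd
  exact ⟨c.1, fun s => congrArg Subtype.val (hc s), c.2⟩

variable [Fintype G] (hP : IsPGroup p P) (hG : ¬ p ∣ Nat.card G) (C : Subgroup G)
  (hC : ∀ g : G, g ∈ C ↔ ∀ s : P, s • g = g) (M : Ideal AlgInt) (hM : Cfsg.IsPModular p M)

include hM in
theorem charP_quot : CharP (AlgInt ⧸ M) p :=
  ⟨fun n => by
    rw [← map_natCast (Ideal.Quotient.mk M) n, Ideal.Quotient.eq_zero_iff_mem,
      natCast_mem_iff hM]⟩

include hC in
theorem sum_coe_fixed {R : Type*} [AddCommMonoid R] [Fintype C] (f : G → R)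
    [DecidablePred fun g : G => ∀ s : P, s • g = g] :
    ∑ g with (∀ s : P, s • g = g), f g = ∑ c : C, f c :=
  Finset.sum_subtype _ (fun g => by simp [hC]) f

include hC hG in
theorem not_dvd_card_fixed : ¬ p ∣ Nat.card C :=
  fun hd => hG (hd.trans C.card_subgroup_dvd_card)

include hP hC hM in
theorem card_congr_fixed : (Nat.card G : AlgInt ⧸ M) = (Nat.card C : AlgInt ⧸ M) := by
  classical
  haveI := charP_quot M hM
  cases nonempty_fintype C
  have h := sum_eq_sum_fixed hP (fun _ : G => (1 : AlgInt ⧸ M)) (fun _ _ => rfl)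
  rw [sum_coe_fixed C hC] at h
  simpa [Nat.card_eq_fintype_card] using h

local notation "π" => Ideal.Quotient.mk M

include hP hC hM in
/-- Sum over `G` of a product of two invariant characters reduces to the sum over `C`. -/
theorem sum_fixed_mul [Fintype C] {χ ψ : Cfsg.IrrCharacter G} (hχ : IsInv P (χ : G → ℂ))
    (hψ : IsInv P (ψ : G → ℂ)) :
    ∑ g : G, π (valInt χ g) * π (valInt ψ g⁻¹) =
      ∑ c : C, π (valInt χ c) * π (valInt ψ (c : G)⁻¹) := by
  classical
  haveI := charP_quot M hM
  rw [sum_eq_sum_fixed hP (fun g : G => π (valInt χ g) * π (valInt ψ g⁻¹))]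
  · exact sum_coe_fixed C hC _
  · intro s g
    have e1 : valInt χ (s • g) = valInt χ g := Subtype.ext (hχ s g)
    have e2 : valInt ψ (s • g)⁻¹ = valInt ψ g⁻¹ := by
      rw [← smul_inv']; exact Subtype.ext (hψ s _)
    simp only [e1, e2]

include hP hC hM in
/-- The functional equation on `C`. -/
theorem functional_eq [Fintype C] {χ : Cfsg.IrrCharacter G} (hχ : IsInv P (χ : G → ℂ))
    (x y : C) :
    π (valInt χ 1) * ∑ c : C, π (valInt χ ((x : G) * ((c : G) * y * (c : G)⁻¹))) =
      (Nat.card C : AlgInt ⧸ M) * π (valInt χ x) * π (valInt χ y) := by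
  classical
  haveI := charP_quot M hM
  have hh := congrArg π (valInt_sum_conj_mul χ (x : G) y)
  simp only [map_mul, map_sum, map_natCast] at hh
  rw [card_congr_fixed hP C hC M hM] at hh
  rw [← hh]
  congr 1
  rw [sum_eq_sum_fixed hP (fun c : G => π (valInt χ ((x : G) * (c * y * c⁻¹))))]
  · exact (sum_coe_fixed C hC (fun c : G => π (valInt χ ((x : G) * (c * y * c⁻¹))))).symm
  · intro s c
    have e : (x : G) * (s • c * y * (s • c)⁻¹) = s • ((x : G) * (c * y * c⁻¹)) := by
      rw [smul_mul', smul_mul', smul_mul', smul_inv', (hC _).1 x.2 s, (hC _).1 y.2 s]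
    simp only [e]
    exact congrArg π (Subtype.ext (hχ s _))

/-- The multiplicity of `β` in the restriction of `χ` to `C`. -/
noncomputable def mult (C : Subgroup G) (χ : Cfsg.IrrCharacter G) (β : Cfsg.IrrCharacter C) : ℕ :=
  haveI := Fintype.ofFinite C
  ⌊(Cfsg.classInner (fun c : C => (χ : G → ℂ) c) (β : C → ℂ)).re⌋₊

theorem isCharacter_res (C : Subgroup G) (χ : Cfsg.IrrCharacter G) :
    Cfsg.IsCharacter C (fun c : C => (χ : G → ℂ) c) := by
  obtain ⟨n, ρ, -, hχ⟩ := χ.2
  exact ⟨n, ρ.comp C.subtype, by rw [← hχ]; rfl⟩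

theorem classInner_res [Fintype C] (χ : Cfsg.IrrCharacter G) (β : Cfsg.IrrCharacter C) :
    Cfsg.classInner (fun c : C => (χ : G → ℂ) c) (β : C → ℂ) = (mult C χ β : ℂ) := by
  obtain ⟨n, hn⟩ := classInner_isChar_nat (isCharacter_res C χ) (IsIrr.isCharacter β.2)
  have : mult C χ β = n := by
    unfold mult
    have e : Fintype.ofFinite C = ‹Fintype C› := Subsingleton.elim _ _
    rw [e, hn, Complex.natCast_re, Nat.floor_natCast]
  rw [this, hn]

theorem valInt_res [Fintype C] (χ : Cfsg.IrrCharacter G) (c : C) :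
    valInt χ (c : G) = ∑ β : Cfsg.IrrCharacter C, (mult C χ β : AlgInt) * valInt β c := by
  apply Subtype.ext
  push_cast
  simp only [valInt_coe]
  have h := congrFun (classFunction_expansion
    (IsChar.isClassFunction (isCharacter_res C χ))) c
  rw [h, Finset.sum_apply]
  exact Finset.sum_congr rfl fun β _ => by
    rw [Pi.smul_apply, smul_eq_mul, classInner_res C χ β]

theorem valInt_res_inner [Fintype C] (χ : Cfsg.IrrCharacter G) (β : Cfsg.IrrCharacter C) :
    ∑ c : C, valInt χ (c : G) * valInt β c⁻¹ = (Nat.card C : AlgInt) * (mult C χ β : AlgInt) := by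
  classical
  simp only [valInt_res C χ, Finset.sum_mul, mul_assoc]
  rw [Finset.sum_comm]
  simp only [← Finset.mul_sum, valInt_orth, mul_ite, mul_zero]
  simp [mul_comm]

include hP hG hC hM in
theorem mult_mul_mult_eq_zero [Fintype C] {χ : Cfsg.IrrCharacter G} (hχ : IsInv P (χ : G → ℂ))
    {γ δ : Cfsg.IrrCharacter C} (hne : γ ≠ δ) :
    (mult C χ γ : AlgInt ⧸ M) * (mult C χ δ : AlgInt ⧸ M) = 0 := by
  classical
  haveI := charP_quot M hM
  haveI : M.IsMaximal := hM.2.1
  letI := Ideal.Quotient.field M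
  set N : AlgInt ⧸ M := (Nat.card C : AlgInt ⧸ M) with hN
  have hN0 : N ≠ 0 := by
    rw [hN, Ne, CharP.cast_eq_zero_iff (AlgInt ⧸ M) p]
    exact not_dvd_card_fixed hG C hC
  -- the degree of each irreducible character of `C` is invertible
  have hdeg : ∀ β : Cfsg.IrrCharacter C, π (valInt β 1) ≠ 0 := by
    intro β
    obtain ⟨n, -, hn⟩ := IsIrr.exists_degree β.2
    rw [valInt_one hn, map_natCast, Ne, CharP.cast_eq_zero_iff (AlgInt ⧸ M) p]
    exact not_dvd_degree hp.1 (not_dvd_card_fixed hG C hC) β hn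
  let f : C → AlgInt ⧸ M := fun c => π (valInt χ (c : G))
  let a : Cfsg.IrrCharacter C → AlgInt ⧸ M := fun β => (mult C χ β : AlgInt ⧸ M)
  have hf : ∀ c : C, f c = ∑ β, a β * π (valInt β c) := by
    intro c
    simp only [f, a, valInt_res C χ, map_sum, map_mul, map_natCast]
  -- pairing with γ ⊗ δ
  have horth : ∀ β ε : Cfsg.IrrCharacter C, ∑ c : C, π (valInt β c) * π (valInt ε c⁻¹) =
      if β = ε then N else 0 := by
    intro β ε
    have h := congrArg π (valInt_orth β ε)
    simp only [map_sum, map_mul, apply_ite π, map_natCast, map_zero] at h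
    exact h
  have hfa : ∀ β, ∑ c : C, f c * π (valInt β c⁻¹) = N * a β := by
    intro β
    have h := congrArg π (valInt_res_inner C χ β)
    simp only [map_sum, map_mul, map_natCast] at h
    exact h
  -- right hand side
  have hR : ∑ x : C, ∑ y : C, (N * f x * f y) * (π (valInt γ x⁻¹) * π (valInt δ y⁻¹)) =
      N * (N * a γ) * (N * a δ) := by
    rw [← hfa γ, ← hfa δ, mul_assoc, Finset.sum_mul_sum, Finset.mul_sum]
    refine Finset.sum_congr rfl fun x _ => ?_
    rw [Finset.mul_sum]
    refine Finset.sum_congr rfl fun y _ => ?_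
    ring
  -- left hand side
  have hL : ∑ x : C, ∑ y : C, (∑ c : C, f (x * (c * y * c⁻¹))) *
      (π (valInt γ x⁻¹) * π (valInt δ y⁻¹)) = 0 := by
    have hterm : ∀ x y : C, ∑ c : C, f (x * (c * y * c⁻¹)) =
        ∑ β, a β * ((π (valInt β 1))⁻¹ * (N * π (valInt β x) * π (valInt β y))) := by
      intro x y
      simp only [hf]
      rw [Finset.sum_comm]
      refine Finset.sum_congr rfl fun β _ => ?_
      rw [← Finset.mul_sum]
      congr 1
      have h := congrArg π (valInt_sum_conj_mul β x y)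
      simp only [map_mul, map_sum, map_natCast] at h
      rw [← h, ← mul_assoc, inv_mul_cancel₀ (hdeg β), one_mul]
    simp only [hterm, Finset.sum_mul]
    rw [Finset.sum_congr rfl fun x _ => Finset.sum_comm]
    rw [Finset.sum_comm]
    refine Finset.sum_eq_zero fun β _ => ?_
    have : ∀ x y : C, a β * ((π (valInt β 1))⁻¹ * (N * π (valInt β x) * π (valInt β y))) *
        (π (valInt γ x⁻¹) * π (valInt δ y⁻¹)) = (a β * ((π (valInt β 1))⁻¹ * N)) *
          ((π (valInt β x) * π (valInt γ x⁻¹)) * (π (valInt β y) * π (valInt δ y⁻¹))) :=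
      fun x y => by ring
    simp only [this, ← Finset.mul_sum, ← Finset.sum_mul, horth]
    by_cases h1 : β = γ
    · rw [if_neg (fun h2 : β = δ => hne (h1.symm.trans h2))]; simp
    · rw [if_neg h1]; simp
  have hall : π (valInt χ 1) * 0 = N * (N * a γ) * (N * a δ) := by
    rw [← hL, ← hR, Finset.mul_sum]
    refine Finset.sum_congr rfl fun x _ => ?_
    rw [Finset.mul_sum]
    refine Finset.sum_congr rfl fun y _ => ?_
    rw [← mul_assoc]
    congr 1
    exact functional_eq hP C hC M hM hχ x y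
  rw [mul_zero] at hall
  have : a γ * a δ * (N * N * N) = 0 := by rw [hall]; ring
  exact (mul_eq_zero.1 this).resolve_right (mul_ne_zero (mul_ne_zero hN0 hN0) hN0)

include hP hG hC hM in
theorem sum_mult_mul [Fintype C] [DecidableEq (Cfsg.IrrCharacter G)] {χ ψ : Cfsg.IrrCharacter G}
    (hχ : IsInv P (χ : G → ℂ)) (hψ : IsInv P (ψ : G → ℂ)) :
    ∑ β : Cfsg.IrrCharacter C, (mult C χ β : AlgInt ⧸ M) * (mult C ψ β : AlgInt ⧸ M) =
      if χ = ψ then 1 else 0 := by
  classical
  haveI := charP_quot M hM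
  haveI : M.IsMaximal := hM.2.1
  letI := Ideal.Quotient.field M
  have hN0 : (Nat.card C : AlgInt ⧸ M) ≠ 0 := by
    rw [Ne, CharP.cast_eq_zero_iff (AlgInt ⧸ M) p]
    exact not_dvd_card_fixed hG C hC
  apply mul_left_cancel₀ hN0
  have h := congrArg π (valInt_orth χ ψ)
  simp only [map_sum, map_mul, apply_ite π, map_natCast, map_zero] at h
  rw [sum_fixed_mul hP C hC M hM hχ hψ, card_congr_fixed hP C hC M hM] at h
  rw [mul_ite, mul_one, mul_zero, ← h, Finset.mul_sum]
  symm
  simp only [valInt_res C χ, map_sum, map_mul, map_natCast, Finset.sum_mul]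
  rw [Finset.sum_comm]
  refine Finset.sum_congr rfl fun β _ => ?_
  have h2 := congrArg π (valInt_res_inner C ψ β)
  simp only [map_sum, map_mul, map_natCast] at h2
  rw [mul_left_comm, ← h2, Finset.mul_sum]
  refine Fintype.sum_equiv (Equiv.inv C) _ _ fun c => ?_
  simp only [Equiv.inv_apply, inv_inv, Subgroup.coe_inv]
  ring

include hP hG hC hM in
/-- Some multiplicity is prime to `p`. -/
theorem exists_mult_ne_zero [Fintype C] {χ : Cfsg.IrrCharacter G} (hχ : IsInv P (χ : G → ℂ)) :
    ∃ β : Cfsg.IrrCharacter C, (mult C χ β : AlgInt ⧸ M) ≠ 0 ∧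
      (mult C χ β : AlgInt ⧸ M) * (mult C χ β : AlgInt ⧸ M) = 1 := by
  classical
  haveI := charP_quot M hM
  haveI : M.IsMaximal := hM.2.1
  letI := Ideal.Quotient.field M
  have h := sum_mult_mul hP hG C hC M hM hχ hχ
  rw [if_pos rfl] at h
  obtain ⟨β, -, hβ⟩ := Finset.exists_ne_zero_of_sum_ne_zero (h.trans_ne one_ne_zero)
  refine ⟨β, left_ne_zero_of_mul hβ, ?_⟩
  rw [← h]
  symm
  refine Finset.sum_eq_single_of_mem β (Finset.mem_univ _) fun γ _ hγ => ?_
  have h0 := mult_mul_mult_eq_zero hP hG C hC M hM hχ hγ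
  rw [mul_eq_zero] at h0 ⊢
  rcases h0 with h0 | h0
  · exact Or.inl h0
  · exact absurd h0 (left_ne_zero_of_mul hβ)

include hP hG hC hM in
theorem exists_inv_mult_ne_zero [Fintype C] (β : Cfsg.IrrCharacter C) :
    ∃ χ : Cfsg.IrrCharacter G, IsInv P (χ : G → ℂ) ∧ (mult C χ β : AlgInt ⧸ M) ≠ 0 := by
  classical
  haveI := charP_quot M hM
  haveI : M.IsMaximal := hM.2.1
  letI := Ideal.Quotient.field M
  by_contra hcon
  push Not at hcon
  letI : MulAction P (Cfsg.IrrCharacter G) := irrAction P
  have hN0 : (Nat.card C : AlgInt ⧸ M) ≠ 0 := by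
    rw [Ne, CharP.cast_eq_zero_iff (AlgInt ⧸ M) p]
    exact not_dvd_card_fixed hG C hC
  have hfix : ∀ χ : Cfsg.IrrCharacter G, (∀ s : P, s • χ = χ) ↔ IsInv P (χ : G → ℂ) := by
    intro χ
    constructor
    · intro h s g
      have h1 : (χ : G → ℂ) ((s⁻¹)⁻¹ • g) = (χ : G → ℂ) g :=
        congrFun (congrArg Subtype.val (h s⁻¹)) g
      rwa [inv_inv] at h1
    · intro h s
      exact Subtype.ext (funext fun g => h s⁻¹ g)
  have hzero : ∀ x : C, π (valInt β x) = 0 := by
    intro x
    have hL : ∑ y : C, π (valInt β y) *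
        ∑ χ : Cfsg.IrrCharacter G, π (valInt χ x) * π (valInt χ (y : G)⁻¹) = 0 := by
      have : ∀ y : C, ∑ χ : Cfsg.IrrCharacter G, π (valInt χ x) * π (valInt χ (y : G)⁻¹) =
          ∑ χ with IsInv P ((χ : Cfsg.IrrCharacter G) : G → ℂ),
            π (valInt χ x) * π (valInt χ (y : G)⁻¹) := by
        intro y
        rw [sum_eq_sum_fixed hP (fun χ : Cfsg.IrrCharacter G =>
          π (valInt χ x) * π (valInt χ (y : G)⁻¹))]
        · exact Finset.sum_congr (Finset.filter_congr fun χ _ => hfix χ) fun _ _ => rfl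
        · intro s χ
          have e1 : valInt (s • χ) (x : G) = valInt χ x := Subtype.ext (by
            show (χ : G → ℂ) (s⁻¹ • (x : G)) = _
            rw [(hC _).1 x.2]; rfl)
          have e2 : valInt (s • χ) (y : G)⁻¹ = valInt χ (y : G)⁻¹ := Subtype.ext (by
            show (χ : G → ℂ) (s⁻¹ • (y : G)⁻¹) = _
            rw [(hC _).1 (inv_mem y.2)]; rfl)
          simp only [e1, e2]
      simp only [this, Finset.mul_sum]
      rw [Finset.sum_comm]
      refine Finset.sum_eq_zero fun χ hχ => ?_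
      have h2 := congrArg π (valInt_res_inner C χ β)
      simp only [map_sum, map_mul, map_natCast] at h2
      rw [hcon χ (Finset.mem_filter.1 hχ).2, mul_zero] at h2
      rw [show ∑ y : C, π (valInt β y) * (π (valInt χ x) * π (valInt χ (y : G)⁻¹)) =
        π (valInt χ x) * ∑ y : C, π (valInt χ (y : G)⁻¹) * π (valInt β y) by
          rw [Finset.mul_sum]; exact Finset.sum_congr rfl fun y _ => by ring]
      rw [show ∑ y : C, π (valInt χ (y : G)⁻¹) * π (valInt β y) = 0 by
        rw [← h2]; refine Fintype.sum_equiv (Equiv.inv C) _ _ fun c => ?_; simp, mul_zero]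
    have hR : ∀ y : C, π (valInt β y) *
        ∑ χ : Cfsg.IrrCharacter G, π (valInt χ x) * π (valInt χ (y : G)⁻¹) =
        if IsConj (x : G) y then
          π (valInt β x) * (Nat.card (Subgroup.centralizer ({(x : G)} : Set G)) : AlgInt ⧸ M)
        else 0 := by
      intro y
      have h := congrArg π (valInt_second_orth (x : G) y)
      simp only [map_sum, map_mul, apply_ite π, map_natCast, map_zero] at h
      rw [h]
      split_ifs with hc
      · obtain ⟨c, hc1, hc2⟩ := exists_fixed_conj hP hG ((hC _).1 x.2) ((hC _).1 y.2) hc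
        have : y = ⟨c, (hC c).2 hc1⟩ * x * ⟨c, (hC c).2 hc1⟩⁻¹ := Subtype.ext hc2.symm
        rw [this, valInt_conj]
      · rw [mul_zero]
    simp only [hR] at hL
    rw [Finset.sum_ite, Finset.sum_const_zero, add_zero, Finset.sum_const, nsmul_eq_mul,
      ← mul_assoc, mul_comm (Nat.cast _) (π (valInt β x)), mul_assoc, ← Nat.cast_mul] at hL
    refine (mul_eq_zero.1 hL).resolve_right ?_
    rw [CharP.cast_eq_zero_iff (AlgInt ⧸ M) p, hp.1.dvd_mul, not_or]
    constructor
    · -- the class of `x` in `C` has order dividing `|C|`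
      have he : (Finset.univ.filter fun y : C => IsConj (x : G) y).card =
          Nat.card (MulAction.orbit (ConjAct C) x) := by
        rw [Nat.card_eq_fintype_card, ← Set.toFinset_card]
        congr 1
        ext y
        simp only [Finset.mem_filter, Finset.mem_univ, true_and, Set.mem_toFinset,
          ConjAct.mem_orbit_conjAct]
        constructor
        · intro hc
          obtain ⟨c, hc1, hc2⟩ := exists_fixed_conj hP hG ((hC _).1 x.2) ((hC _).1 y.2) hc
          exact (isConj_iff.2 ⟨⟨c, (hC c).2 hc1⟩, Subtype.ext hc2⟩).symm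
        · intro hc
          exact (C.subtype.map_isConj hc.symm)
      rw [he]
      refine fun hd => not_dvd_card_fixed hG C hC (hd.trans ?_)
      rw [Nat.card_congr (MulAction.orbitEquivQuotientStabilizer (ConjAct C) x)]
      exact Subgroup.card_quotient_dvd_card _
    · exact fun hd => hG (hd.trans (Subgroup.card_subgroup_dvd_card _))
  have h := congrArg π (valInt_orth β β)
  simp only [map_sum, map_mul, apply_ite π, map_natCast, map_zero, hzero, zero_mul,
    Finset.sum_const_zero, ↓reduceIte] at h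
  exact hN0 h.symm

end Main

end Cfsg.Agent.H80
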