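import Cfsg.Agent.H35.Consequences
import Cfsg.Agent.H86.IrrOps

/-!
# 2-blocks closed under complex conjugation

A 2-block closed under complex conjugation with a character of odd degree is the principal block.
-/

set_option linter.style.haveILetI false

open scoped ComplexConjugate
open MonoidAlgebra

namespace Cfsg.Agent.H80

open CharBasic BlockBasic

universe u

variable {G : Type u} [Group G] {p : ℕ} {M : Ideal AlgInt}

/-- In characteristic two a sum invariant under an involution reduces to the fixed points. -/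
theorem memLocalIdeal_sum_involution (hM : IsPModular 2 M) {ι : Type*} [Fintype ι]
    [DecidableEq ι] (σ : ι → ι) (hσ : ∀ i, σ (σ i) = i) (f : ι → ℂ)
    (hf : ∀ i, MemLocalRing M (f i)) (hinv : ∀ i, MemLocalIdeal M (f (σ i) - f i)) :
    MemLocalIdeal M (∑ i, f i - ∑ i ∈ Finset.univ.filter (fun i => σ i = i), f i) := by
  haveI := locMax_isMaximal hM
  set q := Ideal.Quotient.mk (locMax hM) with hq
  let a : ι → locRing hM := fun i => ⟨f i, hf i⟩
  have h2 : q 2 = 0 := by
    rw [hq, Ideal.Quotient.eq_zero_iff_mem]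
    exact_mod_cast natCast_p_mem_locMax hM
  have hinv' : ∀ i, q (a (σ i)) = q (a i) := fun i => by
    rw [hq, Ideal.Quotient.mk_eq_mk_iff_sub_mem, mem_locMax]
    exact hinv i
  have h0 : q (∑ i ∈ Finset.univ.filter (fun i => ¬ σ i = i), a i) = 0 := by
    rw [map_sum]
    refine Finset.sum_involution (fun i _ => σ i) (fun i _ => ?_) (fun i hi _ => ?_)
      (fun i hi => ?_) (fun i _ => hσ i)
    · rw [hinv' i, ← two_mul, ← map_ofNat q 2, h2, zero_mul]
    · simpa using (Finset.mem_filter.1 hi).2
    · rw [Finset.mem_filter] at hi ⊢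
      exact ⟨Finset.mem_univ _, fun h => hi.2 ((hσ i).symm.trans h).symm⟩
  rw [hq, Ideal.Quotient.eq_zero_iff_mem, mem_locMax] at h0
  rw [← Finset.sum_filter_add_sum_filter_not Finset.univ (fun i => σ i = i) f, add_sub_cancel_left]
  simpa [a] using h0

variable [Finite G]

/-- The conjugate character. -/
noncomputable def conjIrr (χ : Cfsg.IrrCharacter G) : Cfsg.IrrCharacter G :=
  ⟨fun g => conj ((χ : G → ℂ) g), H86.isIrr_conj χ.2⟩

theorem conjIrr_apply (χ : Cfsg.IrrCharacter G) (g : G) :
    (conjIrr χ : G → ℂ) g = conj ((χ : G → ℂ) g) := rfl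

theorem conjIrr_conjIrr (χ : Cfsg.IrrCharacter G) : conjIrr (conjIrr χ) = χ :=
  Subtype.ext (funext fun g => by simp [conjIrr_apply])

/-- The inverse map on conjugacy classes. -/
theorem isConj_out_inv (g : G) : IsConj (ConjClasses.mk g).out g :=
  ConjClasses.mk_eq_mk_iff_isConj.1 (Quotient.out_eq _)

omit [Finite G] in
theorem isConj_inv_inv {g h : G} (e : IsConj g h) : IsConj g⁻¹ h⁻¹ := by
  obtain ⟨c, rfl⟩ := isConj_iff.1 e
  exact isConj_iff.2 ⟨c, by group⟩

/-- Central characters of conjugate characters. -/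
theorem centralChar_conjIrr (ψ : Cfsg.IrrCharacter G) (g : G) :
    centralChar (conjIrr ψ : G → ℂ) g = centralChar (ψ : G → ℂ) g⁻¹ := by
  have hC : Subgroup.centralizer ({g⁻¹} : Set G) = Subgroup.centralizer ({g} : Set G) := by
    ext x
    rw [Subgroup.mem_centralizer_singleton_iff, Subgroup.mem_centralizer_singleton_iff]
    exact Commute.inv_right_iff (a := x) (b := g)
  simp only [centralChar, hC, conjIrr_apply, conj_apply_eq_inv, inv_one]

/-- Conjugation preserves the block of a real character. -/
theorem conjIrr_mem_blockOf {χ : Cfsg.IrrCharacter G} (hreal : conjIrr χ = χ)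
    {ξ : Cfsg.IrrCharacter G} (h : ξ ∈ Cfsg.blockOf M (χ : G → ℂ)) :
    conjIrr ξ ∈ Cfsg.blockOf M (χ : G → ℂ) := by
  intro g
  rw [← hreal, centralChar_conjIrr, centralChar_conjIrr]
  exact h g⁻¹

variable [Fintype G]

/-- A self-inverse class of a nontrivial element of odd order has even size. -/
theorem two_dvd_index_of_isConj_inv {g : G} (hg : ¬ 2 ∣ orderOf g) (h1 : g ≠ 1)
    (e : IsConj g g⁻¹) : 2 ∣ (Subgroup.centralizer ({g} : Set G)).index := by
  classical
  rw [← card_class g, ← ZMod.natCast_eq_zero_iff, Finset.card_eq_sum_ones, Nat.cast_sum]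
  refine Finset.sum_involution (fun h _ => h⁻¹) (fun h _ => by decide) (fun h hh _ heq => ?_)
    (fun h hh => ?_) (fun h _ => inv_inv h)
  · rw [Finset.mem_filter] at hh
    have ho : orderOf h = orderOf g := by
      obtain ⟨c, rfl⟩ := isConj_iff.1 hh.2
      exact MulEquiv.orderOf_eq (MulAut.conj c) g
    have hd : orderOf h ∣ 2 := orderOf_dvd_of_pow_eq_one (by
      rw [sq]; exact inv_eq_iff_mul_eq_one.1 heq)
    rw [ho] at hd
    rcases (Nat.dvd_prime Nat.prime_two).1 hd with h' | h'
    · exact h1 (orderOf_eq_one_iff.1 h')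
    · exact hg (by rw [h'])
  · rw [Finset.mem_filter] at hh ⊢
    exact ⟨Finset.mem_univ _, e.trans (isConj_inv_inv hh.2)⟩

/-- A conjugation closed 2-block with a character of odd degree is principal. -/
theorem eq_principalBlock_of_odd (hM : IsPModular 2 M) {B : Set (Cfsg.IrrCharacter G)}
    (hB : IsPBlock M B) (hclosed : ∀ χ ∈ B, conjIrr χ ∈ B) {χ : Cfsg.IrrCharacter G} (hχ : χ ∈ B)
    (hodd : Odd (Cfsg.charDegree (χ : G → ℂ))) : B = Cfsg.principalBlock M G := by
  classical
  haveI : Fact (Nat.Prime 2) := ⟨Nat.prime_two⟩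
  haveI : Finite (ConjClasses G) := Finite.of_surjective _ ConjClasses.mk_surjective
  haveI : Fintype (ConjClasses G) := Fintype.ofFinite _
  by_contra hne
  have htriv : (trivialIrr : Cfsg.IrrCharacter G) ∉ B := fun h =>
    hne (isPBlock_eq_of_mem hM hB (isPBlock_principalBlock M) h (sameBlock_refl hM _))
  have hcinv : ∀ g : G, blockCoeff B g⁻¹ = blockCoeff B g := by
    intro g
    simp only [blockCoeff, finsum_mem_eq_sum_ite]
    congr 1
    let e : Cfsg.IrrCharacter G ≃ Cfsg.IrrCharacter G :=
      ⟨conjIrr, conjIrr, conjIrr_conjIrr, conjIrr_conjIrr⟩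
    refine Fintype.sum_equiv e _ _ fun ψ => ?_
    show _ = if conjIrr ψ ∈ B then (conjIrr ψ : G → ℂ) 1 * conj ((conjIrr ψ : G → ℂ) g) else 0
    have hiff : ψ ∈ B ↔ conjIrr ψ ∈ B :=
      ⟨hclosed ψ, fun h => conjIrr_conjIrr ψ ▸ hclosed _ h⟩
    refine if_congr hiff ?_ rfl
    rw [conjIrr_apply, conjIrr_apply, Complex.conj_conj, conj_apply_eq_inv, conj_apply_eq_inv,
      inv_inv, inv_one]
  have key : ∀ ψ : Cfsg.IrrCharacter G, Odd (Cfsg.charDegree (ψ : G → ℂ)) →
      SameBlock M (ψ : G → ℂ) (conjIrr ψ : G → ℂ) →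
      MemLocalIdeal M (omega (ψ : G → ℂ) (blockElem B) - blockCoeff B 1) := by
    intro ψ hψodd hsame
    rw [omega_eq_sum_classes (IsIrr.isClassFunction ψ.2) (isCentralElt_blockElem B)]
    set f : ConjClasses G → ℂ := fun C =>
      (blockElem B).coeff C.out * centralChar (ψ : G → ℂ) C.out with hf
    have hfmk : ∀ g : G, f (ConjClasses.mk g) = blockCoeff B g * centralChar (ψ : G → ℂ) g := by
      intro g
      rw [hf]
      simp only [coeff_blockElem]
      rw [H35.blockCoeff_eq_of_isConj B (isConj_out_inv g),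
        H35.centralChar_eq_of_isConj ψ (isConj_out_inv g)]
    have hσ : ∀ C : ConjClasses G,
        ConjClasses.mk (ConjClasses.mk C.out⁻¹).out⁻¹ = C := by
      intro C
      refine Eq.trans (ConjClasses.mk_eq_mk_iff_isConj.2
        (isConj_inv_inv (isConj_out_inv C.out⁻¹))) ?_
      rw [inv_inv]
      exact Quotient.out_eq C
    have hring : ∀ C, MemLocalRing M (f C) := fun C =>
      memLocalRing_mul hM (isIntElt_blockElem hM hB _) (memLocalRing_centralChar hM ψ.2 _)
    have hinv : ∀ C, MemLocalIdeal M (f (ConjClasses.mk C.out⁻¹) - f C) := by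
      intro C
      rw [hfmk, hcinv, show f C = blockCoeff B C.out * centralChar (ψ : G → ℂ) C.out by
        rw [← hfmk]; exact congrArg f (Quotient.out_eq C).symm, ← mul_sub]
      refine memLocalIdeal_mul hM (memLocalRing_blockCoeff hM hB _) ?_
      rw [← centralChar_conjIrr, ← neg_sub]
      exact memLocalIdeal_neg (hsame _)
    have h := memLocalIdeal_sum_involution hM (fun C => ConjClasses.mk C.out⁻¹) hσ f hring hinv
    have hrest : MemLocalIdeal M
        (∑ C ∈ Finset.univ.filter (fun C : ConjClasses G => ConjClasses.mk C.out⁻¹ = C), f C -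
          blockCoeff B 1) := by
      have h1 : f (ConjClasses.mk 1) = blockCoeff B 1 := by
        rw [hfmk, centralChar, mul_div_assoc, div_self (irr_one_ne_zero ψ.2),
          show Subgroup.centralizer ({(1 : G)} : Set G) = ⊤ by
            ext x; simp [Subgroup.mem_centralizer_singleton_iff]]
        simp
      have hmem : ConjClasses.mk (1 : G) ∈
          Finset.univ.filter (fun C : ConjClasses G => ConjClasses.mk C.out⁻¹ = C) := by
        refine Finset.mem_filter.2 ⟨Finset.mem_univ _, ?_⟩
        refine (ConjClasses.mk_eq_mk_iff_isConj.2 (isConj_inv_inv (isConj_out_inv 1))).trans ?_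
        rw [inv_one]
      rw [← Finset.add_sum_erase _ _ hmem, h1, add_sub_cancel_left]
      refine memLocalIdeal_sum hM _ _ fun C hC => ?_
      rw [Finset.mem_erase, Finset.mem_filter] at hC
      obtain ⟨hC1, -, hC2⟩ := hC
      obtain ⟨g, rfl⟩ := ConjClasses.mk_surjective C
      rw [hfmk]
      by_cases hg : 2 ∣ orderOf g
      · rw [blockCoeff_eq_zero_of_singular hM hB hg, zero_mul]
        exact memLocalIdeal_zero hM
      · refine memLocalIdeal_mul hM (memLocalRing_blockCoeff hM hB g) ?_
        have hne1 : g ≠ 1 := fun e => hC1 (by rw [e])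
        have hconj : IsConj g g⁻¹ :=
          ((isConj_inv_inv (isConj_out_inv g)).symm.trans
            (ConjClasses.mk_eq_mk_iff_isConj.1 hC2)).symm
        rw [centralChar, apply_one_eq_charDegree, div_eq_mul_inv, mul_assoc, mul_comm]
        refine memLocalIdeal_mul hM (memLocalRing_mul hM
          (memLocalRing_of_isIntegral hM (isIntegral_apply ψ g))
          (memLocalRing_natCast_inv hM ?_))
          ((memLocalIdeal_natCast_iff hM _).2 (two_dvd_index_of_isConj_inv hg hne1 hconj))
        rw [← even_iff_two_dvd, Nat.not_even_iff_odd]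
        exact hψodd
    simpa using memLocalIdeal_add hM h hrest
  have h1 := key χ hodd (isPBlock_sameBlock hM hB hχ (hclosed χ hχ))
  rw [omega_blockElem, if_pos hχ] at h1
  have hct : (conjIrr (trivialIrr : Cfsg.IrrCharacter G)) = trivialIrr :=
    Subtype.ext (funext fun g => by simp [conjIrr_apply, trivialIrr])
  have h0 := key trivialIrr ?_ (by rw [hct]; exact sameBlock_refl hM _)
  · rw [omega_blockElem, if_neg htriv] at h0
    exact not_memLocalIdeal_one hM (by simpa using memLocalIdeal_sub hM h1 h0)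
  · simp [Cfsg.charDegree, trivialIrr]

end Cfsg.Agent.H80
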