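import Cfsg.Agent.CharInduce.Gallagher
import Cfsg.Agent.CharInduce.Ops
import Cfsg.Agent.CharInduce.Transport
import Cfsg.Agent.H35.Extend

/-!
Fully ramified sections under a cyclic Frobenius action.
-/

namespace Cfsg.Agent.H80.FullyRamified

open Finset
open Cfsg.Agent.CharBasic Cfsg.Agent.CharInduce

universe u

variable {H : Type u} [Group H] [Fintype H]

theorem exists_extension {N : Subgroup H} [N.Normal] {θ : N → ℂ}
    (hθ : Cfsg.IsIrrCharacter N θ) (hinv : ∀ x : H, conjFun N θ x = θ)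
    (hcyc : IsCyclic (H ⧸ N)) :
    ∃ χ : H → ℂ, Cfsg.IsIrrCharacter H χ ∧ ∀ m : N, χ m = θ m := by
  obtain ⟨n, ρ, hρ, rfl⟩ := hθ
  haveI := hρ
  exact H35.Extend.exists_extension_cyclic ρ (fun g m => congrFun (hinv g) m) hcyc

/-- Over an invariant character with cyclic quotient there are exactly index many characters,
each of them an extension. -/
theorem above_invariant_cyclic {N : Subgroup H} [N.Normal] [Fintype N] {θ : N → ℂ}
    (hθ : Cfsg.IsIrrCharacter N θ) (hinv : ∀ x : H, conjFun N θ x = θ)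
    (hcyc : IsCyclic (H ⧸ N)) :
    (above N θ).card = N.index ∧ ∀ ψ ∈ above N θ, ∀ n : N, (ψ : H → ℂ) n = θ n := by
  classical
  obtain ⟨η, hη, hext⟩ := exists_extension hθ hinv hcyc
  have h1θ : (fun _ : N => (1 : ℂ)) * θ = θ := funext fun n => one_mul _
  obtain ⟨-, -, hsurj⟩ := gallagher N isIrrCharacter_one hθ (conjFun_one_char N) hinv
    (by rw [h1θ]; exact hθ) hη hext
  have hres : ∀ ψ ∈ above N θ, ∀ n : N, (ψ : H → ℂ) n = θ n := by
    intro ψ hψ n
    obtain ⟨β, hβ, hβψ⟩ := hsurj ψ ψ.2 (by rw [h1θ]; exact (mem_above N).mp hψ)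
    have hk : ∀ n ∈ N, (β : H → ℂ) n = (β : H → ℂ) 1 := by
      rw [← constituent_one_iff N β.2]
      intro h
      rw [mem_above, classInner_indFun_left N _ _ (CharBasic.IsIrr.isClassFunction β.2),
        ← conj_classInner, h, map_zero] at hβ
      exact hβ rfl
    obtain ⟨b, -, hb, hirr⟩ := IsChar.exists_deflate (CharBasic.IsIrr.isCharacter β.2) N hk
    have hd : (β : H → ℂ) 1 = 1 := by
      rw [hb 1]
      exact IsIrr.degree_one_of_comm (fun a b => by
        obtain ⟨g, hg⟩ := hcyc.exists_generator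
        obtain ⟨i, rfl⟩ := Subgroup.mem_zpowers_iff.mp (hg a)
        obtain ⟨j, rfl⟩ := Subgroup.mem_zpowers_iff.mp (hg b)
        exact (Commute.zpow_zpow_self g i j).eq) (hirr β.2)
    rw [← hβψ, Pi.mul_apply, hk _ n.2, hd, one_mul, hext n]
  refine ⟨?_, hres⟩
  have hcoef : ∀ ψ ∈ above N θ, classInner (indFun N θ) (ψ : H → ℂ) = 1 := by
    intro ψ hψ
    rw [classInner_indFun_left N _ _ (CharBasic.IsIrr.isClassFunction ψ.2),
      show (fun n : N => (ψ : H → ℂ) n) = θ from funext (hres ψ hψ), classInner_irr_self hθ]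
  have hnorm := classInner_indFun_self_of_invariant N hθ hinv
  rw [classInner_eq_sum (isClassFunction_indFun N θ),
    ← Finset.sum_subset (Finset.subset_univ (above N θ))
      (fun ψ _ hψ => by rw [mem_above, not_not] at hψ; rw [hψ, zero_mul]),
    Finset.sum_congr rfl (fun ψ hψ => by rw [hcoef ψ hψ, map_one, mul_one]), Finset.sum_const,
    nsmul_eq_mul, mul_one] at hnorm
  exact_mod_cast hnorm

/-- Integer weights of nearly equal size. -/
theorem congruence_of_weights {ι : Type*} (s : Finset ι) (a : ι → ℕ) {m e : ℕ} (hm : 1 < m)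
    (hs : s.card = m) (h1 : ∑ i ∈ s, a i = e)
    (h2 : m * ∑ i ∈ s, a i * a i = e * e + (m - 1)) :
    (m : ℤ) ∣ (e : ℤ) - 1 ∨ (m : ℤ) ∣ (e : ℤ) + 1 := by
  set k : ℤ := ((e / m : ℕ) : ℤ) with hk
  set r : ℤ := ((e % m : ℕ) : ℤ) with hr
  have he : (e : ℤ) = m * k + r := by rw [hk, hr]; exact_mod_cast (Nat.div_add_mod e m).symm
  have hrm : r < m := by rw [hr]; exact_mod_cast Nat.mod_lt e (by omega)
  have hr0 : 0 ≤ r := by rw [hr]; exact Int.natCast_nonneg _
  have hs1 : ∑ i ∈ s, ((a i : ℤ) - k) = r := by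
    rw [Finset.sum_sub_distrib, Finset.sum_const, hs, nsmul_eq_mul, ← Nat.cast_sum, h1, he]
    ring
  have hs2 : (m : ℤ) * ∑ i ∈ s, ((a i : ℤ) - k) * ((a i : ℤ) - k) = r * r + (m - 1) := by
    have h2' : (m : ℤ) * ∑ i ∈ s, (a i : ℤ) * a i = e * e + (m - 1) := by
      have := congrArg (Nat.cast (R := ℤ)) h2
      push_cast [Nat.cast_sub hm.le] at this
      exact this
    have hsplit : ∑ i ∈ s, ((a i : ℤ) - k) * ((a i : ℤ) - k)
        = ∑ i ∈ s, (a i : ℤ) * a i - 2 * k * ∑ i ∈ s, (a i : ℤ) + s.card * (k * k) := by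
      rw [Finset.mul_sum, ← nsmul_eq_mul, ← Finset.sum_const, ← Finset.sum_sub_distrib,
        ← Finset.sum_add_distrib]
      exact Finset.sum_congr rfl fun i _ => by ring
    rw [hsplit, hs, ← Nat.cast_sum, h1, mul_add, mul_sub, h2', he]
    ring
  have hle : r ≤ ∑ i ∈ s, ((a i : ℤ) - k) * ((a i : ℤ) - k) := by
    rw [← hs1]
    exact Finset.sum_le_sum fun i _ => Int.le_self_sq _ |>.trans_eq (pow_two _)
  have hle' : (m : ℤ) * r ≤ r * r + (m - 1) := by
    rw [← hs2]; exact mul_le_mul_of_nonneg_left hle (by positivity)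
  have hm' : (1 : ℤ) < m := by exact_mod_cast hm
  by_cases hr1 : r = 0
  · exfalso
    rw [hr1] at hs2
    simp only [mul_zero, zero_add] at hs2
    have hd : (m : ℤ) ∣ (m : ℤ) - 1 := ⟨_, hs2.symm⟩
    have := Int.le_of_dvd (by linarith) hd
    linarith
  · by_cases hr2 : r = 1
    · left; exact ⟨k, by rw [he, hr2]; ring⟩
    · right
      have h3 : 2 ≤ r := by omega
      have h4 : (m : ℤ) - 1 ≤ r := by nlinarith
      refine ⟨k + 1, ?_⟩
      rw [he, show r = (m : ℤ) - 1 by omega]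
      ring

section sums

variable {Γ : Type u} [Group Γ] [Fintype Γ] (G N K : Subgroup Γ) [G.Normal] [N.Normal]

/-- The sum of a class function outside `G` in terms of a supplement meeting `G` in `N`. -/
theorem sum_outside [DecidablePred (· ∈ G)] [Fintype K] (hNG : N ≤ G) (hinf : K ⊓ G = N)
    (hidx : (N.subgroupOf K).index = G.index) (hcomm : ∀ a b : Γ, a * b * a⁻¹ * b⁻¹ ∈ G)
    (hfrob : ∀ x : Γ, x ∉ G → ∀ g : Γ, g ∈ G → x * g * x⁻¹ * g⁻¹ ∈ N → g ∈ N)
    (F : Γ → ℂ) (hF : Cfsg.IsClassFunction Γ F) :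
    ∑ y ∈ univ.filter (fun y : Γ => y ∉ G), F y
      = (N.relIndex G : ℂ) * ∑ h ∈ univ.filter (fun h : K => (h : Γ) ∉ G), F h := by
  classical
  have hNK : N ≤ K := hinf ▸ inf_le_left
  let Q := G ⧸ N.subgroupOf G
  haveI : Fintype Q := Fintype.ofFinite _
  let A : Finset (Q × K) := univ ×ˢ univ.filter (fun h : K => (h : Γ) ∉ G)
  let c : Q × K → Γ := fun z => (z.1.out : Γ) * (z.2 : Γ) * (z.1.out : Γ)⁻¹
  have hmem : ∀ z ∈ A, c z ∉ G := by
    intro z hz h
    simp only [A, mem_product, mem_filter, mem_univ, true_and] at hz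
    apply hz
    have := Subgroup.Normal.conj_mem (inferInstance : G.Normal) _ h (z.1.out : Γ)⁻¹
    simpa [c, mul_assoc] using this
  have hinj : Set.InjOn c A := by
    rintro ⟨q, h⟩ hz ⟨q', h'⟩ hz' e
    simp only [A, coe_product, Set.mem_prod, coe_filter, Set.mem_setOf_eq, mem_univ,
      true_and, coe_univ, Set.mem_univ] at hz hz'
    simp only [c] at e
    set u : G := q'.out⁻¹ * q.out with hu
    have h1 : (u : Γ) * h * (u : Γ)⁻¹ = h' := by
      calc (u : Γ) * h * (u : Γ)⁻¹
          = (q'.out : Γ)⁻¹ * ((q.out : Γ) * h * (q.out : Γ)⁻¹) * q'.out := by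
            simp only [hu, Subgroup.coe_mul, Subgroup.coe_inv]; group
        _ = (q'.out : Γ)⁻¹ * ((q'.out : Γ) * h' * (q'.out : Γ)⁻¹) * q'.out := by rw [e]
        _ = h' := by group
    have h2 : (h : Γ) * u * (h : Γ)⁻¹ * (u : Γ)⁻¹ ∈ N := by
      have h3 : (u : Γ) * h * (u : Γ)⁻¹ * (h : Γ)⁻¹ ∈ N := by
        rw [← hinf]
        refine ⟨K.mul_mem (h1 ▸ h'.2) (K.inv_mem h.2), ?_⟩
        exact hcomm (u : Γ) (h : Γ)
      have := N.inv_mem h3
      simpa [mul_assoc] using this
    have h4 : (u : Γ) ∈ N := hfrob _ hz _ u.2 h2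
    have hq : q' = q := by
      rw [← QuotientGroup.out_eq' q', ← QuotientGroup.out_eq' q, QuotientGroup.eq]
      exact Subgroup.mem_subgroupOf.mpr h4
    subst hq
    refine Prod.ext rfl (Subtype.ext ?_)
    exact mul_left_cancel (mul_right_cancel e)
  have hcardA : A.card = (univ.filter fun y : Γ => y ∉ G).card := by
    simp only [A, card_product, card_univ]
    rw [← Fintype.card_subtype, ← Fintype.card_subtype, Fintype.card_subtype_compl,
      Fintype.card_subtype_compl]
    have e1 : Fintype.card {h : K // (h : Γ) ∈ G} = Nat.card N := by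
      rw [← Nat.card_eq_fintype_card]
      exact Nat.card_congr
        { toFun := fun h => ⟨h.1.1, hinf ▸ ⟨h.1.2, h.2⟩⟩
          invFun := fun n => ⟨⟨n.1, hNK n.2⟩, hNG n.2⟩
          left_inv := fun h => rfl
          right_inv := fun n => rfl }
    have e2 : Fintype.card K = Nat.card N * G.index := by
      rw [← Nat.card_eq_fintype_card, ← (N.subgroupOf K).card_mul_index, hidx,
        Nat.card_congr (Subgroup.subgroupOfEquivOfLe hNK).toEquiv]
    have e3 : Fintype.card Γ = Nat.card G * G.index := by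
      rw [← Nat.card_eq_fintype_card, G.card_mul_index]
    have e4 : Nat.card G = Nat.card N * Fintype.card Q := by
      rw [← Nat.card_eq_fintype_card (α := Q), ← Subgroup.index_eq_card,
        ← Nat.card_congr (Subgroup.subgroupOfEquivOfLe hNG).toEquiv, Subgroup.card_mul_index]
    rw [e1, e2, e3, ← Nat.card_eq_fintype_card (α := {y : Γ // y ∈ G}), e4, Nat.mul_sub]
    congr 1 <;> ring
  have himg : A.image c = univ.filter fun y : Γ => y ∉ G := by
    refine eq_of_subset_of_card_le (fun y hy => ?_) ?_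
    · obtain ⟨z, hz, rfl⟩ := mem_image.mp hy
      simpa using hmem z hz
    · rw [card_image_of_injOn hinj, hcardA]
  rw [← himg, sum_image hinj, sum_product]
  have hconst : ∀ (q : Q) (h : K), F (c (q, h)) = F h := fun q h => hF h (q.out : Γ)
  simp only [hconst, sum_const, card_univ, nsmul_eq_mul]
  rw [Subgroup.relIndex, Subgroup.index_eq_card, Nat.card_eq_fintype_card]

end sums

end Cfsg.Agent.H80.FullyRamified
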