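import Cfsg.Agent.H80.GlaubermanAmbient
import Cfsg.Agent.H80.Clifford
import Mathlib.GroupTheory.Solvable
import Mathlib.GroupTheory.Sylow

/-!
# Iterating the Glauberman correspondence along a solvable group of operators
-/

set_option linter.style.haveILetI false

open scoped ComplexConjugate

namespace Cfsg.Agent.H80

open Cfsg.Agent.CharBasic Cfsg.Agent.BlockBasic
open scoped commutatorElement

variable {Γ : Type*} [Group Γ]

section Twist

/-- Conjugation by `t` as an automorphism of `G`. -/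
def conjEquiv (G : Subgroup Γ) (t : Γ) (h : ∀ g ∈ G, t * g * t⁻¹ ∈ G)
    (h' : ∀ g ∈ G, t⁻¹ * g * t ∈ G) : G ≃* G where
  toFun g := ⟨t * g * t⁻¹, h g g.2⟩
  invFun g := ⟨t⁻¹ * g * t, h' g g.2⟩
  left_inv g := Subtype.ext (by simp [mul_assoc])
  right_inv g := Subtype.ext (by simp [mul_assoc])
  map_mul' a b := Subtype.ext (by simp [mul_assoc])

variable {G S : Subgroup Γ} (hnorm : ∀ s ∈ S, ∀ g ∈ G, s * g * s⁻¹ ∈ G)

/-- Conjugation by an element of `S` as an automorphism of `G`. -/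
def conjS (s : S) : G ≃* G :=
  conjEquiv G s (hnorm s s.2) (fun g hg => by simpa using hnorm _ (inv_mem s.2) g hg)

@[simp] theorem conjS_coe (s : S) (g : G) : ((conjS hnorm s g : G) : Γ) = s * g * (s : Γ)⁻¹ := rfl

theorem aInv_iff_twist (χ : Cfsg.IrrCharacter G) :
    AInv S (χ : G → ℂ) ↔ ∀ s : S, twist χ (conjS hnorm s) = χ := by
  refine ⟨fun h s => Subtype.ext (funext fun g => h s s.2 g _ rfl), fun h s hs g g' e => ?_⟩
  have h1 := congrFun (congrArg Subtype.val (h ⟨s, hs⟩)) g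
  have e' : g' = conjS hnorm ⟨s, hs⟩ g := Subtype.ext e
  rw [e']; exact h1

end Twist

variable [Fintype Γ]

/-- A non-central p-subgroup of a solvable group of operators, normal modulo the kernel. -/
theorem exists_step (G S : Subgroup Γ) (hsolv : Group.IsSolvable S)
    (hnc : ¬ S ≤ Subgroup.centralizer (G : Set Γ)) :
    ∃ (q : ℕ) (P K : Subgroup Γ), q.Prime ∧ P ≤ S ∧ IsPGroup q P ∧
      ¬ P ≤ Subgroup.centralizer (G : Set Γ) ∧ K ≤ Subgroup.centralizer (G : Set Γ) ∧
      ∀ s ∈ S, ∀ π ∈ P, s * π * s⁻¹ ∈ P ⊔ K := by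
  classical
  obtain ⟨n, hn⟩ := hsolv
  let I : Subgroup S := (Subgroup.centralizer (G : Set Γ)).subgroupOf S
  have hex : ∃ i, derivedSeries S i ≤ I := ⟨n, by rw [hn]; exact bot_le⟩
  have h0 : ¬ derivedSeries S 0 ≤ I := by
    intro h
    apply hnc
    intro s hs
    exact (h (x := ⟨s, hs⟩) (by rw [derivedSeries_zero]; exact Subgroup.mem_top _))
  obtain ⟨i, hi⟩ : ∃ i, Nat.find hex = i + 1 := by
    refine ⟨Nat.find hex - 1, ?_⟩
    have : Nat.find hex ≠ 0 := fun e => h0 (e ▸ Nat.find_spec hex)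
    omega
  have hAnot : ¬ derivedSeries S i ≤ I := Nat.find_min hex (by omega)
  have hA' : derivedSeries S (i + 1) ≤ I := hi ▸ Nat.find_spec hex
  set A : Subgroup S := derivedSeries S i with hA
  haveI : A.Normal := derivedSeries_normal S i
  let J : Subgroup A := I.subgroupOf A
  have hJ : J.index ≠ 1 := fun e => hAnot (Subgroup.subgroupOf_eq_top.1 (Subgroup.index_eq_one.1 e))
  obtain ⟨q, hq, hqd⟩ := Nat.exists_prime_and_dvd hJ
  haveI : Fact q.Prime := ⟨hq⟩
  obtain ⟨P⟩ : Nonempty (Sylow q A) := inferInstance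
  let ι : A →* Γ := S.subtype.comp A.subtype
  refine ⟨q, (P : Subgroup A).map ι, (commutator A).map ι, hq, ?_, P.2.map ι, ?_, ?_, ?_⟩
  · rintro _ ⟨a, -, rfl⟩
    exact (a : S).2
  · intro h
    have hle : (P : Subgroup A) ≤ J := fun a ha => h ⟨a, ha, rfl⟩
    exact P.not_dvd_index (hqd.trans (Subgroup.index_dvd_of_le hle))
  · have hc : (commutator A).map A.subtype = derivedSeries S (i + 1) := by
      rw [derivedSeries_succ, ← hA, Subgroup.map_subtype_commutator]
    rw [← Subgroup.map_map, hc]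
    rintro _ ⟨x, hx, rfl⟩
    exact hA' hx
  · rintro s hs _ ⟨a, ha, rfl⟩
    let W : Subgroup A := (P : Subgroup A) ⊔ commutator A
    haveI : W.Normal := ⟨fun w hw g => by
      have : g * w * g⁻¹ = ⁅g, w⁆ * w := by simp [commutatorElement_def]
      rw [this]
      exact mul_mem (le_sup_right (a := (P : Subgroup A))
        (Subgroup.commutator_mem_commutator (Subgroup.mem_top g) (Subgroup.mem_top w))) hw⟩
    let x : A := MulAut.conjNormal (⟨s, hs⟩ : S) a
    have hxW : x ∈ W := by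
      rw [← QuotientGroup.eq_one_iff, ← orderOf_eq_one_iff]
      obtain ⟨k, hk⟩ := P.2 ⟨a, ha⟩
      have h1 : orderOf (x : A ⧸ W) ∣ q ^ k := by
        refine (orderOf_map_dvd (QuotientGroup.mk' W) x).trans ?_
        rw [orderOf_dvd_iff_pow_eq_one, show x ^ q ^ k =
          MulAut.conjNormal (⟨s, hs⟩ : S) (a ^ q ^ k) from (map_pow _ _ _).symm,
          show a ^ q ^ k = 1 from congrArg Subtype.val hk, map_one]
      have h2 : orderOf (x : A ⧸ W) ∣ W.index := orderOf_dvd_natCard _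
      have hco : (q ^ k).Coprime W.index := by
        refine (hq.coprime_iff_not_dvd.2 fun hd => ?_).pow_left k
        exact P.not_dvd_index (hd.trans (Subgroup.index_dvd_of_le le_sup_left))
      exact Nat.eq_one_of_dvd_coprimes hco h1 h2
    rw [← Subgroup.map_sup]
    exact ⟨x, hxW, by simp [ι, x, MulAut.conjNormal_apply]⟩

/-- The set of `χ`-stabilising elements. -/
theorem aInv_sup {G P K : Subgroup Γ} {χ : G → ℂ} (hP : AInv P χ)
    (hnP : ∀ s ∈ P, ∀ g ∈ G, s * g * s⁻¹ ∈ G) (hK : K ≤ Subgroup.centralizer (G : Set Γ))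
    {t : Γ} (ht : t ∈ P ⊔ K) :
    (∀ g ∈ G, t * g * t⁻¹ ∈ G) ∧ ∀ g g' : G, (g' : Γ) = t * g * t⁻¹ → χ g' = χ g := by
  rw [Subgroup.sup_eq_closure] at ht
  induction ht using Subgroup.closure_induction_left with
  | one =>
    exact ⟨fun g hg => by simpa using hg, fun g g' e => congrArg χ (Subtype.ext (by simpa using e))⟩
  | mul_left x hx y _ ih =>
    have hxx : (∀ g ∈ G, x * g * x⁻¹ ∈ G) ∧
        ∀ g g' : G, (g' : Γ) = x * g * x⁻¹ → χ g' = χ g := by
      rcases hx with hx | hx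
      · exact ⟨hnP x hx, hP x hx⟩
      · have hc : ∀ g ∈ G, x * g * x⁻¹ = g := fun g hg => by
          rw [← Subgroup.mem_centralizer_iff.1 (hK hx) g hg]; group
        exact ⟨fun g hg => (hc g hg).symm ▸ hg,
          fun g g' e => congrArg χ (Subtype.ext (e.trans (hc g g.2)))⟩
    refine ⟨fun g hg => ?_, fun g g' e => ?_⟩
    · rw [show x * y * g * (x * y)⁻¹ = x * (y * g * y⁻¹) * x⁻¹ by group]
      exact hxx.1 _ (ih.1 g hg)
    · rw [hxx.2 ⟨_, ih.1 g g.2⟩ g' (by rw [e]; group)]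
      exact ih.2 g _ rfl
  | inv_mul_cancel x hx y _ ih =>
    have hx' : x⁻¹ ∈ (P : Set Γ) ∪ K := hx.imp inv_mem inv_mem
    have hxx : (∀ g ∈ G, x⁻¹ * g * x⁻¹⁻¹ ∈ G) ∧
        ∀ g g' : G, (g' : Γ) = x⁻¹ * g * x⁻¹⁻¹ → χ g' = χ g := by
      rcases hx' with hx | hx
      · exact ⟨hnP _ hx, hP _ hx⟩
      · have hc : ∀ g ∈ G, x⁻¹ * g * x⁻¹⁻¹ = g := fun g hg => by
          rw [← Subgroup.mem_centralizer_iff.1 (hK hx) g hg]; group
        exact ⟨fun g hg => (hc g hg).symm ▸ hg,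
          fun g g' e => congrArg χ (Subtype.ext (e.trans (hc g g.2)))⟩
    refine ⟨fun g hg => ?_, fun g g' e => ?_⟩
    · rw [show x⁻¹ * y * g * (x⁻¹ * y)⁻¹ = x⁻¹ * (y * g * y⁻¹) * x⁻¹⁻¹ by group]
      exact hxx.1 _ (ih.1 g hg)
    · rw [hxx.2 ⟨_, ih.1 g g.2⟩ g' (by rw [e]; group)]
      exact ih.2 g _ rfl

/-- Data of one step of the iteration. -/
structure Step (q : ℕ) (G S P K D : Subgroup Γ) : Prop where
  hq : q.Prime
  hnorm : ∀ s ∈ S, ∀ g ∈ G, s * g * s⁻¹ ∈ G
  hPS : P ≤ S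
  hK : K ≤ Subgroup.centralizer (G : Set Γ)
  hmem : ∀ s ∈ S, ∀ π ∈ P, s * π * s⁻¹ ∈ P ⊔ K
  setting : Setting q G P D
  hlt : D < G

theorem exists_Step (G S : Subgroup Γ) (hnorm : ∀ s ∈ S, ∀ g ∈ G, s * g * s⁻¹ ∈ G)
    (hcop : (Nat.card G).Coprime (Nat.card S)) (hsolv : Group.IsSolvable S)
    (hnc : ¬ S ≤ Subgroup.centralizer (G : Set Γ)) :
    ∃ q P K D, Step q G S P K D := by
  obtain ⟨q, P, K, hq, hPS, hP, hPc, hK, hmem⟩ := exists_step G S hsolv hnc
  haveI : Fact q.Prime := ⟨hq⟩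
  refine ⟨q, P, K, G ⊓ Subgroup.centralizer (P : Set Γ), hq, hnorm, hPS, hK, hmem, ⟨fun s hs => hnorm s (hPS hs), hP, ?_, fun g => ?_⟩, ?_⟩
  · obtain ⟨k, hk⟩ := hP.exists_card_eq
    rcases k with _ | k
    · exact absurd ((Subgroup.card_eq_one.1 (by simpa using hk)) ▸ bot_le) hPc
    · exact fun hd => hq.ne_one (Nat.eq_one_of_dvd_coprimes hcop hd
        ((hk ▸ dvd_pow_self q k.succ_ne_zero : q ∣ Nat.card P).trans
          (Subgroup.card_dvd_of_le hPS)))
  · rw [Subgroup.mem_inf, Subgroup.mem_centralizer_iff]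
    rfl
  · refine lt_of_le_of_ne inf_le_left fun e => hPc fun π hπ => ?_
    rw [Subgroup.mem_centralizer_iff]
    intro g hg
    exact ((Subgroup.mem_inf.1 (e.symm ▸ hg : g ∈ G ⊓ Subgroup.centralizer (P : Set Γ))).2 π hπ).symm

variable {q : ℕ} {G S P K D : Subgroup Γ}

omit [Fintype Γ] in
theorem Step.norm_inf (h : Step q G S P K D) : ∀ s ∈ S, ∀ g ∈ D, s * g * s⁻¹ ∈ D := by
  intro s hs g hg
  obtain ⟨hgG, hgP⟩ := (h.setting.hC g).1 hg
  refine (h.setting.hC _).2 ⟨h.hnorm s hs g hgG, fun π hπ => ?_⟩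
  have hw : s⁻¹ * π * s ∈ P ⊔ K := by simpa using h.hmem _ (inv_mem hs) π hπ
  have hle : P ⊔ K ≤ Subgroup.centralizer ({g} : Set Γ) := by
    refine sup_le (fun x hx => ?_) (fun x hx => ?_) <;>
      rw [Subgroup.mem_centralizer_singleton_iff]
    · exact hgP x hx
    · exact (Subgroup.mem_centralizer_iff.1 (h.hK hx) g hgG).symm
  have := Subgroup.mem_centralizer_singleton_iff.1 (hle hw)
  calc π * (s * g * s⁻¹) = s * (s⁻¹ * π * s * g) * s⁻¹ := by group
    _ = s * (g * (s⁻¹ * π * s)) * s⁻¹ := by rw [this]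
    _ = s * g * s⁻¹ * π := by group

theorem Step.twist_aInv (h : Step q G S P K D) (χ : Cfsg.IrrCharacter G)
    (hχ : AInv P (χ : G → ℂ)) (s : S) :
    AInv P ((twist χ (conjS h.hnorm s) : Cfsg.IrrCharacter G) : G → ℂ) := by
  intro π hπ g g' e
  show (χ : G → ℂ) (conjS h.hnorm s g') = (χ : G → ℂ) (conjS h.hnorm s g)
  refine (aInv_sup hχ (fun x hx => h.hnorm x (h.hPS hx)) h.hK (h.hmem s s.2 π hπ)).2 _ _ ?_
  simp only [conjS_coe, e]
  group

/-- Twisting preserves correspondence. -/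
theorem corr_twist [Fintype G] {C : Subgroup Γ} [Fintype C] (hCG : C ≤ G) {p : ℕ}
    (eG : G ≃* G) (eC : C ≃* C)
    (hcompat : ∀ c : C, ((eC c : C) : Γ) = (eG ⟨c, hCG c.2⟩ : G))
    {χ : Cfsg.IrrCharacter G} {β : Cfsg.IrrCharacter C} (h : Corr p hCG χ β) :
    Corr p hCG (twist χ eG) (twist β eC) := by
  obtain ⟨m, hm, hpm⟩ := h
  refine ⟨m, ?_, hpm⟩
  rw [← hm, ← classInner_comp_mulEquiv eC (resFun hCG (χ : G → ℂ)) (β : C → ℂ)]
  congr 1
  funext c
  show (χ : G → ℂ) (eG ⟨c, hCG c.2⟩) = (χ : G → ℂ) ⟨eC c, _⟩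
  exact congrArg _ (Subtype.ext (hcompat c).symm)

theorem Step.glauberman_twist [hqf : Fact q.Prime] (h : Step q G S P K D) [Fintype G]
    [Fintype D]
    (χ : {χ : Cfsg.IrrCharacter G // AInv P (χ : G → ℂ)}) (s : S) :
    glauberman h.setting ⟨twist χ.1 (conjS h.hnorm s), h.twist_aInv χ.1 χ.2 s⟩ =
      twist (glauberman h.setting χ) (conjS h.norm_inf s) :=
  corr_unique (β := glauberman h.setting ⟨twist χ.1 (conjS h.hnorm s), h.twist_aInv χ.1 χ.2 s⟩)
    (β' := twist (glauberman h.setting χ) (conjS h.norm_inf s))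
    h.setting (h.twist_aInv χ.1 χ.2 s)
    (glauberman_corr h.setting ⟨twist χ.1 (conjS h.hnorm s), h.twist_aInv χ.1 χ.2 s⟩)
    (corr_twist h.setting.hCG (conjS h.hnorm s) (conjS h.norm_inf s) (fun c => by simp)
      (glauberman_corr h.setting χ))

theorem Step.aInv_glauberman_iff [Fact q.Prime] (h : Step q G S P K D) [Fintype G]
    [Fintype D]
    (χ : {χ : Cfsg.IrrCharacter G // AInv P (χ : G → ℂ)}) :
    AInv S ((glauberman h.setting χ : Cfsg.IrrCharacter _) : D → ℂ) ↔ AInv S (χ.1 : G → ℂ) := by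
  rw [aInv_iff_twist h.norm_inf, aInv_iff_twist h.hnorm]
  refine forall_congr' fun s => ?_
  rw [← h.glauberman_twist, Equiv.apply_eq_iff_eq, Subtype.ext_iff]

omit [Fintype Γ] in
theorem aInv_mono {G : Subgroup Γ} {χ : G → ℂ} {P S : Subgroup Γ} (h : P ≤ S) (hS : AInv S χ) :
    AInv P χ := fun s hs => hS s (h hs)

/-- The invariant characters of `G` and of the fixed points correspond. -/
noncomputable def Step.irrEquivInv [Fact q.Prime] (h : Step q G S P K D) [Fintype G]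
    [Fintype D] :
    {χ : Cfsg.IrrCharacter G // AInv S (χ : G → ℂ)} ≃
      {β : Cfsg.IrrCharacter D // AInv S (β : D → ℂ)} :=
  (Equiv.subtypeSubtypeEquivSubtype
      (fun {_} hx => aInv_mono h.hPS hx)).symm.trans
    ((glauberman h.setting).subtypeEquiv fun χ => (h.aInv_glauberman_iff χ).symm)

/-- A class is fixed by every element of `S`. -/
def ClassFix {G : Subgroup Γ} (S : Subgroup Γ) (K : ConjClasses G) : Prop :=
  ∀ s ∈ S, ∀ g g' : G, (g' : Γ) = s * g * s⁻¹ → ConjClasses.mk g = K → ConjClasses.mk g' = K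

theorem classFix_mk {G S : Subgroup Γ} (hnorm : ∀ s ∈ S, ∀ g ∈ G, s * g * s⁻¹ ∈ G) (g : G) :
    ClassFix S (ConjClasses.mk g) ↔ ∀ s : S, IsConj (conjS hnorm s g) g := by
  constructor
  · intro h s
    exact ConjClasses.mk_eq_mk_iff_isConj.1 (h s s.2 g _ rfl rfl)
  · intro h s hs x x' e hx
    have : x' = conjS hnorm ⟨s, hs⟩ x := Subtype.ext e
    rw [this, ConjClasses.mk_eq_mk_iff_isConj]
    exact (MonoidHom.map_isConj (conjS hnorm ⟨s, hs⟩).toMonoidHom
      (ConjClasses.mk_eq_mk_iff_isConj.1 hx)).trans (h ⟨s, hs⟩)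

theorem Step.card_classFix [Fact q.Prime] (h : Step q G S P K D) [Fintype G] :
    Nat.card {C : ConjClasses D // ClassFix S C} =
      Nat.card {C : ConjClasses G // ClassFix S C} := by
  classical
  letI := conjAction G P h.setting.hnorm
  let i : D →* G := Subgroup.inclusion h.setting.hCG
  have hconj : ∀ x y : D, IsConj (i x) (i y) → IsConj x y := by
    intro x y hxy
    have hfix : ∀ z : D, ∀ π : P, π • (i z) = i z :=
      fun z => (h.setting.mem_subgroupOf (i z)).1 (by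
        rw [Subgroup.mem_subgroupOf]; exact z.2)
    obtain ⟨c, hc, hcy⟩ := exists_fixed_conj h.setting.hS h.setting.hG (hfix x) (hfix y) hxy
    have hcD : (c : Γ) ∈ D := Subgroup.mem_subgroupOf.1 ((h.setting.mem_subgroupOf c).2 hc)
    have e : (c : Γ) * x * (c : Γ)⁻¹ = y := congrArg (fun z : G => (z : Γ)) hcy
    exact isConj_iff.2 ⟨⟨c, hcD⟩, Subtype.ext e⟩
  refine Nat.card_congr (Equiv.ofBijective (fun C => ⟨ConjClasses.map i C.1, ?_⟩) ⟨?_, ?_⟩)
  · obtain ⟨C, hC⟩ := C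
    obtain ⟨d, rfl⟩ := ConjClasses.exists_rep C
    show ClassFix S (ConjClasses.mk (i d))
    rw [classFix_mk h.hnorm]
    rw [classFix_mk h.norm_inf] at hC
    exact fun s => i.map_isConj (hC s)
  · rintro ⟨C, hC⟩ ⟨C', hC'⟩ e
    obtain ⟨d, rfl⟩ := ConjClasses.exists_rep C
    obtain ⟨d', rfl⟩ := ConjClasses.exists_rep C'
    apply Subtype.ext
    exact ConjClasses.mk_eq_mk_iff_isConj.2
      (hconj d d' (ConjClasses.mk_eq_mk_iff_isConj.1 (congrArg Subtype.val e)))
  · rintro ⟨C, hC⟩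
    obtain ⟨g, rfl⟩ := ConjClasses.exists_rep C
    let X := {x : G // IsConj g x}
    let _ : MulAction P X :=
      { smul := fun π x => ⟨π • x.1,
          ConjClasses.mk_eq_mk_iff_isConj.1
            (hC π (h.hPS π.2) x.1 (π • x.1) rfl
              (ConjClasses.mk_eq_mk_iff_isConj.2 x.2.symm)).symm⟩
        one_smul := fun x => Subtype.ext (one_smul P x.1)
        mul_smul := fun π π' x => Subtype.ext (mul_smul π π' x.1) }
    have hX : ¬ q ∣ Nat.card X := by
      have e : Nat.card X = Nat.card (MulAction.orbit (ConjAct G) g) :=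
        Nat.card_congr (Equiv.subtypeEquivRight fun x => by
          rw [ConjAct.mem_orbit_conjAct, isConj_comm])
      rw [e, Nat.card_congr (MulAction.orbitEquivQuotientStabilizer (ConjAct G) g)]
      exact fun hd => h.setting.hG (hd.trans (Subgroup.card_quotient_dvd_card _))
    obtain ⟨x, hx⟩ := h.setting.hS.nonempty_fixed_point_of_prime_not_dvd_card X hX
    have hxD : (x.1 : Γ) ∈ D := Subgroup.mem_subgroupOf.1
      ((h.setting.mem_subgroupOf x.1).2 fun π => congrArg Subtype.val (hx π))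
    let d : D := ⟨x.1, hxD⟩
    have hd : ConjClasses.mk (i d) = ConjClasses.mk g :=
      ConjClasses.mk_eq_mk_iff_isConj.2 x.2.symm
    refine ⟨⟨ConjClasses.mk d, ?_⟩, Subtype.ext hd⟩
    rw [classFix_mk h.norm_inf]
    rw [← hd, classFix_mk h.hnorm] at hC
    exact fun s => hconj _ _ (hC s)

/-- Invariant characters and fixed classes are equal in number. -/
theorem card_aInv_eq_card_classFix (G S : Subgroup Γ) [Fintype G]
    (hnorm : ∀ s ∈ S, ∀ g ∈ G, s * g * s⁻¹ ∈ G) (hcop : (Nat.card G).Coprime (Nat.card S))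
    (hsolv : Group.IsSolvable S) :
    Nat.card {χ : Cfsg.IrrCharacter G // AInv S (χ : G → ℂ)} =
      Nat.card {C : ConjClasses G // ClassFix S C} := by
  classical
  induction hn : Nat.card G using Nat.strong_induction_on generalizing G with
  | _ n ih =>
    by_cases hc : S ≤ Subgroup.centralizer (G : Set Γ)
    · have hfix : ∀ s ∈ S, ∀ g g' : G, (g' : Γ) = s * g * s⁻¹ → g' = g := fun s hs g g' e =>
        Subtype.ext (by rw [e, ← Subgroup.mem_centralizer_iff.1 (hc hs) g g.2]; group)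
      have h1 : ∀ χ : Cfsg.IrrCharacter G, AInv S (χ : G → ℂ) := fun χ s hs g g' e =>
        congrArg _ (hfix s hs g g' e)
      have h2 : ∀ C : ConjClasses G, ClassFix S C := fun C s hs g g' e hC => by
        rw [hfix s hs g g' e]; exact hC
      rw [Nat.card_congr (Equiv.subtypeUnivEquiv h1), Nat.card_congr (Equiv.subtypeUnivEquiv h2),
        card_irrCharacter]
    · obtain ⟨q, P, K, D, h⟩ := exists_Step G S hnorm hcop hsolv hc
      haveI : Fact q.Prime := ⟨h.hq⟩
      haveI : Fintype D := Fintype.ofFinite _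
      have hlt : Nat.card D < n := by
        rw [← hn]
        refine lt_of_le_of_ne (Subgroup.card_le_of_le h.setting.hCG) fun e => h.hlt.ne ?_
        exact Subgroup.eq_of_le_of_card_ge h.setting.hCG e.ge
      rw [Nat.card_congr h.irrEquivInv, ← h.card_classFix]
      exact ih _ hlt _ h.norm_inf
        (hcop.coprime_dvd_left (Subgroup.card_dvd_of_le h.setting.hCG)) rfl

section LyingOver

variable {p : ℕ} [Fact p.Prime]

/-- Modulo `p`, the restriction of an invariant character is a multiple of its correspondent. -/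
theorem resFun_congr {G P C : Subgroup Γ} [Fintype G] [Fintype C] (h : Setting p G P C)
    {M : Ideal AlgInt} (hM : Cfsg.IsPModular p M) {χ : Cfsg.IrrCharacter G}
    (hχ : AInv P (χ : G → ℂ)) {β : Cfsg.IrrCharacter C} (hc : Corr p h.hCG χ β) :
    ∃ m : AlgInt ⧸ M, m ≠ 0 ∧ ∀ c : C, Ideal.Quotient.mk M (valInt χ ⟨c, h.hCG c.2⟩) =
      m * Ideal.Quotient.mk M (valInt β c) := by
  classical
  haveI := charP_quot M hM
  refine ⟨(aMult h χ β : AlgInt ⧸ M),
    fun e => (corr_iff h χ β).1 hc ((natCast_quot_eq_zero_iff hM _).1 e), fun c => ?_⟩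
  have hexp : valInt χ ⟨c, h.hCG c.2⟩ =
      ∑ γ : Cfsg.IrrCharacter C, (aMult h χ γ : AlgInt) * valInt γ c := by
    apply Subtype.ext
    push_cast
    have hres : Cfsg.IsCharacter C (resFun h.hCG (χ : G → ℂ)) := by
      obtain ⟨n, ρ, -, hρ⟩ := χ.2
      exact ⟨n, ρ.comp (Subgroup.inclusion h.hCG), by rw [← hρ]; rfl⟩
    have e := congrFun (classFunction_expansion (IsChar.isClassFunction hres)) c
    simp only [valInt_coe]
    rw [show (χ : G → ℂ) ⟨c, h.hCG c.2⟩ = resFun h.hCG (χ : G → ℂ) c from rfl, e, Finset.sum_apply]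
    exact Finset.sum_congr rfl fun γ _ => by
      rw [Pi.smul_apply, smul_eq_mul, classInner_resFun h χ γ]
  rw [hexp, map_sum, Finset.sum_eq_single_of_mem β (Finset.mem_univ _)]
  · rw [map_mul, map_natCast]
  · intro γ _ hγ
    have : (aMult h χ γ : AlgInt ⧸ M) = 0 := by
      rw [natCast_quot_eq_zero_iff hM]
      by_contra hd
      exact hγ (corr_unique h hχ ((corr_iff h χ γ).2 hd) hc)
    rw [map_mul, map_natCast, this, zero_mul]

/-- Correspondents of characters lying over one another lie over one another. -/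
theorem inner_ne_zero_of_corr {G P D N : Subgroup Γ} [Fintype G] [Fintype D] [Fintype N]
    [Fintype (N ⊓ D : Subgroup Γ)]
    (hs : Setting p G P D) (hsN : Setting p N P (N ⊓ D)) (hNG : N ≤ G)
    (hNn : ∀ g ∈ G, ∀ n ∈ N, g * n * g⁻¹ ∈ N)
    {χ : Cfsg.IrrCharacter G} (hχ : AInv P (χ : G → ℂ))
    {θ : Cfsg.IrrCharacter N} (hθ : AInv P (θ : N → ℂ))
    {β : Cfsg.IrrCharacter D} {α : Cfsg.IrrCharacter (N ⊓ D : Subgroup Γ)}
    (hβ : Corr p hs.hCG χ β) (hα : Corr p hsN.hCG θ α)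
    (hover : Cfsg.classInner (resFun (inf_le_right : N ⊓ D ≤ D) (β : D → ℂ))
      (α : (N ⊓ D : Subgroup Γ) → ℂ) ≠ 0) :
    Cfsg.classInner (resFun hNG (χ : G → ℂ)) (θ : N → ℂ) ≠ 0 := by
  classical
  intro h0
  obtain ⟨M, hM⟩ := exists_isPModular (Fact.out : p.Prime)
  haveI := charP_quot M hM
  haveI : M.IsMaximal := hM.2.1
  letI := Ideal.Quotient.field M
  set L : Subgroup D := (N ⊓ D).subgroupOf D with hL
  have hdN : ∀ d ∈ D, ∀ n ∈ N, d * n * d⁻¹ ∈ N := fun d hd => hNn d (hs.hCG hd)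
  haveI : L.Normal := ⟨fun x hx d => by
    rw [hL, Subgroup.mem_subgroupOf] at hx ⊢
    exact ⟨hdN d d.2 _ hx.1, ((d * x * d⁻¹ : D)).2⟩⟩
  haveI : Fintype L := Fintype.ofFinite _
  let eL : L ≃* (N ⊓ D : Subgroup Γ) := Subgroup.subgroupOfEquivOfLe inf_le_right
  let αL : Cfsg.IrrCharacter L := irrEquiv eL α
  have hres : ∀ γ : Cfsg.IrrCharacter (N ⊓ D : Subgroup Γ),
      Cfsg.classInner (fun x : L => (β : D → ℂ) x) ((irrEquiv eL γ : Cfsg.IrrCharacter L) : L → ℂ) =
        Cfsg.classInner (resFun (inf_le_right : N ⊓ D ≤ D) (β : D → ℂ)) (γ : _ → ℂ) := by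
    intro γ
    rw [← classInner_comp_mulEquiv eL (resFun (inf_le_right : N ⊓ D ≤ D) (β : D → ℂ)) (γ : _ → ℂ)]
    rfl
  have hnat : ∀ γ : Cfsg.IrrCharacter L, ∃ k : ℕ,
      Cfsg.classInner (fun x : L => (β : D → ℂ) x) (γ : L → ℂ) = k :=
    fun γ => ⟨_, classInner_res L β γ⟩
  -- every constituent has multiplicity divisible by p
  have hzero : ∀ γ : Cfsg.IrrCharacter L, (mult L β γ : AlgInt ⧸ M) = 0 := by
    intro γ
    by_contra hne
    have hγ : Cfsg.classInner (fun x : L => (β : D → ℂ) x) (γ : L → ℂ) ≠ 0 := by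
      rw [classInner_res L β γ, Nat.cast_ne_zero]
      intro e; rw [e, Nat.cast_zero] at hne; exact hne rfl
    obtain ⟨d, hd⟩ := exists_conjTwist_eq L β (α := αL) (by rw [hres]; exact hover) hγ
    -- the conjugate of θ by d
    let eN : N ≃* N := conjEquiv N d (hdN d d.2)
      (fun n hn => by simpa using hdN _ (inv_mem d.2) n hn)
    let eI : (N ⊓ D : Subgroup Γ) ≃* (N ⊓ D : Subgroup Γ) := conjEquiv (N ⊓ D) d
      (fun n hn => ⟨hdN d d.2 n hn.1, D.mul_mem (D.mul_mem d.2 hn.2) (D.inv_mem d.2)⟩)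
      (fun n hn => ⟨by simpa using hdN _ (inv_mem d.2) n hn.1,
        D.mul_mem (D.mul_mem (D.inv_mem d.2) hn.2) d.2⟩)
    have hθd : AInv P ((twist θ eN : Cfsg.IrrCharacter N) : N → ℂ) := by
      intro π hπ g g' e
      show (θ : N → ℂ) (eN g') = (θ : N → ℂ) (eN g)
      refine hθ π hπ _ _ ?_
      show (d : Γ) * g' * (d : Γ)⁻¹ = π * ((d : Γ) * g * (d : Γ)⁻¹) * π⁻¹
      have hcd : π * (d : Γ) = d * π := ((hs.hC d).1 d.2).2 π hπ
      rw [e, show π * ((d : Γ) * g * (d : Γ)⁻¹) * π⁻¹ = π * d * g * (π * d)⁻¹ by group, hcd]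
      group
    have hαd : Corr p hsN.hCG (twist θ eN) (twist α eI) :=
      corr_twist hsN.hCG eN eI (fun _ => rfl) hα
    have h0d : Cfsg.classInner (resFun hNG (χ : G → ℂ)) ((twist θ eN : Cfsg.IrrCharacter N) : N → ℂ)
        = 0 := by
      rw [← h0, ← classInner_comp_mulEquiv eN (resFun hNG (χ : G → ℂ)) (θ : N → ℂ)]
      congr 1
      funext n
      refine ((IsIrr.isClassFunction χ.2 ⟨n, hNG n.2⟩ ⟨d, hs.hCG d.2⟩).symm.trans ?_)
      exact congrArg _ (Subtype.ext rfl)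
    -- reduce modulo M
    obtain ⟨mχ, hmχ, hχc⟩ := resFun_congr hs hM hχ hβ
    obtain ⟨mθ, hmθ, hθc⟩ := resFun_congr hsN hM hθd hαd
    let π' := Ideal.Quotient.mk M
    have hsum : ∑ n : N, valInt χ ⟨n, hNG n.2⟩ * valInt (twist θ eN) n⁻¹ = 0 := by
      apply Subtype.ext
      push_cast
      simp only [valInt_coe]
      rw [classInner_def, mul_eq_zero] at h0d
      rw [← h0d.resolve_left (by simp [Nat.card_pos.ne'])]
      exact Finset.sum_congr rfl fun n _ => by
        rw [IsChar.inv_apply (IsIrr.isCharacter (twist θ eN).2)]; rfl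
    have hsum' := congrArg π' hsum
    simp only [map_sum, map_mul, map_zero, π'] at hsum'
    letI := conjAction N P hsN.hnorm
    haveI : Fintype ((N ⊓ D).subgroupOf N) := Fintype.ofFinite _
    rw [sum_eq_sum_fixed hsN.hS, sum_coe_fixed ((N ⊓ D).subgroupOf N) hsN.mem_subgroupOf
      (fun n : N => Ideal.Quotient.mk M (valInt χ ⟨n, hNG n.2⟩) *
        Ideal.Quotient.mk M (valInt (twist θ eN) n⁻¹))] at hsum'
    · have hterm : ∀ x : L, Ideal.Quotient.mk M (valInt χ ⟨(x : D), hs.hCG (x : D).2⟩) *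
          Ideal.Quotient.mk M (valInt (twist θ eN) ⟨((x : D) : Γ), (Subgroup.mem_subgroupOf.1 x.2).1⟩⁻¹)
          = (mχ * mθ) * Ideal.Quotient.mk M (valInt β (x : D) * valInt γ x⁻¹) := by
        intro x
        rw [map_mul, hχc (x : D)]
        have hθx := hθc (eL x⁻¹)
        have e2 : valInt (twist α eI) (eL x⁻¹) = valInt γ x⁻¹ := by
          apply Subtype.ext
          simp only [valInt_coe, ← hd]
          show (α : _ → ℂ) (eI (eL x⁻¹)) = (α : _ → ℂ) (eL (MulAut.conjNormal d x⁻¹))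
          refine congrArg _ (Subtype.ext ?_)
          show (d : Γ) * _ * (d : Γ)⁻¹ = ((MulAut.conjNormal d x⁻¹ : L) : D)
          rw [MulAut.conjNormal_apply]
          rfl
        rw [← e2, show (⟨((x : D) : Γ), (Subgroup.mem_subgroupOf.1 x.2).1⟩ : N)⁻¹ =
          ⟨eL x⁻¹, hsN.hCG (eL x⁻¹).2⟩ from Subtype.ext rfl, hθx]
        ring
      have htot : ∑ x : L, Ideal.Quotient.mk M (valInt β (x : D) * valInt γ x⁻¹) = 0 := by
        refine (mul_eq_zero.1 ?_).resolve_left (mul_ne_zero hmχ hmθ)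
        rw [Finset.mul_sum, ← hsum']
        simp only [← hterm]
        refine Fintype.sum_equiv
          ((eL.trans (Subgroup.subgroupOfEquivOfLe inf_le_left).symm).toEquiv) _ _ fun x => rfl
      rw [← map_sum, valInt_res_inner L β γ, map_mul, map_natCast, map_natCast] at htot
      refine hne ((mul_eq_zero.1 htot).resolve_left ?_)
      rw [natCast_quot_eq_zero_iff hM]
      exact fun hd' => hs.hG ((hd'.trans L.card_subgroup_dvd_card).trans
        (Subgroup.card_dvd_of_le hs.hCG))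
    · intro π n
      have e1 : valInt χ ⟨((π • n : N) : Γ), hNG (π • n).2⟩ = valInt χ ⟨n, hNG n.2⟩ :=
        Subtype.ext (hχ π π.2 ⟨n, hNG n.2⟩ _ rfl)
      have e2 : valInt (twist θ eN) (π • n)⁻¹ = valInt (twist θ eN) n⁻¹ :=
        Subtype.ext (hθd π π.2 n⁻¹ _ (by rw [← smul_inv']; rfl))
      simp only [e1, e2]
  -- hence p divides the degree of β
  obtain ⟨k, -, hk⟩ := IsIrr.exists_degree β.2
  refine not_dvd_degree (Fact.out : p.Prime)
    (fun hd => hs.hG (hd.trans (Subgroup.card_dvd_of_le hs.hCG))) β hk ?_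
  rw [← natCast_quot_eq_zero_iff hM, ← map_natCast (Ideal.Quotient.mk M), ← valInt_one hk,
    show valInt β (1 : D) = valInt β ((1 : L) : D) from rfl, valInt_res L β, map_sum]
  exact Finset.sum_eq_zero fun γ _ => by rw [map_mul, map_natCast, hzero, zero_mul]

end LyingOver

/-- An invariant character of a normal subgroup lies under an invariant character. -/
theorem exists_aInv_over (G S N : Subgroup Γ) [Fintype G] [Fintype N]
    (hnorm : ∀ s ∈ S, ∀ g ∈ G, s * g * s⁻¹ ∈ G) (hNG : N ≤ G)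
    (hNn : ∀ g ∈ G, ∀ n ∈ N, g * n * g⁻¹ ∈ N) (hNS : ∀ s ∈ S, ∀ n ∈ N, s * n * s⁻¹ ∈ N)
    (hcop : (Nat.card G).Coprime (Nat.card S)) (hsolv : Group.IsSolvable S)
    (θ : Cfsg.IrrCharacter N) (hθ : AInv S (θ : N → ℂ)) :
    ∃ χ : Cfsg.IrrCharacter G,
      Cfsg.classInner (resFun hNG (χ : G → ℂ)) (θ : N → ℂ) ≠ 0 ∧ AInv S (χ : G → ℂ) := by
  classical
  induction hn : Nat.card G using Nat.strong_induction_on generalizing G N with
  | _ n ih =>
    by_cases hc : S ≤ Subgroup.centralizer (G : Set Γ)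
    · -- every character is invariant
      have hfix : ∀ χ : Cfsg.IrrCharacter G, AInv S (χ : G → ℂ) := fun χ s hs g g' e =>
        congrArg _ (Subtype.ext (by rw [e, ← Subgroup.mem_centralizer_iff.1 (hc hs) g g.2]; group))
      by_contra hcon
      push Not at hcon
      have h0 : ∀ χ : Cfsg.IrrCharacter G,
          Cfsg.classInner (resFun hNG (χ : G → ℂ)) (θ : N → ℂ) = 0 :=
        fun χ => by_contra fun hne => hcon χ hne (hfix χ)
      have hN0 : (Nat.card N : ℂ) ≠ 0 := by simp [Nat.card_pos.ne']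
      have hsum : ∀ χ : Cfsg.IrrCharacter G,
          ∑ x : N, (χ : G → ℂ) ⟨x, hNG x.2⟩ * conj ((θ : N → ℂ) x) = 0 := fun χ => by
        have h := h0 χ
        rw [classInner_def, mul_eq_zero] at h
        exact h.resolve_left (inv_ne_zero hN0)
      have htot : ∑ χ : Cfsg.IrrCharacter G, (χ : G → ℂ) 1 *
          ∑ x : N, (χ : G → ℂ) ⟨x, hNG x.2⟩ * conj ((θ : N → ℂ) x) = 0 :=
        Finset.sum_eq_zero fun χ _ => by rw [hsum χ, mul_zero]
      simp only [Finset.mul_sum] at htot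
      rw [Finset.sum_comm] at htot
      simp only [← mul_assoc, ← Finset.sum_mul, sum_degree_mul_apply] at htot
      rw [Finset.sum_eq_single_of_mem 1 (Finset.mem_univ _)] at htot
      · have e1 : (⟨((1 : N) : Γ), hNG (1 : N).2⟩ : G) = 1 := Subtype.ext rfl
        rw [if_pos e1, mul_eq_zero] at htot
        rcases htot with h | h
        · simp [Nat.card_pos.ne'] at h
        · exact IsIrr.one_ne_zero θ.2 (by simpa using h)
      · intro x _ hx
        rw [if_neg, zero_mul]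
        exact fun e => hx (Subtype.ext (congrArg (fun z : G => (z : Γ)) e))
    · obtain ⟨q, P, K, D, h⟩ := exists_Step G S hnorm hcop hsolv hc
      haveI : Fact q.Prime := ⟨h.hq⟩
      haveI : Fintype D := Fintype.ofFinite _
      haveI : Fintype (N ⊓ D : Subgroup Γ) := Fintype.ofFinite _
      have hsN : Setting q N P (N ⊓ D) :=
        { hnorm := fun s hs => hNS s (h.hPS hs)
          hS := h.setting.hS
          hG := fun hd => h.setting.hG (hd.trans (Subgroup.card_dvd_of_le hNG))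
          hC := fun g => by
            rw [Subgroup.mem_inf, h.setting.hC]
            exact ⟨fun hg => ⟨hg.1, hg.2.2⟩, fun hg => ⟨hg.1, hNG hg.1, hg.2⟩⟩ }
      let α := glauberman hsN ⟨θ, aInv_mono h.hPS hθ⟩
      have hα : Corr q hsN.hCG θ α := glauberman_corr hsN ⟨θ, aInv_mono h.hPS hθ⟩
      have hnD : ∀ s ∈ S, ∀ x ∈ N ⊓ D, s * x * s⁻¹ ∈ N ⊓ D := fun s hs x hx =>
        ⟨hNS s hs x hx.1, h.norm_inf s hs x hx.2⟩
      have hαS : AInv S (α : (N ⊓ D : Subgroup Γ) → ℂ) := by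
        rw [aInv_iff_twist hnD]
        intro s
        refine corr_unique hsN (aInv_mono h.hPS hθ) ?_ hα
        have h2 := (aInv_iff_twist hNS θ).1 hθ s
        rw [← h2]
        exact corr_twist hsN.hCG _ _ (fun _ => rfl) hα
      have hlt : Nat.card D < n := by
        rw [← hn]
        refine lt_of_le_of_ne (Subgroup.card_le_of_le h.setting.hCG) fun e => h.hlt.ne ?_
        exact Subgroup.eq_of_le_of_card_ge h.setting.hCG e.ge
      obtain ⟨β, hβ, hβS⟩ := ih _ hlt D (N ⊓ D) h.norm_inf inf_le_right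
        (fun g hg x hx => ⟨hNn g (h.setting.hCG hg) x hx.1,
          D.mul_mem (D.mul_mem hg hx.2) (D.inv_mem hg)⟩)
        hnD (hcop.coprime_dvd_left (Subgroup.card_dvd_of_le h.setting.hCG)) α hαS rfl
      obtain ⟨χ, hχ⟩ := (glauberman h.setting).surjective β
      refine ⟨χ.1, inner_ne_zero_of_corr h.setting hsN hNG hNn χ.2 (aInv_mono h.hPS hθ)
        (hχ ▸ glauberman_corr h.setting χ) hα hβ, ?_⟩
      rw [← h.aInv_glauberman_iff χ, hχ]
      exact hβS

end Cfsg.Agent.H80
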