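import Cfsg.Agent.CharInduce.Correspondence
import Cfsg.Agent.CharInduce.Gallagher
import Cfsg.Agent.CharInduce.Transport
import Cfsg.Agent.CharInduce.Twist
import Cfsg.Agent.CharBasic.Kernel
import Cfsg.Agent.H80.GlaubermanSolvable
import Cfsg.Agent.BlockBasic.Basic
import Cfsg.Agent.Cores.Constrained

/-!
# Odd-degree characters over a normal subgroup, for the prime 2
-/

set_option linter.style.haveILetI false

open scoped ComplexConjugate

namespace Cfsg.Agent.H80.RealOdd

open CharBasic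

universe u

/-- A function with real values. -/
def RealFun {G : Type*} (f : G → ℂ) : Prop := ∀ g, (f g).im = 0

theorem realFun_iff {G : Type*} (f : G → ℂ) : RealFun f ↔ ∀ g, conj (f g) = f g :=
  forall_congr' fun _ => Complex.conj_eq_iff_im.symm

/-- The number of real characters of odd degree. -/
noncomputable def ro (G : Type*) [Group G] : ℕ :=
  Nat.card {χ : Cfsg.IrrCharacter G // RealFun (χ : G → ℂ) ∧ Odd (Cfsg.charDegree (χ : G → ℂ))}

/-- The number of real characters of odd degree of `H` trivial on `L`. -/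
noncomputable def roK {G : Type*} [Group G] (H L : Subgroup G) : ℕ :=
  Nat.card {χ : Cfsg.IrrCharacter H // (RealFun (χ : H → ℂ) ∧ Odd (Cfsg.charDegree (χ : H → ℂ))) ∧
    ∀ h : H, (h : G) ∈ L → (χ : H → ℂ) h = (χ : H → ℂ) 1}

section Inflate

variable {H X : Type*} [Group H] [Finite H] [Group X] [Finite X] (f : H →* X)

theorem realFun_comp (hf : Function.Surjective f) (φ : X → ℂ) :
    RealFun (fun h => φ (f h)) ↔ RealFun φ := by
  refine ⟨fun h x => ?_, fun h g => h (f g)⟩
  obtain ⟨g, rfl⟩ := hf x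
  exact h g

omit [Finite H] [Finite X] in
theorem charDegree_comp (φ : X → ℂ) :
    Cfsg.charDegree (fun h => φ (f h)) = Cfsg.charDegree φ := by
  simp [Cfsg.charDegree, map_one]

/-- Irreducible characters of a quotient are the irreducible characters trivial on the kernel. -/
theorem exists_inflate (hf : Function.Surjective f) (χ : Cfsg.IrrCharacter H)
    (hχ : ∀ h : H, f h = 1 → (χ : H → ℂ) h = (χ : H → ℂ) 1) :
    ∃ φ : Cfsg.IrrCharacter X, (χ : H → ℂ) = fun h => (φ : X → ℂ) (f h) := by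
  obtain ⟨ψ, -, hψ, hirr⟩ := CharInduce.IsChar.exists_deflate (IsIrr.isCharacter χ.2) f.ker
    fun h hh => hχ h hh
  let e := QuotientGroup.quotientKerEquivOfSurjective f hf
  refine ⟨⟨fun x => ψ (e.symm x),
    CharInduce.IsIrr.comp (hirr χ.2) e.symm.toMonoidHom e.symm.surjective⟩, funext fun h => ?_⟩
  show _ = ψ (e.symm (f h))
  rw [hψ h]
  congr 1
  rw [← e.apply_eq_iff_eq, e.apply_symm_apply]
  rfl

/-- Transport of counts along a surjection. -/
theorem card_inflate (hf : Function.Surjective f) (Q : (H → ℂ) → Prop) (R : (X → ℂ) → Prop)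
    (hQR : ∀ φ : Cfsg.IrrCharacter X, Q (fun h => (φ : X → ℂ) (f h)) ↔ R (φ : X → ℂ)) :
    Nat.card {χ : Cfsg.IrrCharacter H //
      Q (χ : H → ℂ) ∧ ∀ h : H, f h = 1 → (χ : H → ℂ) h = (χ : H → ℂ) 1} =
      Nat.card {φ : Cfsg.IrrCharacter X // R (φ : X → ℂ)} := by
  symm
  refine Nat.card_eq_of_bijective (fun φ => ⟨⟨fun h => (φ.1 : X → ℂ) (f h),
    CharInduce.IsIrr.comp φ.1.2 f hf⟩, (hQR φ.1).2 φ.2, fun h hh => ?_⟩) ⟨?_, ?_⟩
  · show (φ.1 : X → ℂ) (f h) = (φ.1 : X → ℂ) (f 1)
    rw [hh, map_one]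
  · intro φ φ' h
    refine Subtype.ext (Subtype.ext (funext fun x => ?_))
    obtain ⟨g, rfl⟩ := hf x
    exact congrFun (congrArg (fun c => (c.1 : H → ℂ)) h) g
  · rintro ⟨χ, hQ, hker⟩
    obtain ⟨φ, hφ⟩ := exists_inflate f hf χ hker
    exact ⟨⟨φ, (hQR φ).1 (hφ ▸ hQ)⟩, Subtype.ext (Subtype.ext hφ.symm)⟩

/-- `roK` through a surjection with kernel the given subgroup. -/
theorem roK_eq_ro {G : Type*} [Group G] [Finite G] {H L : Subgroup G} (g : H →* X)
    (hg : Function.Surjective g) (hker : ∀ h : H, g h = 1 ↔ (h : G) ∈ L) : roK H L = ro X := by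
  rw [ro, roK, ← card_inflate g hg (fun χ : H → ℂ => RealFun χ ∧ Odd (Cfsg.charDegree χ))
    (fun φ : X → ℂ => RealFun φ ∧ Odd (Cfsg.charDegree φ))
    (fun φ => by rw [realFun_comp g hg, charDegree_comp g])]
  exact Nat.card_congr (Equiv.subtypeEquivRight fun χ => by simp [hker])

end Inflate

section Basics

variable {G : Type*} [Group G] [Finite G]

theorem ro_eq_roK_top : ro G = roK (⊤ : Subgroup G) ⊥ :=
  (roK_eq_ro (Subgroup.topEquiv (G := G)).toMonoidHom (Subgroup.topEquiv (G := G)).surjective fun h => by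
    rw [Subgroup.mem_bot]; exact Iff.rfl).symm

theorem ro_eq_roK (H : Subgroup G) : ro H = roK H ⊥ :=
  (roK_eq_ro (MonoidHom.id H) Function.surjective_id fun h => by
    rw [Subgroup.mem_bot]; exact OneMemClass.coe_eq_one.symm).symm

/-- The normaliser of a Sylow subgroup maps onto the normaliser of its image. -/
theorem map_normalizer_sylow {H X : Type*} [Group H] [Finite H] [Group X] {p : ℕ} [Fact p.Prime]
    (f : H →* X) (hf : Function.Surjective f) (P : Sylow p H) :
    (Subgroup.normalizer ((P : Subgroup H) : Set H)).map f =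
      Subgroup.normalizer (((P : Subgroup H).map f : Subgroup X) : Set X) := by
  refine le_antisymm (Subgroup.le_normalizer_map f) fun x hx => ?_
  obtain ⟨h, rfl⟩ := hf x
  set R := ((P : Subgroup H).map f).comap f
  have h1 : (P : Subgroup H) ≤ R := Subgroup.le_comap_map f _
  have h2 : ((h • P : Sylow p H) : Subgroup H) ≤ R := by
    intro y hy
    rw [Sylow.smul_def, Sylow.pointwise_smul_def, Subgroup.mem_pointwise_smul_iff_inv_smul_mem] at hy
    rw [Subgroup.mem_comap]
    have hy' : f (h⁻¹ * y * h) ∈ (P : Subgroup H).map f :=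
      Subgroup.mem_map_of_mem f (by simpa using hy)
    have := (Subgroup.mem_normalizer_iff.1 hx _).1 hy'
    simpa [mul_assoc] using this
  obtain ⟨r, hr⟩ := MulAction.exists_smul_eq R ((h • P).subtype h2) (P.subtype h1)
  rw [Sylow.smul_subtype] at hr
  have h3 := Sylow.subtype_injective hr
  rw [Subgroup.smul_def, smul_smul, Sylow.smul_eq_iff_mem_normalizer] at h3
  have hfr : f (r : H) ∈ (Subgroup.normalizer ((P : Subgroup H) : Set H)).map f :=
    Subgroup.map_mono Subgroup.le_normalizer (Subgroup.mem_comap.1 r.2)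
  have := (Subgroup.map f (Subgroup.normalizer ((P : Subgroup H) : Set H))).mul_mem
    (inv_mem hfr) (Subgroup.mem_map_of_mem f h3)
  simpa using this

theorem odd_index_of_le {P : Sylow 2 G} {T : Subgroup G} (h : (P : Subgroup G) ≤ T) :
    Odd T.index :=
  Odd.of_dvd_nat (Nat.not_even_iff_odd.1 fun he => P.not_dvd_index (even_iff_two_dvd.1 he))
    (Subgroup.index_dvd_of_le h)

theorem odd_of_dvd {p n : ℕ} (hp : p = 2) {k : ℕ} (h : n ∣ p ^ k) (hodd : Odd n) : n = 1 := by
  subst hp
  obtain ⟨i, -, rfl⟩ := (Nat.dvd_prime_pow Nat.prime_two).1 h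
  rcases i with _ | i
  · rfl
  · exact absurd hodd (by simp [parity_simps])

/-- An odd-degree irreducible character of a 2-group is linear. -/
theorem apply_one_eq_one {W : Type*} [Group W] [Finite W] (hW : IsPGroup 2 W)
    (θ : Cfsg.IrrCharacter W) (hodd : Odd (Cfsg.charDegree (θ : W → ℂ))) : (θ : W → ℂ) 1 = 1 := by
  obtain ⟨k, hk⟩ := IsPGroup.iff_card.1 hW
  rw [BlockBasic.apply_one_eq_charDegree θ,
    odd_of_dvd rfl (hk ▸ BlockBasic.charDegree_dvd θ) hodd, Nat.cast_one]

/-- An odd-degree irreducible character of a 2-group is multiplicative. -/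
theorem exists_hom {W : Type*} [Group W] [Finite W] (hW : IsPGroup 2 W)
    (θ : Cfsg.IrrCharacter W) (hodd : Odd (Cfsg.charDegree (θ : W → ℂ))) :
    ∃ l : W →* ℂˣ, (θ : W → ℂ) = fun w => (l w : ℂ) := by
  obtain ⟨l, hl⟩ := CharInduce.IsChar.exists_hom_of_degree_one (IsIrr.isCharacter θ.2)
    (apply_one_eq_one hW θ hodd)
  exact ⟨l, funext fun w => (hl w).symm ▸ rfl⟩

end Basics

section Constituents

variable {G : Type u} [Group G] [Fintype G]

/-- A character of odd degree has an irreducible constituent of odd degree. -/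
theorem exists_odd_constituent {θ : G → ℂ} (h : Cfsg.IsCharacter G θ) {d : ℕ} (hd : θ 1 = d)
    (hodd : Odd d) : ∃ χ : Cfsg.IrrCharacter G, Cfsg.classInner θ (χ : G → ℂ) ≠ 0 ∧
      Odd (Cfsg.charDegree (χ : G → ℂ)) := by
  classical
  by_contra hc
  push Not at hc
  choose n hn using fun χ : Cfsg.IrrCharacter G => classInner_isChar_nat h (IsIrr.isCharacter χ.2)
  have hexp := congrFun (classFunction_expansion (IsChar.isClassFunction h)) 1
  simp only [Finset.sum_apply, Pi.smul_apply, smul_eq_mul, hn,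
    BlockBasic.apply_one_eq_charDegree, hd] at hexp
  have hexp' : d = ∑ χ : Cfsg.IrrCharacter G, n χ * Cfsg.charDegree (χ : G → ℂ) := by
    exact_mod_cast hexp
  rw [hexp'] at hodd
  refine Nat.not_even_iff_odd.2 hodd (Finset.even_sum _ fun χ _ => ?_)
  by_cases hz : n χ = 0
  · simp [hz]
  · have := hc χ (by rw [hn]; exact_mod_cast hz)
    exact Even.mul_left (Nat.not_odd_iff_even.1 this) _

/-- Over an odd-degree character of a subgroup of odd index lies an odd-degree character. -/
theorem exists_odd_over (H : Subgroup G) [Fintype H] (hH : Odd H.index)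
    (η : Cfsg.IrrCharacter H) (hη : Odd (Cfsg.charDegree (η : H → ℂ))) :
    ∃ χ : Cfsg.IrrCharacter G, Odd (Cfsg.charDegree (χ : G → ℂ)) ∧
      Cfsg.classInner (fun h : H => (χ : G → ℂ) h) (η : H → ℂ) ≠ 0 := by
  obtain ⟨χ, hne, hodd⟩ := exists_odd_constituent
    (CharInduce.IsChar.ind H (IsIrr.isCharacter η.2)) (d := H.index * Cfsg.charDegree (η : H → ℂ))
    (by rw [CharInduce.indFun_one, BlockBasic.apply_one_eq_charDegree]; push_cast; ring)
    (hH.mul hη)
  refine ⟨χ, hodd, fun h0 => hne ?_⟩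
  rw [CharInduce.classInner_indFun_left H _ _ (IsIrr.isClassFunction χ.2), ← classInner_conj_symm,
    h0, map_zero]

variable (W : Subgroup G) [hW : W.Normal] [Fintype W]

omit [Fintype G] [Fintype W] in
theorem conjFun_mk (θ : W → ℂ) (x : G) (w : W) :
    CharInduce.conjFun W θ x w = θ ⟨x * w * x⁻¹, hW.conj_mem w w.2 x⟩ := rfl

/-- The constituents of an odd-degree character on a normal subgroup: odd degree, odd orbit. -/
theorem odd_data {χ : Cfsg.IrrCharacter G} (hodd : Odd (Cfsg.charDegree (χ : G → ℂ)))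
    {θ : Cfsg.IrrCharacter W}
    (h : Cfsg.classInner (fun w : W => (χ : G → ℂ) w) (θ : W → ℂ) ≠ 0) :
    Odd (CharInduce.inertia W (θ : W → ℂ)).index ∧ Odd (Cfsg.charDegree (θ : W → ℂ)) := by
  have hd := CharInduce.clifford_degree W χ.2 θ.2 h
  obtain ⟨e, he⟩ := classInner_isChar_nat
    (CharInduce.IsChar.res (IsIrr.isCharacter χ.2) W) (IsIrr.isCharacter θ.2)
  rw [he, BlockBasic.apply_one_eq_charDegree, BlockBasic.apply_one_eq_charDegree] at hd
  have hd' : Cfsg.charDegree (χ : G → ℂ) =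
      e * (CharInduce.inertia W (θ : W → ℂ)).index * Cfsg.charDegree (θ : W → ℂ) := by
    exact_mod_cast hd
  rw [hd', Nat.odd_mul, Nat.odd_mul] at hodd
  exact ⟨hodd.1.2, hodd.2⟩

theorem exists_constituent_res (χ : Cfsg.IrrCharacter G) :
    ∃ θ : Cfsg.IrrCharacter W, Cfsg.classInner (fun w : W => (χ : G → ℂ) w) (θ : W → ℂ) ≠ 0 := by
  refine CharInduce.exists_constituent (CharInduce.IsChar.res (IsIrr.isCharacter χ.2) W) fun h => ?_
  exact IsIrr.one_ne_zero χ.2 (congrFun h 1)

/-- A real character of odd degree has a real constituent on a normal subgroup. -/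
theorem exists_real_constituent {χ : Cfsg.IrrCharacter G}
    (hodd : Odd (Cfsg.charDegree (χ : G → ℂ))) (hreal : RealFun (χ : G → ℂ)) :
    ∃ θ : Cfsg.IrrCharacter W, Cfsg.classInner (fun w : W => (χ : G → ℂ) w) (θ : W → ℂ) ≠ 0 ∧
      RealFun (θ : W → ℂ) := by
  classical
  obtain ⟨θ, hθ⟩ := exists_constituent_res W χ
  obtain ⟨hidx, -⟩ := odd_data W hodd hθ
  set T := CharInduce.inertia W (θ : W → ℂ) with hT
  let F : G ⧸ T → (W → ℂ) := Quotient.lift (fun x => CharInduce.conjFun W (θ : W → ℂ) x⁻¹)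
    fun x y hxy => by
      rw [CharInduce.conjFun_eq_iff, inv_inv]
      exact QuotientGroup.leftRel_apply.1 hxy
  have hFinj : Function.Injective F := by
    intro a b
    refine Quotient.inductionOn₂ a b fun x y h => Quotient.sound (QuotientGroup.leftRel_apply.2 ?_)
    have := (CharInduce.conjFun_eq_iff W (θ : W → ℂ) x⁻¹ y⁻¹).1 h
    rwa [inv_inv] at this
  have hmem : ∀ q : G ⧸ T, Cfsg.IsIrrCharacter W (F q) ∧
      Cfsg.classInner (fun w : W => (χ : G → ℂ) w) (F q) ≠ 0 := by
    intro q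
    refine Quotient.inductionOn q fun x => ?_
    exact ⟨CharInduce.isIrrCharacter_conjFun W θ.2 x⁻¹,
      by rw [show F (Quotient.mk _ x) = CharInduce.conjFun W (θ : W → ℂ) x⁻¹ from rfl,
        CharInduce.classInner_res_conjFun W (IsIrr.isClassFunction χ.2)]; exact hθ⟩
  have hconj : ∀ q : G ⧸ T, ∃ q' : G ⧸ T, F q' = fun w => conj (F q w) := by
    intro q
    obtain ⟨hi, hne⟩ := hmem q
    have h2 : Cfsg.classInner (fun w : W => (χ : G → ℂ) w) (fun w => conj (F q w)) ≠ 0 := by
      intro h0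
      apply hne
      have e : (fun w : W => (χ : G → ℂ) w) = fun w : W => conj ((χ : G → ℂ) w) :=
        funext fun w => ((realFun_iff _).1 hreal w).symm
      rw [e] at h0
      have h3 := congrArg (starRingEnd ℂ) h0
      simpa [classInner_def] using h3
    obtain ⟨x, hx⟩ := CharInduce.exists_conjFun_eq_of_constituent W χ.2 θ.2
      (CharInduce.IsIrr.conj hi) hθ h2
    exact ⟨Quotient.mk _ x⁻¹, by
      show CharInduce.conjFun W (θ : W → ℂ) x⁻¹⁻¹ = _
      rw [inv_inv, ← hx]⟩
  choose σ hσ using hconj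
  have hσ2 : Function.Involutive σ := fun q => hFinj (by rw [hσ, hσ]; funext w; simp)
  obtain ⟨q, hq⟩ : ∃ q, σ q = q := by
    by_contra hc
    push Not at hc
    have h0 : ∑ _q : G ⧸ T, (1 : ZMod 2) = 0 :=
      Finset.sum_involution (fun q _ => σ q) (fun _ _ => by decide) (fun q _ _ => hc q)
        (fun _ _ => Finset.mem_univ _) (fun q _ => hσ2 q)
    rw [Finset.sum_const, nsmul_eq_mul, mul_one, Finset.card_univ, ← Nat.card_eq_fintype_card,
      ← Subgroup.index, ZMod.natCast_eq_zero_iff_even] at h0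
    exact Nat.not_even_iff_odd.2 hidx h0
  refine ⟨⟨F q, (hmem q).1⟩, (hmem q).2, (realFun_iff _).2 fun w => ?_⟩
  have h1 := hσ q
  rw [hq] at h1
  exact (congrFun h1 w).symm

omit [Fintype G] [Fintype W] in
theorem mem_inertia_conjFun (θ : W → ℂ) (x g : G) :
    g ∈ CharInduce.inertia W (CharInduce.conjFun W θ x) ↔ x * g * x⁻¹ ∈ CharInduce.inertia W θ := by
  rw [CharInduce.mem_inertia, CharInduce.conjFun_mul, CharInduce.conjFun_eq_iff]

/-- A constituent of an odd-degree character has a conjugate fixed by a Sylow 2-subgroup. -/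
theorem exists_fixed_conj {χ : Cfsg.IrrCharacter G} (hodd : Odd (Cfsg.charDegree (χ : G → ℂ)))
    {θ : Cfsg.IrrCharacter W}
    (h : Cfsg.classInner (fun w : W => (χ : G → ℂ) w) (θ : W → ℂ) ≠ 0) (P : Sylow 2 G) :
    ∃ x : G, (P : Subgroup G) ≤ CharInduce.inertia W (CharInduce.conjFun W (θ : W → ℂ) x) ∧
      Cfsg.classInner (fun w : W => (χ : G → ℂ) w) (CharInduce.conjFun W (θ : W → ℂ) x) ≠ 0 := by
  set T := CharInduce.inertia W (θ : W → ℂ)
  obtain ⟨hidx, -⟩ := odd_data W hodd h
  obtain ⟨R⟩ : Nonempty (Sylow 2 T) := inferInstance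
  have hR2 : ¬ 2 ∣ ((R : Subgroup T).map T.subtype).index := by
    rw [Subgroup.index_map_subtype]
    intro h2
    rcases Nat.prime_two.dvd_mul.1 h2 with h3 | h3
    · exact R.not_dvd_index h3
    · exact Nat.not_even_iff_odd.2 hidx (even_iff_two_dvd.2 h3)
  let R' : Sylow 2 G := (R.isPGroup'.map T.subtype).toSylow hR2
  obtain ⟨x, hx⟩ := MulAction.exists_smul_eq G R' P
  refine ⟨x⁻¹, fun g hg => ?_, ?_⟩
  · rw [mem_inertia_conjFun]
    rw [← hx, Sylow.coe_subgroup_smul, Subgroup.mem_pointwise_smul_iff_inv_smul_mem] at hg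
    have hg' : x⁻¹ * g * x ∈ (R' : Subgroup G) := by simpa [mul_assoc] using hg
    simpa using Subgroup.map_subtype_le _ hg'
  · rw [CharInduce.classInner_res_conjFun W (IsIrr.isClassFunction χ.2)]
    exact h

omit [Fintype W] in
/-- Burnside: fixed conjugate constituents are conjugate in the normaliser. -/
theorem exists_normalizer_conj (P : Sylow 2 G) {θ : W → ℂ}
    (h : (P : Subgroup G) ≤ CharInduce.inertia W θ) {x : G}
    (h' : (P : Subgroup G) ≤ CharInduce.inertia W (CharInduce.conjFun W θ x)) :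
    ∃ n ∈ Subgroup.normalizer ((P : Subgroup G) : Set G),
      CharInduce.conjFun W θ n = CharInduce.conjFun W θ x := by
  set T := CharInduce.inertia W θ
  have h2 : ((x • P : Sylow 2 G) : Subgroup G) ≤ T := by
    intro y hy
    rw [Sylow.coe_subgroup_smul, Subgroup.mem_pointwise_smul_iff_inv_smul_mem] at hy
    have := (mem_inertia_conjFun W θ x _).1 (h' hy)
    simpa [mul_assoc] using this
  obtain ⟨t, ht⟩ := MulAction.exists_smul_eq T ((x • P).subtype h2) (P.subtype h)
  rw [Sylow.smul_subtype] at ht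
  have h3 := Sylow.subtype_injective ht
  rw [Subgroup.smul_def, smul_smul, Sylow.smul_eq_iff_mem_normalizer] at h3
  refine ⟨(t : G) * x, h3, ?_⟩
  rw [← CharInduce.conjFun_mul, (CharInduce.mem_inertia W).1 t.2]

omit [Fintype W] in
theorem aInv_iff (S : Subgroup G) {θ : W → ℂ} :
    AInv S θ ↔ S ≤ CharInduce.inertia W θ := by
  constructor
  · intro h s hs
    rw [CharInduce.mem_inertia]
    funext w
    exact h s hs w _ rfl
  · intro h s hs g g' e
    have := congrFun ((CharInduce.mem_inertia W).1 (h hs)) g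
    rw [conjFun_mk] at this
    rw [← this]
    congr 1
    exact Subtype.ext e

/-- On an odd normal subgroup a fixed nontrivial character means nontrivial fixed points. -/
theorem exists_fixed_iff (P : Sylow 2 G) (hK : Odd (Nat.card W)) :
    (∃ θ : Cfsg.IrrCharacter W, (θ : W → ℂ) ≠ (fun _ => 1) ∧
      (P : Subgroup G) ≤ CharInduce.inertia W (θ : W → ℂ)) ↔
      W ⊓ Subgroup.centralizer ((P : Subgroup G) : Set G) ≠ ⊥ := by
  classical
  have hcop : (Nat.card W).Coprime (Nat.card (P : Subgroup G)) := by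
    rw [P.card_eq_multiplicity]
    exact (Nat.Coprime.pow_right _ (hK.coprime_two_right))
  haveI : Group.IsSolvable (P : Subgroup G) := by
    haveI := P.isPGroup'.isNilpotent
    infer_instance
  have hcard := card_aInv_eq_card_classFix W (P : Subgroup G)
    (fun s _ w hw => hW.conj_mem w hw s) hcop inferInstance
  let C1 : {C : ConjClasses W // ClassFix (P : Subgroup G) C} :=
    ⟨ConjClasses.mk 1, fun s _ g g' e hg => by
      rw [ConjClasses.mk_eq_mk_iff_isConj, isConj_one_left] at hg ⊢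
      · exact Subtype.ext (by rw [e, hg]; simp)⟩
  have h1 : (∃ θ : Cfsg.IrrCharacter W, (θ : W → ℂ) ≠ (fun _ => 1) ∧
      (P : Subgroup G) ≤ CharInduce.inertia W (θ : W → ℂ)) ↔
      1 < Nat.card {χ : Cfsg.IrrCharacter W // AInv (P : Subgroup G) (χ : W → ℂ)} := by
    rw [Finite.one_lt_card_iff_nontrivial]
    let one : {χ : Cfsg.IrrCharacter W // AInv (P : Subgroup G) (χ : W → ℂ)} :=
      ⟨⟨fun _ => 1, isIrrCharacter_one⟩, fun _ _ _ _ _ => rfl⟩
    constructor
    · rintro ⟨θ, hne, hle⟩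
      exact ⟨⟨⟨θ, (aInv_iff W _).2 hle⟩, one, fun h => hne (congrArg (fun c => (c.1 : W → ℂ)) h)⟩⟩
    · intro hnt
      obtain ⟨⟨θ, hθ⟩, hne⟩ := exists_ne one
      exact ⟨θ, fun h => hne (Subtype.ext (Subtype.ext h)), (aInv_iff W _).1 hθ⟩
  rw [h1, hcard, Finite.one_lt_card_iff_nontrivial]
  constructor
  · intro hnt
    obtain ⟨⟨C, hC⟩, hne⟩ := exists_ne C1
    -- the fixed class has a fixed element
    obtain ⟨w, rfl⟩ := ConjClasses.mk_surjective C
    letI : MulAction (P : Subgroup G) {v : W // ConjClasses.mk v = ConjClasses.mk w} :=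
      { smul := fun s v => ⟨MulAut.conjNormal (s : G) v.1,
          hC s s.2 v.1 _ (MulAut.conjNormal_apply _ _) v.2⟩
        one_smul := fun v => Subtype.ext
          (show MulAut.conjNormal ((1 : (P : Subgroup G)) : G) v.1 = v.1 by simp)
        mul_smul := fun s t v => Subtype.ext
          (show MulAut.conjNormal ((s * t : (P : Subgroup G)) : G) v.1 =
            MulAut.conjNormal (s : G) (MulAut.conjNormal (t : G) v.1) by simp) }
    have hdvd : Nat.card {v : W // ConjClasses.mk v = ConjClasses.mk w} ∣ Nat.card W := by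
      have e : Nat.card {v : W // ConjClasses.mk v = ConjClasses.mk w} =
          (Subgroup.centralizer ({w} : Set W)).index := by
        rw [← BlockBasic.card_class w, Nat.card_eq_fintype_card, Fintype.card_subtype]
        congr 1
        ext v
        simp only [Finset.mem_filter, Finset.mem_univ, true_and]
        exact ⟨fun h => (ConjClasses.mk_eq_mk_iff_isConj.1 h).symm, fun h => ConjClasses.mk_eq_mk_iff_isConj.2 h.symm⟩
      rw [e]
      exact Subgroup.index_dvd_card _
    obtain ⟨⟨v, hv⟩, hfix⟩ := P.isPGroup'.nonempty_fixed_point_of_prime_not_dvd_card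
      {v : W // ConjClasses.mk v = ConjClasses.mk w}
      fun h2 => Nat.not_even_iff_odd.2 hK (even_iff_two_dvd.2 (h2.trans hdvd))
    intro hbot
    apply hne
    refine Subtype.ext ?_
    show ConjClasses.mk w = ConjClasses.mk 1
    rw [← hv]
    congr 1
    have hmem : (v : G) ∈ W ⊓ Subgroup.centralizer ((P : Subgroup G) : Set G) := by
      refine ⟨v.2, Subgroup.mem_centralizer_iff.2 fun s hs => ?_⟩
      have h3 := congrArg (fun c : {v : W // _} => (c.1 : G)) (hfix ⟨s, hs⟩)
      simp only at h3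
      change s * (v : G) * s⁻¹ = v at h3
      exact mul_inv_eq_iff_eq_mul.1 h3
    rw [hbot, Subgroup.mem_bot] at hmem
    exact Subtype.ext hmem
  · intro hne
    obtain ⟨⟨c, hcW, hcC⟩, hc⟩ := Subgroup.ne_bot_iff_exists_ne_one.1 hne
    have hc1 : c ≠ 1 := fun h => hc (Subtype.ext h)
    refine ⟨⟨C1, ⟨ConjClasses.mk ⟨c, hcW⟩, fun s hs g g' e hg => ?_⟩, fun h => hc1 ?_⟩⟩
    · rw [ConjClasses.mk_eq_mk_iff_isConj] at hg ⊢
      obtain ⟨y, hy⟩ := isConj_iff.1 hg
      refine isConj_iff.2 ⟨MulAut.conjNormal s y, Subtype.ext ?_⟩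
      have hy' := congrArg Subtype.val hy
      simp only [Subgroup.coe_mul, InvMemClass.coe_inv] at hy'
      simp only [Subgroup.coe_mul, InvMemClass.coe_inv, MulAut.conjNormal_apply]
      rw [e]
      have hsc : s * ↑c * s⁻¹ = (c : G) := by
        rw [Subgroup.mem_centralizer_iff.1 hcC s hs, mul_inv_cancel_right]
      calc s * (y : G) * s⁻¹ * (s * (g : G) * s⁻¹) * (s * (y : G) * s⁻¹)⁻¹
          = s * ((y : G) * g * (y : G)⁻¹) * s⁻¹ := by group
        _ = (c : G) := by rw [hy', hsc]
    · have h' := congrArg Subtype.val h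
      rw [ConjClasses.mk_eq_mk_iff_isConj, isConj_one_right] at h'
      exact congrArg Subtype.val h'

end Constituents

end Cfsg.Agent.H80.RealOdd
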