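import Cfsg.Agent.CharBasic.Kernel
import Cfsg.Agent.CharBasic.Complete
import Cfsg.Agent.BlockBasic.PPart
import Cfsg.Agent.H43.Galois

/-!
# Blichfeldt: abelian Hall subgroups for primes beyond the degree plus one
-/

set_option linter.style.haveILetI false

open scoped ComplexConjugate commutatorElement

namespace Cfsg.Agent.H80.Blichfeldt

open CharBasic

universe u

variable {G : Type u} [Group G] [Finite G]

/-- A faithful character of degree at most `n`. -/
def HasFaithful (n : ℕ) (G : Type u) [Group G] : Prop :=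
  ∃ χ : G → ℂ, Cfsg.IsCharacter G χ ∧ (∀ g, χ g = χ 1 → g = 1) ∧ ∃ d : ℕ, d ≤ n ∧ χ 1 = (d : ℂ)

omit [Finite G] in
theorem HasFaithful.subgroup {n : ℕ} (h : HasFaithful n G) (H : Subgroup G) :
    HasFaithful n H := by
  obtain ⟨χ, ⟨m, ρ, hρ⟩, hf, d, hd, h1⟩ := h
  refine ⟨fun x => χ (x : G), ⟨m, ρ.comp H.subtype, ?_⟩, fun x hx => Subtype.ext (hf _ ?_), d, hd,
    by simpa using h1⟩
  · subst hρ; rfl
  · simpa using hx

/-- The constituents of a faithful character. -/
theorem exists_constituents {n : ℕ} (h : HasFaithful n G) :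
    ∃ s : Multiset (Cfsg.IrrCharacter G),
      (∀ ψ ∈ s, ∃ d : ℕ, d ≤ n ∧ (ψ : G → ℂ) 1 = (d : ℂ)) ∧
      ∀ g, (∀ ψ ∈ s, (ψ : G → ℂ) g = (ψ : G → ℂ) 1) → g = 1 := by
  obtain ⟨χ, hχ, hf, d, hd, h1⟩ := h
  obtain ⟨s, rfl⟩ := IsChar.eq_multiset_sum hχ
  have happ : ∀ g, (s.map Subtype.val).sum g =
      (s.map fun ψ : Cfsg.IrrCharacter G => (ψ : G → ℂ) g).sum := by
    intro g
    simp [Pi.multiset_sum_apply, Multiset.map_map]
  refine ⟨s, fun ψ hψ => ?_, fun g hg => hf g ?_⟩
  · obtain ⟨e, -, he⟩ := IsIrr.exists_degree ψ.2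
    refine ⟨e, ?_, he⟩
    obtain ⟨t, rfl⟩ := Multiset.exists_cons_of_mem hψ
    rw [happ, Multiset.map_cons, Multiset.sum_cons, he] at h1
    choose f hf hf' using fun φ : Cfsg.IrrCharacter G => IsIrr.exists_degree φ.2
    have hsum : (t.map fun φ : Cfsg.IrrCharacter G => (φ : G → ℂ) 1).sum = ((t.map f).sum : ℂ) := by
      rw [Nat.cast_multiset_sum, Multiset.map_map]
      exact congrArg _ (Multiset.map_congr rfl fun φ _ => hf' φ)
    rw [hsum] at h1
    have : e + (t.map f).sum = d := by exact_mod_cast h1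
    omega
  · rw [happ, happ]
    exact congrArg _ (Multiset.map_congr rfl hg)

/-- A group whose prime divisors exceed `n + 1` is abelian. -/
theorem commute_of_big {n : ℕ} (h : HasFaithful n G)
    (hbig : ∀ q : ℕ, q.Prime → q ∣ Nat.card G → n + 1 < q) (a b : G) : a * b = b * a := by
  obtain ⟨s, hdeg, hker⟩ := exists_constituents h
  rw [← commutatorElement_eq_one_iff_mul_comm]
  refine hker _ fun ψ hψ => ?_
  obtain ⟨d, hd, h1⟩ := hdeg ψ hψ
  obtain ⟨e, he0, he1, hed, -⟩ := IsIrr.degree_dvd ψ.2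
  have hde : d = e := Nat.cast_injective (h1.symm.trans he1)
  have he : e = 1 := by
    by_contra hne
    obtain ⟨q, hq, hqe⟩ := Nat.exists_prime_and_dvd hne
    have := hbig q hq (hqe.trans hed)
    have := Nat.le_of_dvd he0 hqe
    omega
  obtain ⟨m, ρ, -, hρ⟩ := ψ.2
  have hm : m = 1 := by
    have : (m : ℂ) = (1 : ℕ) := by
      rw [← he, ← he1, ← hρ, Representation.char_one, Module.finrank_fin_fun]
    exact_mod_cast this
  subst hm
  have hcomm : ∀ f g : Module.End ℂ (Fin 1 → ℂ), f * g = g * f := by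
    intro f g
    apply LinearMap.toMatrix'.injective
    rw [LinearMap.toMatrix'_mul, LinearMap.toMatrix'_mul]
    ext i j
    simp [Matrix.mul_apply, Subsingleton.elim i 0, Subsingleton.elim j 0, mul_comm]
  rw [← hρ]
  simp only [Representation.character]
  congr 1
  rw [commutatorElement_def, map_mul, map_mul, map_mul, hcomm (ρ a) (ρ b), mul_assoc (ρ b),
    ← map_mul ρ a a⁻¹, mul_inv_cancel, map_one, mul_one, ← map_mul, mul_inv_cancel, map_one]

/-- An automorphism moving a character with nontrivial `p`-part. -/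
theorem exists_aut_ne {p : ℕ} [hp : Fact p.Prime] (ψ : Cfsg.IrrCharacter G) {d : ℕ}
    (hd1 : (ψ : G → ℂ) 1 = (d : ℂ)) (hd : d + 1 < p) {x : G} (hx : ∃ k, orderOf x = p ^ k)
    (hψx : (ψ : G → ℂ) x ≠ (ψ : G → ℂ) 1) :
    ∃ σ : ℂ ≃+* ℂ, (fun g => σ ((ψ : G → ℂ) g)) ≠ (ψ : G → ℂ) ∧
      ∀ g, BlockBasic.pPart (p := p) g = 1 → σ ((ψ : G → ℂ) g) = (ψ : G → ℂ) g := by
  classical
  obtain ⟨u, hu⟩ := IsCyclic.exists_generator (α := (ZMod p)ˣ)
  have hord : orderOf u = p - 1 := by
    rw [orderOf_eq_card_of_forall_mem_zpowers hu, Nat.card_eq_fintype_card, ZMod.card_units]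
  set N := Nat.card G with hN
  set a := N.factorization p with ha
  have hm : ¬ p ∣ N / p ^ a := Nat.not_dvd_ordCompl hp.out Nat.card_pos.ne'
  have hco : (p ^ a).Coprime (N / p ^ a) := ((hp.out.coprime_iff_not_dvd).2 hm).pow_left a
  obtain ⟨k, hk1, hk2⟩ := Nat.chineseRemainder hco (u : ZMod p).val 1
  have hkm : (N / p ^ a).Coprime k := by
    rw [Nat.Coprime, Nat.gcd_comm, hk2.gcd_eq, Nat.gcd_one_left]
  have hkp : a ≠ 0 → (k : ZMod p) = (u : ZMod p) := by
    intro h0
    have := (ZMod.natCast_eq_natCast_iff _ _ _).2 (hk1.of_dvd (dvd_pow_self p h0))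
    rwa [ZMod.natCast_zmod_val] at this
  have hkN : k.Coprime N := by
    rw [← Nat.ordProj_mul_ordCompl_eq_self N p]
    refine Nat.Coprime.mul_right ?_ hkm.symm
    by_cases h0 : a = 0
    · rw [ha] at h0; rw [h0, pow_zero]; exact Nat.coprime_one_right k
    · refine Nat.Coprime.pow_right _ ((hp.out.coprime_iff_not_dvd).2 fun h => ?_).symm
      have := hkp h0
      rw [(ZMod.natCast_eq_zero_iff k p).2 h] at this
      exact u.ne_zero this.symm
  obtain ⟨σ, hσ⟩ := H43.exists_aut_pow (Nat.card_pos (α := G)).ne' hkN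
  refine ⟨σ, fun heq => ?_, fun g hg => ?_⟩
  · obtain ⟨m, ρ, hirr, hρ⟩ := ψ.2
    obtain ⟨b, μ, hb, hμ, hsum⟩ := exists_eigenbasis_rep ρ x
    have hcard : Module.finrank ℂ (Fin m → ℂ) = d := by
      have : ((Module.finrank ℂ (Fin m → ℂ) : ℕ) : ℂ) = (d : ℂ) := by
        rw [← hd1, ← hρ, Representation.char_one]
      exact_mod_cast this
    have hpow : ∀ t : ℕ, (ψ : G → ℂ) (x ^ t) = ∑ i, μ i ^ t := by
      intro t
      rw [← hρ]
      refine trace_eq_sum_of_eigenbasis b (fun i => μ i ^ t) _ fun i => ?_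
      induction t with
      | zero => simp
      | succ t ih =>
        rw [pow_succ, map_mul, Module.End.mul_apply, hb, map_smul, ih, smul_smul, mul_comm,
          pow_succ]
    set o := orderOf x with ho
    have ho0 : 0 < o := orderOf_pos x
    have hoN : o ∣ N := orderOf_dvd_natCard x
    have hNμ : ∀ i, μ i ^ N = 1 := fun i => by
      obtain ⟨e, he⟩ := hoN
      rw [he, pow_mul, hμ i, one_pow]
    have hσμ : ∀ t : ℕ, ∑ i, μ i ^ t = ∑ i, (μ i ^ k) ^ t := by
      intro t
      rw [← hpow, ← congrFun heq (x ^ t)]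
      show σ ((ψ : G → ℂ) (x ^ t)) = _
      rw [hpow, map_sum]
      exact Finset.sum_congr rfl fun i _ => by rw [map_pow, hσ _ (hNμ i)]
    have hgeom : ∀ w : ℂ, w ^ o = 1 →
        ∑ t ∈ Finset.range o, w ^ t = if w = 1 then (o : ℂ) else 0 := by
      intro w hw
      split_ifs with h
      · simp [h]
      · rw [geom_sum_eq h, hw, sub_self, zero_div]
    have hcount : ∀ z : ℂ, z ^ o = 1 →
        (Finset.univ.filter (fun i => μ i = z)).card =
          (Finset.univ.filter (fun i => μ i ^ k = z)).card := by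
      intro z hz
      have e1 : ∀ f : Fin (Module.finrank ℂ (Fin m → ℂ)) → ℂ, (∀ i, f i ^ o = 1) →
          ∑ t ∈ Finset.range o, z⁻¹ ^ t * ∑ i, f i ^ t =
            (o : ℂ) * ((Finset.univ.filter (fun i => f i = z)).card : ℂ) := by
        intro f hf
        simp_rw [Finset.mul_sum, ← mul_pow]
        rw [Finset.sum_comm, Finset.sum_congr rfl fun i _ => hgeom _ (by
          rw [mul_pow, inv_pow, hz, hf, inv_one, one_mul])]
        rw [← Finset.sum_filter, Finset.sum_const, nsmul_eq_mul, mul_comm]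
        congr 2
        refine congrArg Finset.card (Finset.filter_congr fun i _ => ?_)
        have hz0 : z ≠ 0 := fun e => by simp [e, ho0.ne'] at hz
        rw [inv_mul_eq_one₀ hz0, eq_comm]
      have h2 := e1 μ hμ
      have h3 := e1 (fun i => μ i ^ k) fun i => by rw [← pow_mul, mul_comm, pow_mul, hμ i, one_pow]
      simp_rw [hσμ] at h2
      rw [h2] at h3
      exact_mod_cast mul_left_cancel₀ (Nat.cast_ne_zero.2 ho0.ne') h3
    obtain ⟨i₀, hi₀⟩ : ∃ i, μ i ≠ 1 := by
      by_contra hcon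
      push Not at hcon
      apply hψx
      rw [← pow_one x, hpow, hd1, ← hcard]
      simp [hcon]
    set z := μ i₀
    have horbit : ∀ t : ℕ, ∃ i, μ i = z ^ k ^ t := by
      intro t
      induction t with
      | zero => exact ⟨i₀, by rw [pow_zero, pow_one]⟩
      | succ t ih =>
        obtain ⟨i, hi⟩ := ih
        have hw : (μ i ^ k) ^ o = 1 := by rw [← pow_mul, mul_comm, pow_mul, hμ i, one_pow]
        have hpos : 0 < (Finset.univ.filter (fun j => μ j ^ k = μ i ^ k)).card :=
          Finset.card_pos.2 ⟨i, by simp⟩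
        rw [← hcount _ hw] at hpos
        obtain ⟨j, hj⟩ := Finset.card_pos.1 hpos
        exact ⟨j, by rw [(Finset.mem_filter.1 hj).2, hi, ← pow_mul, pow_succ]⟩
    obtain ⟨e, he⟩ := hx
    have hz1 : p ∣ orderOf z := by
      obtain ⟨j, -, hj⟩ := (Nat.dvd_prime_pow hp.out).1
        ((orderOf_dvd_of_pow_eq_one (hμ i₀) : orderOf z ∣ o).trans (by rw [he]))
      rcases Nat.eq_zero_or_pos j with rfl | hj0
      · exact absurd (orderOf_eq_one_iff.1 (by simpa using hj)) hi₀
      · exact hj ▸ dvd_pow_self p hj0.ne'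
    have ha0 : a ≠ 0 := by
      intro h0
      have h1 : p ∣ N := hz1.trans ((orderOf_dvd_of_pow_eq_one (hμ i₀)).trans hoN)
      rw [ha, Nat.factorization_eq_zero_iff] at h0
      rcases h0 with h | h | h
      · exact h hp.out
      · exact h h1
      · exact Nat.card_pos.ne' h
    have hinj : Set.InjOn (fun t : ℕ => z ^ k ^ t) (Finset.range (p - 1) : Set ℕ) := by
      intro s hs t ht e'
      simp only [Finset.coe_range, Set.mem_Iio] at hs ht
      have hz0 : z ≠ 0 := by
        intro e0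
        have := hμ i₀
        rw [show μ i₀ = 0 from e0, zero_pow ho0.ne'] at this
        exact zero_ne_one this
      have h1 : k ^ s ≡ k ^ t [MOD orderOf z] := by
        rcases le_total (k ^ s) (k ^ t) with hle | hle
        · refine (Nat.modEq_iff_dvd' hle).2 (orderOf_dvd_of_pow_eq_one ?_)
          simp only at e'
          have := pow_sub₀ z hz0 hle
          rw [this, e', mul_inv_cancel₀ (pow_ne_zero _ hz0)]
        · refine ((Nat.modEq_iff_dvd' hle).2 (orderOf_dvd_of_pow_eq_one ?_)).symm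
          simp only at e'
          have := pow_sub₀ z hz0 hle
          rw [this, e', mul_inv_cancel₀ (pow_ne_zero _ hz0)]
      have h2 := (ZMod.natCast_eq_natCast_iff _ _ _).2 (h1.of_dvd hz1)
      push_cast at h2
      rw [hkp ha0, ← Units.val_pow_eq_pow_val, ← Units.val_pow_eq_pow_val] at h2
      exact pow_injOn_Iio_orderOf (by rwa [Set.mem_Iio, hord]) (by rwa [Set.mem_Iio, hord])
        (Units.ext h2)
    have hle : (Finset.range (p - 1)).card ≤
        (Finset.univ : Finset (Fin (Module.finrank ℂ (Fin m → ℂ)))).card := by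
      rw [← Finset.card_image_of_injOn hinj]
      refine (Finset.card_le_card ?_).trans (Finset.card_image_le (f := μ))
      intro w hw
      obtain ⟨t, -, rfl⟩ := Finset.mem_image.1 hw
      obtain ⟨i, hi⟩ := horbit t
      exact Finset.mem_image.2 ⟨i, Finset.mem_univ _, hi⟩
    rw [Finset.card_range, Finset.card_fin, hcard] at hle
    omega
  · refine H43.aut_eq_on_value (H43.gen_of_irr ψ.2) g σ (RingEquiv.refl ℂ) fun w hw => ?_
    have hgN : w ^ (N / p ^ a) = 1 := by
      have hd' : orderOf g ∣ N / p ^ a := by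
        have h1 : orderOf g ∣ p ^ a * (N / p ^ a) := by
          rw [Nat.ordProj_mul_ordCompl_eq_self]; exact orderOf_dvd_natCard g
        exact (((hp.out.coprime_iff_not_dvd).2
          ((BlockBasic.pPart_eq_one_iff g).1 hg)).symm.pow_right a).dvd_of_dvd_mul_left h1
      obtain ⟨e, he⟩ := hd'
      rw [he, pow_mul, hw, one_pow]
    have hwN : w ^ N = 1 := by
      rw [← Nat.ordProj_mul_ordCompl_eq_self N p, mul_comm, pow_mul, hgN, one_pow]
    rw [hσ w hwN, pow_eq_pow_mod k hgN]
    show w ^ (k % (N / p ^ a)) = w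
    rw [hk2, ← pow_eq_pow_mod 1 hgN, pow_one]

/-- An element with two nontrivial prime parts. -/
theorem exists_two_parts {p q : ℕ} [hp : Fact p.Prime] [hq : Fact q.Prime] (hpq : p ≠ q)
    (ψ : Cfsg.IrrCharacter G) {d : ℕ} (hd1 : (ψ : G → ℂ) 1 = (d : ℂ)) (hdp : d + 1 < p)
    (hdq : d + 1 < q) {x : G} (hx : ∃ k, orderOf x = p ^ k) (hψx : (ψ : G → ℂ) x ≠ (ψ : G → ℂ) 1)
    {y : G} (hy : ∃ k, orderOf y = q ^ k) (hψy : (ψ : G → ℂ) y ≠ (ψ : G → ℂ) 1) :
    ∃ g : G, BlockBasic.pPart (p := p) g ≠ 1 ∧ BlockBasic.pPart (p := q) g ≠ 1 := by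
  haveI : Fintype G := Fintype.ofFinite G
  obtain ⟨σ, hσne, hσ⟩ := exists_aut_ne ψ hd1 hdp hx hψx
  obtain ⟨τ, hτne, hτ⟩ := exists_aut_ne ψ hd1 hdq hy hψy
  by_contra hcon
  push Not at hcon
  set A : G → ℂ := fun g => σ ((ψ : G → ℂ) g) with hA
  set B : G → ℂ := fun g => τ ((ψ : G → ℂ) g) with hB
  have hAi : Cfsg.IsIrrCharacter G A := H43.aut_irr σ ψ.2
  have hBi : Cfsg.IsIrrCharacter G B := H43.aut_irr τ ψ.2
  have h0 : Cfsg.classInner ((ψ : G → ℂ) - A) ((ψ : G → ℂ) - B) = 0 := by
    rw [classInner_def]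
    refine mul_eq_zero_of_right _ (Finset.sum_eq_zero fun g _ => ?_)
    by_cases hg : BlockBasic.pPart (p := p) g = 1
    · simp [hA, hσ g hg]
    · simp [hB, hτ g (hcon g hg)]
  rw [classInner_sub_left, classInner_sub_right, classInner_sub_right,
    classInner_irr_self ψ.2, classInner_irr_of_ne ψ.2 hBi hτne.symm,
    classInner_irr_of_ne hAi ψ.2 hσne] at h0
  obtain ⟨r, hr⟩ := classInner_isChar_nat (IsIrr.isCharacter hAi) (IsIrr.isCharacter hBi)
  rw [hr] at h0
  have : (1 : ℂ) + (r : ℂ) = 0 := by linear_combination h0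
  exact absurd (by exact_mod_cast this : (1 + r : ℕ) = 0) (by omega)

/-- Two large primes have commuting nontrivial elements. -/
theorem exists_commuting {n : ℕ} (h : HasFaithful n G) {p q : ℕ} (hp : p.Prime) (hq : q.Prime)
    (hpq : p ≠ q) (hpn : n + 1 < p) (hqn : n + 1 < q) (hpG : p ∣ Nat.card G)
    (hqG : q ∣ Nat.card G) :
    ∃ x y : G, x ≠ 1 ∧ (∃ k, orderOf x = p ^ k) ∧ y ≠ 1 ∧ (∃ k, orderOf y = q ^ k) ∧
      Commute x y := by
  haveI : Fact p.Prime := ⟨hp⟩
  haveI : Fact q.Prime := ⟨hq⟩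
  obtain ⟨s, hdeg, hker⟩ := exists_constituents h
  by_cases hex : ∃ ψ ∈ s, (∃ x : G, (∃ k, orderOf x = p ^ k) ∧ (ψ : G → ℂ) x ≠ (ψ : G → ℂ) 1) ∧
      ∃ y : G, (∃ k, orderOf y = q ^ k) ∧ (ψ : G → ℂ) y ≠ (ψ : G → ℂ) 1
  · obtain ⟨ψ, hψ, ⟨x, hx, hψx⟩, y, hy, hψy⟩ := hex
    obtain ⟨d, hd, hd1⟩ := hdeg ψ hψ
    obtain ⟨g, hgp, hgq⟩ := exists_two_parts hpq ψ hd1 (by omega) (by omega) hx hψx hy hψy
    refine ⟨_, _, hgp, BlockBasic.exists_orderOf_pPart g, hgq,
      BlockBasic.exists_orderOf_pPart g, ?_⟩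
    have hcx : Commute g (BlockBasic.pPart (p := p) g) := by
      have h1 := (Commute.refl (BlockBasic.pPart (p := p) g)).mul_left
        (BlockBasic.commute_pPart_pReg (p := p) g).symm
      rwa [BlockBasic.pPart_mul_pReg] at h1
    have h1 := BlockBasic.pPart_conj (p := q) g (BlockBasic.pPart (p := p) g)
    rw [← hcx.eq, mul_inv_cancel_right] at h1
    exact (mul_inv_eq_iff_eq_mul.1 h1.symm)
  · push Not at hex
    obtain ⟨x, hx⟩ := exists_prime_orderOf_dvd_card' p hpG
    obtain ⟨y, hy⟩ := exists_prime_orderOf_dvd_card' q hqG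
    have hx1 : x ≠ 1 := fun e => hp.ne_one (by rw [← hx, e, orderOf_one])
    have hy1 : y ≠ 1 := fun e => hq.ne_one (by rw [← hy, e, orderOf_one])
    refine ⟨x, y, hx1, ⟨1, by rw [hx, pow_one]⟩, hy1, ⟨1, by rw [hy, pow_one]⟩, ?_⟩
    refine commutatorElement_eq_one_iff_commute.1 (hker _ fun ψ hψ => ?_)
    obtain ⟨K, hKn, hK, -⟩ := IsChar.exists_kernel (IsIrr.isCharacter ψ.2)
    rw [← hK, commutatorElement_def]
    by_cases hψx : (ψ : G → ℂ) x = (ψ : G → ℂ) 1
    · rw [show x * y * x⁻¹ * y⁻¹ = x * (y * x⁻¹ * y⁻¹) by group]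
      exact mul_mem ((hK x).2 hψx) (hKn.conj_mem _ (inv_mem ((hK x).2 hψx)) y)
    · have hψy := hex ψ hψ ⟨x, ⟨1, by rw [hx, pow_one]⟩, hψx⟩ y ⟨1, by rw [hy, pow_one]⟩
      exact mul_mem (hKn.conj_mem _ ((hK y).2 hψy) x) (inv_mem ((hK y).2 hψy))

/-- In a perfect group with a faithful small character no large prime divides the centre. -/
theorem center_pFree {n : ℕ} (h : HasFaithful n G) (hperf : commutator G = ⊤) {p : ℕ}
    (hp : p.Prime) (hpn : n + 1 < p) {z : G} (hz : z ∈ Subgroup.center G)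
    (hzp : ∃ k, orderOf z = p ^ k) : z = 1 := by
  obtain ⟨s, hdeg, hker⟩ := exists_constituents h
  refine hker z fun ψ hψ => ?_
  obtain ⟨d, hd, hd1⟩ := hdeg ψ hψ
  obtain ⟨m, ρ, hirr, hρ⟩ := ψ.2
  haveI := hirr
  obtain ⟨ω, hω, -⟩ := exists_central_scalar ρ hz
  let δ : G →* ℂˣ :=
    ((LinearMap.det : Module.End ℂ (Fin m → ℂ) →* ℂ).comp ρ).toHomUnits
  have hδ : δ z = 1 := by
    have h1 : commutator G ≤ δ.ker := Abelianization.commutator_subset_ker δ
    exact h1 (hperf ▸ Subgroup.mem_top z)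
  have hdet : LinearMap.det (ρ z) = 1 := by
    have := congrArg Units.val hδ
    simpa [δ] using this
  have hmd : m = d := by
    have : (m : ℂ) = d := by rw [← hd1, ← hρ, Representation.char_one, Module.finrank_fin_fun]
    exact_mod_cast this
  rw [hω] at hdet
  have hωm : ω ^ m = 1 := by
    simpa [LinearMap.det_smul] using hdet
  obtain ⟨k, hk⟩ := hzp
  rw [← hρ]
  rcases Nat.eq_zero_or_pos m with rfl | hm0
  · simp [Representation.character, Subsingleton.elim (ρ z) (ρ 1)]
  have hωp : ω ^ p ^ k = 1 := by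
    have h1 : ρ z ^ p ^ k = 1 := by rw [← map_pow, ← hk, pow_orderOf_eq_one, map_one]
    rw [hω] at h1
    have h2 := congrFun (LinearMap.congr_fun h1 (fun _ => (1 : ℂ))) ⟨0, hm0⟩
    simpa [smul_pow, ← Module.End.one_eq_id] using h2
  have : ω = 1 := by
    have hco : Nat.Coprime m (p ^ k) :=
      (((hp.coprime_iff_not_dvd).2 fun hdvd => by
        have := Nat.le_of_dvd hm0 hdvd
        omega).pow_left k).symm
    rw [← orderOf_eq_one_iff]
    exact Nat.eq_one_of_dvd_coprimes hco (orderOf_dvd_of_pow_eq_one hωm)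
      (orderOf_dvd_of_pow_eq_one hωp)
  rw [Representation.character, Representation.character, hω, this, one_smul, map_one]
  rfl

theorem card_sup_dvd_mul {S R : Subgroup G} (hS : S ≤ Subgroup.normalizer (R : Set G)) :
    Nat.card (S ⊔ R : Subgroup G) ∣ Nat.card S * Nat.card R := by
  haveI : (R.subgroupOf (S ⊔ R)).Normal :=
    (Subgroup.normal_subgroupOf_iff_le_normalizer le_sup_right).2
      (sup_le hS R.le_normalizer)
  haveI : (R.subgroupOf S).Normal := Subgroup.normal_subgroupOf_of_le_normalizer hS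
  have e := QuotientGroup.quotientInfEquivProdNormalizerQuotient S R hS
  rw [← (R.subgroupOf (S ⊔ R)).index_mul_card,
    Nat.card_congr (Subgroup.subgroupOfEquivOfLe (le_sup_right : R ≤ S ⊔ R)).toEquiv]
  refine mul_dvd_mul_right ?_ _
  rw [Subgroup.index, ← Nat.card_congr e.toEquiv]
  exact Subgroup.index_dvd_card _

/-- The Hall property for the primes beyond `n + 1`. -/
def IsBigHall (n : ℕ) (A : Subgroup G) : Prop :=
  (∀ q : ℕ, q.Prime → q ∣ Nat.card A → n + 1 < q) ∧ ∀ q : ℕ, q.Prime → n + 1 < q → ¬ q ∣ A.index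

/-- Passing to a subgroup of small index. -/
theorem lift_hall {n : ℕ} {C : Subgroup G} (hC : ∀ q : ℕ, q.Prime → n + 1 < q → ¬ q ∣ C.index)
    {A : Subgroup C} (hA : IsBigHall n A) : IsBigHall n (A.map C.subtype) := by
  refine ⟨fun q hq hqd => hA.1 q hq ?_, fun q hq hqn hqd => ?_⟩
  · rwa [Subgroup.card_map_of_injective C.subtype_injective] at hqd
  · rw [Subgroup.index_map_subtype] at hqd
    exact (hq.dvd_mul.1 hqd).elim (hA.2 q hq hqn) (hC q hq hqn)

/-- Blichfeldt's theorem. -/
theorem exists_bigHall (N : ℕ) : ∀ (G : Type u) [Group G] [Finite G], Nat.card G ≤ N →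
    ∀ {n : ℕ}, HasFaithful n G → ∃ A : Subgroup G, IsBigHall n A := by
  induction N with
  | zero => exact fun G _ _ h => absurd (Nat.card_pos (α := G)) (by omega)
  | succ N ih =>
  intro G _ _ hcard n hF
  classical
  have hsub : ∀ C : Subgroup G, C ≠ ⊤ → ∃ A : Subgroup C, IsBigHall n A := by
    intro C hC
    refine ih C ?_ (hF.subgroup C)
    have h1 := C.index_mul_card
    have h2 := Subgroup.one_lt_index_of_ne_top hC
    have h3 : 0 < Nat.card C := Nat.card_pos
    nlinarith
  have step : ∀ C : Subgroup G, C ≠ ⊤ → (∀ q : ℕ, q.Prime → n + 1 < q → ¬ q ∣ C.index) →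
      ∃ A : Subgroup G, IsBigHall n A := by
    intro C hC hi
    obtain ⟨A, hA⟩ := hsub C hC
    exact ⟨_, lift_hall hi hA⟩
  have habel : ∀ H : Subgroup G, (∀ q : ℕ, q.Prime → q ∣ Nat.card H → n + 1 < q) →
      H ≤ Subgroup.centralizer (H : Set G) := by
    intro H hH a ha
    rw [Subgroup.mem_centralizer_iff]
    intro b hb
    exact congrArg Subtype.val (commute_of_big (hF.subgroup H) hH ⟨b, hb⟩ ⟨a, ha⟩)
  have hpow : ∀ {p : ℕ}, p.Prime → n + 1 < p → ∀ H : Subgroup G, IsPGroup p H →
      ∀ q : ℕ, q.Prime → q ∣ Nat.card H → n + 1 < q := by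
    intro p hp hpn H hH q hq hqd
    haveI : Fact p.Prime := ⟨hp⟩
    obtain ⟨k, hk⟩ := IsPGroup.iff_card.1 hH
    rw [hk] at hqd
    rw [(Nat.prime_dvd_prime_iff_eq hq hp).1 (hq.dvd_of_dvd_pow hqd)]
    exact hpn
  by_cases hperf : commutator G = ⊤
  · by_cases hnone : ∀ q : ℕ, q.Prime → n + 1 < q → ¬ q ∣ Nat.card G
    · refine ⟨⊥, fun q hq hqd => ?_, fun q hq hqn hqd => hnone q hq hqn ?_⟩
      · rw [Subgroup.card_bot, Nat.dvd_one] at hqd
        exact absurd hqd hq.ne_one
      · rwa [Subgroup.index_bot] at hqd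
    push Not at hnone
    obtain ⟨p, hp, hpn, hpG⟩ := hnone
    haveI : Fact p.Prime := ⟨hp⟩
    obtain ⟨P₀⟩ := (inferInstance : Nonempty (Sylow p G))
    have hnc : ∀ {r : ℕ}, r.Prime → n + 1 < r → ∀ z : G, z ≠ 1 → (∃ k, orderOf z = r ^ k) →
        Subgroup.centralizer ({z} : Set G) ≠ ⊤ := by
      intro r hr hrn z hz1 hzr htop
      refine hz1 (center_pFree hF hperf hr hrn (Subgroup.mem_center_iff.2 fun g => ?_) hzr)
      exact (Subgroup.mem_centralizer_singleton_iff.1 (htop ▸ Subgroup.mem_top g))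
    refine step (Subgroup.centralizer ((P₀ : Subgroup G) : Set G)) ?_ ?_
    · intro htop
      obtain ⟨z, hz⟩ := exists_prime_orderOf_dvd_card' (G := (P₀ : Subgroup G)) p
        ((hp.dvd_iff_one_le_factorization Nat.card_pos.ne').2 (by
          rw [P₀.card_eq_multiplicity, Nat.Prime.factorization_pow hp, Finsupp.single_eq_same]
          exact (hp.dvd_iff_one_le_factorization Nat.card_pos.ne').1 hpG))
      have hz' : orderOf (z : G) = p := by rw [Subgroup.orderOf_coe, hz]
      refine hnc hp hpn (z : G) (fun e => hp.ne_one (by rw [← hz', e, orderOf_one]))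
        ⟨1, by rw [hz', pow_one]⟩ (eq_top_iff.2 fun g _ => ?_)
      rw [Subgroup.mem_centralizer_singleton_iff]
      exact (Subgroup.mem_centralizer_iff.1 (htop ▸ Subgroup.mem_top g) _ z.2).symm
    intro q hq hqn
    haveI : Fact q.Prime := ⟨hq⟩
    rcases eq_or_ne q p with rfl | hqp
    · exact fun h => P₀.not_dvd_index (h.trans
        (Subgroup.index_dvd_of_le (habel _ (hpow hp hpn _ P₀.2))))
    by_cases hqG : q ∣ Nat.card G
    swap
    · exact fun h => hqG (h.trans (Subgroup.index_dvd_card _))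
    obtain ⟨x, y, hx1, hxp, hy1, hyq, hxy⟩ :=
      exists_commuting hF hp hq hqp.symm hpn hqn hpG hqG
    set Cx := Subgroup.centralizer ({x} : Set G)
    obtain ⟨A, hA⟩ := hsub Cx (hnc hp hpn x hx1 hxp)
    have hCxp : ¬ p ∣ Cx.index := by
      have hxP : IsPGroup p (Subgroup.zpowers x) := by
        obtain ⟨k, hk⟩ := hxp
        exact IsPGroup.of_card (n := k) (by rw [Nat.card_zpowers, hk])
      obtain ⟨P, hP⟩ := hxP.exists_le_sylow
      refine fun h => P.not_dvd_index (h.trans (Subgroup.index_dvd_of_le ?_))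
      intro g hg
      rw [Subgroup.mem_centralizer_singleton_iff]
      exact Subgroup.mem_centralizer_iff.1 (habel _ (hpow hp hpn _ P.2) (hP (Subgroup.mem_zpowers x)))
        g hg |>.symm |> Eq.symm
    set A' := A.map Cx.subtype
    have hA'p : ¬ p ∣ A'.index := by
      rw [Subgroup.index_map_subtype]
      exact fun h => (hp.dvd_mul.1 h).elim (hA.2 p hp hpn) hCxp
    have hyA : q ∣ Nat.card A := by
      have h1 : q ∣ Nat.card Cx := by
        obtain ⟨k, hk⟩ := hyq
        refine (dvd_pow_self q (n := k) ?_).trans (hk ▸ ?_)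
        · rintro rfl
          exact hy1 (orderOf_eq_one_iff.1 (by simpa using hk))
        · have hy' : y ∈ Cx := Subgroup.mem_centralizer_singleton_iff.2 hxy.eq.symm
          have := orderOf_dvd_natCard (⟨y, hy'⟩ : Cx)
          rwa [Subgroup.orderOf_mk] at this
      rw [← A.index_mul_card] at h1
      exact (hq.dvd_mul.1 h1).resolve_left (hA.2 q hq hqn)
    obtain ⟨y₁, hy₁⟩ := exists_prime_orderOf_dvd_card' q hyA
    set y' : G := ((y₁ : Cx) : G)
    have hy'o : orderOf y' = q := by
      rw [Subgroup.orderOf_coe, Subgroup.orderOf_coe, hy₁]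
    set Cy := Subgroup.centralizer ({y'} : Set G)
    have hy'A : y' ∈ A' := ⟨(y₁ : Cx), y₁.2, rfl⟩
    have hA'ab : A' ≤ Subgroup.centralizer (A' : Set G) := habel _ fun r hr hrd => hA.1 r hr (by
      rwa [Subgroup.card_map_of_injective Cx.subtype_injective] at hrd)
    have hA'Cy : A' ≤ Cy := fun g hg => by
      rw [Subgroup.mem_centralizer_singleton_iff]
      exact (Subgroup.mem_centralizer_iff.1 (hA'ab hg) _ hy'A).symm
    obtain ⟨B, hB⟩ := hsub Cy (hnc hq hqn y' (fun e => hq.ne_one (by rw [← hy'o, e, orderOf_one]))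
      ⟨1, by rw [hy'o, pow_one]⟩)
    set B' := B.map Cy.subtype
    have hB'p : ¬ p ∣ B'.index := by
      rw [Subgroup.index_map_subtype]
      exact fun h => (hp.dvd_mul.1 h).elim (hB.2 p hp hpn)
        fun h' => hA'p (h'.trans (Subgroup.index_dvd_of_le hA'Cy))
    have hB'q : ¬ q ∣ B'.index := by
      rw [Subgroup.index_map_subtype]
      refine fun h => (hq.dvd_mul.1 h).elim (hB.2 q hq hqn) fun h' => ?_
      have hzq : IsPGroup q (Subgroup.zpowers y') :=
        IsPGroup.of_card (n := 1) (by rw [Nat.card_zpowers, hy'o, pow_one])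
      obtain ⟨Q, hQ⟩ := hzq.exists_le_sylow
      refine Q.not_dvd_index (h'.trans (Subgroup.index_dvd_of_le fun g hg => ?_))
      rw [Subgroup.mem_centralizer_singleton_iff]
      exact (Subgroup.mem_centralizer_iff.1 (habel _ (hpow hq hqn _ Q.2) hg) _
        (hQ (Subgroup.mem_zpowers y'))).symm
    have hB'ab : B' ≤ Subgroup.centralizer (B' : Set G) := habel _ fun r hr hrd => hB.1 r hr (by
      rwa [Subgroup.card_map_of_injective Cy.subtype_injective] at hrd)
    obtain ⟨P'⟩ := (inferInstance : Nonempty (Sylow p B'))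
    have hP'card : Nat.card ((P' : Subgroup B').map B'.subtype) =
        p ^ (Nat.card G).factorization p := by
      rw [Subgroup.card_map_of_injective B'.subtype_injective, P'.card_eq_multiplicity]
      congr 1
      rw [← B'.index_mul_card, Nat.factorization_mul Subgroup.index_ne_zero_of_finite
        Nat.card_pos.ne', Finsupp.coe_add, Pi.add_apply,
        Nat.factorization_eq_zero_of_not_dvd hB'p, zero_add]
    set P₁ : Sylow p G := Sylow.ofCard _ hP'card
    obtain ⟨g, hg⟩ := MulAction.exists_smul_eq G P₀ P₁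
    intro h
    apply hB'q
    rw [← Subgroup.index_map_equiv B' (MulAut.conj g⁻¹)]
    refine h.trans (Subgroup.index_dvd_of_le ?_)
    rintro _ ⟨b, hb, rfl⟩
    rw [Subgroup.mem_centralizer_iff]
    intro t ht
    have ht' : g * t * g⁻¹ ∈ B' := by
      have h1 : g * t * g⁻¹ ∈ ((g • P₀ : Sylow p G) : Subgroup G) :=
        ⟨t, ht, by simp [MulAut.conj_apply]⟩
      rw [hg] at h1
      exact (Subgroup.map_subtype_le (H := B') _) h1
    have h2 := Subgroup.mem_centralizer_iff.1 (hB'ab hb) _ ht'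
    show t * (g⁻¹ * b * (g⁻¹)⁻¹) = g⁻¹ * b * (g⁻¹)⁻¹ * t
    rw [inv_inv]
    calc t * (g⁻¹ * b * g) = g⁻¹ * (g * t * g⁻¹ * b) * g := by group
      _ = g⁻¹ * (b * (g * t * g⁻¹)) * g := by rw [h2]
      _ = g⁻¹ * b * g * t := by group
  · obtain ⟨M, hM, hcM⟩ := (eq_top_or_exists_le_coatom (commutator G)).resolve_left hperf
    haveI hMn : M.Normal := Subgroup.Normal.of_commutator_le (h := hcM)
    haveI : IsSimpleGroup (G ⧸ M) := by
      haveI : Nontrivial (G ⧸ M) := QuotientGroup.nontrivial_iff.2 hM.1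
      refine ⟨fun K _ => ?_⟩
      rcases hM.le_iff.1 (QuotientGroup.le_comap_mk' M K) with h | h
      · refine Or.inr (eq_top_iff.2 fun k _ => ?_)
        obtain ⟨g, rfl⟩ := QuotientGroup.mk'_surjective M k
        exact (h ▸ Subgroup.mem_top g : g ∈ K.comap (QuotientGroup.mk' M))
      · refine Or.inl ((Subgroup.eq_bot_iff_forall _).2 fun k hk => ?_)
        obtain ⟨g, rfl⟩ := QuotientGroup.mk'_surjective M k
        exact (QuotientGroup.eq_one_iff g).2 (h ▸ hk)
    letI : CommGroup (G ⧸ M) :=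
      { (inferInstance : Group (G ⧸ M)) with
        mul_comm := fun a b => by
          obtain ⟨a, rfl⟩ := QuotientGroup.mk'_surjective M a
          obtain ⟨b, rfl⟩ := QuotientGroup.mk'_surjective M b
          rw [← map_mul, ← map_mul, QuotientGroup.mk'_apply, QuotientGroup.mk'_apply,
            QuotientGroup.eq]
          refine hcM ?_
          rw [commutator_eq_closure]
          exact Subgroup.subset_closure ⟨b⁻¹, a⁻¹, by rw [commutatorElement_def]; group⟩ }
    have hMp : M.index.Prime := by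
      rw [Subgroup.index]
      exact IsSimpleGroup.prime_card
    set p := M.index with hpdef
    by_cases hpn : n + 1 < p
    swap
    · exact step M hM.1 fun q hq hqn hqd => hpn (((Nat.prime_dvd_prime_iff_eq hq hMp).1 hqd) ▸ hqn)
    haveI : Fact p.Prime := ⟨hMp⟩
    obtain ⟨A, hA⟩ := hsub M hM.1
    set A' := A.map M.subtype
    have hA'i : ∀ q : ℕ, q.Prime → n + 1 < q → q ≠ p → ¬ q ∣ A'.index := by
      intro q hq hqn hqp h
      rw [Subgroup.index_map_subtype] at h
      exact (hq.dvd_mul.1 h).elim (hA.2 q hq hqn)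
        fun h' => hqp ((Nat.prime_dvd_prime_iff_eq hq hMp).1 h')
    have hA'c : ∀ q : ℕ, q.Prime → q ∣ Nat.card A' → n + 1 < q := fun q hq hqd => hA.1 q hq (by
      rwa [Subgroup.card_map_of_injective M.subtype_injective] at hqd)
    by_cases hcent : ∃ r : ℕ, r.Prime ∧ n + 1 < r ∧ r ≠ p ∧ ∃ R : Subgroup A,
        IsPGroup r R ∧ ¬ r ∣ R.index ∧ ¬ (R.map A.subtype).map M.subtype ≤ Subgroup.center G
    · obtain ⟨r, hr, hrn, hrp, R, hRp, hRi, hRc⟩ := hcent
      haveI : Fact r.Prime := ⟨hr⟩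
      have hRMi : ¬ r ∣ (R.map A.subtype).index := by
        rw [Subgroup.index_map_subtype]
        exact fun h => (hr.dvd_mul.1 h).elim hRi (hA.2 r hr hrn)
      set RM : Sylow r M := (hRp.map A.subtype).toSylow hRMi
      set R' := (R.map A.subtype).map M.subtype with hR'
      set C := Subgroup.centralizer (R' : Set G) with hCdef
      have hR'p : IsPGroup r R' := (hRp.map A.subtype).map M.subtype
      have hR'A : R' ≤ A' := Subgroup.map_mono (Subgroup.map_subtype_le R)
      have hA'C : A' ≤ C := (habel A' hA'c).trans (Subgroup.centralizer_le hR'A)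
      refine step C (fun htop => hRc fun z hz => Subgroup.mem_center_iff.2 fun g => ?_) ?_
      · have hg : g ∈ C := by rw [htop]; exact Subgroup.mem_top g
        exact (Subgroup.mem_centralizer_iff.1 hg z hz).symm
      intro q hq hqn
      rcases ne_or_eq q p with hqp | rfl
      · exact fun h => hA'i q hq hqn hqp (h.trans (Subgroup.index_dvd_of_le hA'C))
      set Nr := Subgroup.normalizer (R' : Set G)
      have hfr : Nr ⊔ M = ⊤ := RM.normalizer_sup_eq_top
      have hNi : ¬ p ∣ Nr.index := by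
        have h1 : M.relIndex Nr = M.index := by
          rw [← Subgroup.relIndex_sup_right, hfr, Subgroup.relIndex_top_right]
        have h2 : Nr.index = Nr.relIndex M := by
          have e1 := Subgroup.relIndex_mul_index (inf_le_left : Nr ⊓ M ≤ Nr)
          have e2 := Subgroup.relIndex_mul_index (inf_le_right : Nr ⊓ M ≤ M)
          rw [Subgroup.inf_relIndex_left, h1] at e1
          rw [Subgroup.inf_relIndex_right] at e2
          have hM0 : M.index ≠ 0 := hMp.ne_zero
          exact Nat.eq_of_mul_eq_mul_left (Nat.pos_of_ne_zero hM0)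
            (e1.trans (e2.symm.trans (mul_comm _ _)))
        rw [h2]
        intro h
        refine hA.2 p hMp hqn (h.trans ?_)
        exact Subgroup.index_dvd_of_le (H := A) fun a ha => Subgroup.centralizer_le_normalizer _
          (hA'C ⟨a, ha, rfl⟩)
      obtain ⟨S⟩ := (inferInstance : Nonempty (Sylow p Nr))
      set S' := (S : Subgroup Nr).map Nr.subtype
      have hS'C : S' ≤ C := by
        have hnorm : S' ≤ Subgroup.normalizer (R' : Set G) := Subgroup.map_subtype_le _
        have hbig : ∀ t : ℕ, t.Prime → t ∣ Nat.card (S' ⊔ R' : Subgroup G) → n + 1 < t := by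
          intro t ht htd
          have hdvd : Nat.card (S' ⊔ R' : Subgroup G) ∣ Nat.card S' * Nat.card R' := by
            exact card_sup_dvd_mul hnorm
          rcases ht.dvd_mul.1 (htd.trans hdvd) with h | h
          · exact hpow hMp hqn _ (S.2.map _) t ht h
          · exact hpow hr hrn _ hR'p t ht h
        exact le_sup_left.trans ((habel _ hbig).trans
          (Subgroup.centralizer_le (SetLike.coe_subset_coe.2 (le_sup_right : R' ≤ S' ⊔ R'))))
      intro h
      have h' := h.trans (Subgroup.index_dvd_of_le hS'C)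
      rw [Subgroup.index_map_subtype] at h'
      exact (hMp.dvd_mul.1 h').elim S.not_dvd_index hNi
    · push Not at hcent
      obtain ⟨P⟩ := (inferInstance : Nonempty (Sylow p G))
      set Z := A' ⊓ Subgroup.center G
      refine ⟨(P : Subgroup G) ⊔ Z, fun t ht htd => ?_, fun t ht htn h => ?_⟩
      · have hn : (P : Subgroup G) ≤ Subgroup.normalizer (Z : Set G) := by
          intro g _
          rw [Subgroup.mem_normalizer_iff]
          intro z
          constructor
          · intro hz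
            rwa [Subgroup.mem_center_iff.1 hz.2 g, mul_inv_cancel_right]
          · intro hz
            have := Subgroup.mem_center_iff.1 hz.2 g⁻¹
            have e : z = g * z * g⁻¹ := by
              calc z = g⁻¹ * (g * z * g⁻¹) * g := by group
                _ = g * z * g⁻¹ := by rw [this]; group
            rw [e]; exact hz
        have hdvd : Nat.card ((P : Subgroup G) ⊔ Z : Subgroup G) ∣
            Nat.card P * Nat.card Z := by
          exact card_sup_dvd_mul hn
        rcases ht.dvd_mul.1 (htd.trans hdvd) with h | h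
        · exact hpow hMp hpn _ P.2 t ht h
        · exact hA'c t ht (h.trans (Subgroup.card_dvd_of_le inf_le_left))
      · rcases eq_or_ne t p with rfl | htp
        · exact P.not_dvd_index (h.trans (Subgroup.index_dvd_of_le le_sup_left))
        haveI : Fact t.Prime := ⟨ht⟩
        obtain ⟨R⟩ := (inferInstance : Nonempty (Sylow t A))
        have hR := hcent t ht htn htp R R.2 R.not_dvd_index
        have hle : ((R : Subgroup A).map A.subtype).map M.subtype ≤ (P : Subgroup G) ⊔ Z :=
          le_sup_of_le_right (le_inf (Subgroup.map_mono (Subgroup.map_subtype_le _)) hR)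
        have h' := h.trans (Subgroup.index_dvd_of_le hle)
        rw [Subgroup.index_map_subtype, Subgroup.index_map_subtype, mul_assoc] at h'
        rcases ht.dvd_mul.1 h' with h1 | h1
        · exact R.not_dvd_index h1
        rcases ht.dvd_mul.1 h1 with h2 | h2
        · exact hA.2 t ht htn h2
        · exact htp ((Nat.prime_dvd_prime_iff_eq ht hMp).1 h2)

end Cfsg.Agent.H80.Blichfeldt
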