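import Cfsg.Agent.H80.Glauberman

/-!
# The Glauberman correspondence for a p-group inside an ambient group
-/

set_option linter.style.haveILetI false

open scoped ComplexConjugate

namespace Cfsg.Agent.H80

open Cfsg.Agent.CharBasic Cfsg.Agent.BlockBasic

variable {Γ : Type*} [Group Γ]

/-- `χ` is invariant under conjugation by the elements of `S`. -/
def AInv {G : Subgroup Γ} (S : Subgroup Γ) (χ : G → ℂ) : Prop :=
  ∀ s ∈ S, ∀ g g' : G, (g' : Γ) = s * g * s⁻¹ → χ g' = χ g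

/-- The conjugation action of `S` on `G`. -/
@[reducible] def conjAction (G S : Subgroup Γ) (hnorm : ∀ s ∈ S, ∀ g ∈ G, s * g * s⁻¹ ∈ G) :
    MulDistribMulAction S G where
  smul s g := ⟨(s : Γ) * g * (s : Γ)⁻¹, hnorm s s.2 g g.2⟩
  one_smul g := Subtype.ext (by
    show ((1 : S) : Γ) * g * ((1 : S) : Γ)⁻¹ = g
    simp)
  mul_smul s t g := Subtype.ext (by
    show ((s * t : S) : Γ) * g * ((s * t : S) : Γ)⁻¹ =
      (s : Γ) * ((t : Γ) * g * (t : Γ)⁻¹) * (s : Γ)⁻¹
    push_cast; group)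
  smul_mul s g h := Subtype.ext (by
    show (s : Γ) * (g * h : G) * (s : Γ)⁻¹ =
      (s : Γ) * g * (s : Γ)⁻¹ * ((s : Γ) * h * (s : Γ)⁻¹)
    push_cast; group)
  smul_one s := Subtype.ext (by
    show (s : Γ) * ((1 : G) : Γ) * (s : Γ)⁻¹ = ((1 : G) : Γ)
    simp)

/-- Irreducible characters of isomorphic groups. -/
def irrEquiv {H K : Type*} [Group H] [Group K] (e : H ≃* K) :
    Cfsg.IrrCharacter K ≃ Cfsg.IrrCharacter H where
  toFun χ := ⟨fun x => (χ : K → ℂ) (e x), isIrrCharacter_comp_mulEquiv e χ.2⟩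
  invFun χ := ⟨fun x => (χ : H → ℂ) (e.symm x), isIrrCharacter_comp_mulEquiv e.symm χ.2⟩
  left_inv χ := Subtype.ext (funext fun x => by simp)
  right_inv χ := Subtype.ext (funext fun x => by simp)

theorem classInner_comp_mulEquiv {H K : Type*} [Group H] [Group K] [Fintype H] [Fintype K]
    (e : H ≃* K) (φ ψ : K → ℂ) :
    Cfsg.classInner (fun x => φ (e x)) (fun x => ψ (e x)) = Cfsg.classInner φ ψ := by
  unfold Cfsg.classInner
  rw [Nat.card_congr e.toEquiv]
  congr 1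
  exact Fintype.sum_equiv e.toEquiv _ _ fun x => rfl

/-- The restriction of a function on `G` to `C`. -/
def resFun {G C : Subgroup Γ} (hCG : C ≤ G) (χ : G → ℂ) : C → ℂ := fun c => χ ⟨c, hCG c.2⟩

/-- `β` is the Glauberman correspondent of `χ` at `p`: its multiplicity in the restriction is
prime to `p`. -/
def Corr (p : ℕ) {G C : Subgroup Γ} [Fintype C] (hCG : C ≤ G) (χ : Cfsg.IrrCharacter G)
    (β : Cfsg.IrrCharacter C) : Prop :=
  ∃ m : ℕ, Cfsg.classInner (resFun hCG (χ : G → ℂ)) (β : C → ℂ) = (m : ℂ) ∧ ¬ p ∣ m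

variable {p : ℕ} [hp : Fact p.Prime] {G S C : Subgroup Γ} [Fintype G] [Fintype C]

/-- The hypotheses of the correspondence. -/
structure Setting (p : ℕ) (G S C : Subgroup Γ) : Prop where
  hnorm : ∀ s ∈ S, ∀ g ∈ G, s * g * s⁻¹ ∈ G
  hS : IsPGroup p S
  hG : ¬ p ∣ Nat.card G
  hC : ∀ g : Γ, g ∈ C ↔ g ∈ G ∧ ∀ s ∈ S, s * g = g * s

omit [Fintype G] [Fintype C] hp in
theorem Setting.hCG (h : Setting p G S C) : C ≤ G := fun g hg => ((h.hC g).1 hg).1

omit [Fintype G] [Fintype C] hp in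
theorem Setting.mem_subgroupOf (h : Setting p G S C) (g : G) :
    letI := conjAction G S h.hnorm
    g ∈ C.subgroupOf G ↔ ∀ s : S, s • g = g := by
  letI := conjAction G S h.hnorm
  rw [Subgroup.mem_subgroupOf, h.hC]
  refine ⟨fun hg s => Subtype.ext ?_, fun hg => ⟨g.2, fun s hs => ?_⟩⟩
  · show (s : Γ) * g * (s : Γ)⁻¹ = g
    rw [hg.2 s s.2]; group
  · have := congrArg Subtype.val (hg ⟨s, hs⟩)
    exact mul_inv_eq_iff_eq_mul.1 this

omit [Fintype G] [Fintype C] hp in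
theorem Setting.isInv_iff (h : Setting p G S C) (χ : G → ℂ) :
    letI := conjAction G S h.hnorm
    IsInv S χ ↔ AInv S χ := by
  letI := conjAction G S h.hnorm
  refine ⟨fun hχ s hs g g' e => ?_, fun hχ s g => hχ s s.2 g (s • g) rfl⟩
  have : g' = (⟨s, hs⟩ : S) • g := Subtype.ext e
  rw [this]
  exact hχ ⟨s, hs⟩ g

/-- Multiplicities in the ambient formulation. -/
noncomputable def aMult (h : Setting p G S C) (χ : Cfsg.IrrCharacter G)
    (β : Cfsg.IrrCharacter C) : ℕ :=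
  mult (C.subgroupOf G) χ (irrEquiv (Subgroup.subgroupOfEquivOfLe h.hCG) β)

omit hp in
theorem classInner_resFun (h : Setting p G S C) (χ : Cfsg.IrrCharacter G)
    (β : Cfsg.IrrCharacter C) :
    Cfsg.classInner (resFun h.hCG (χ : G → ℂ)) (β : C → ℂ) = (aMult h χ β : ℂ) := by
  haveI : Fintype (C.subgroupOf G) := Fintype.ofFinite _
  rw [aMult, ← classInner_res, ← classInner_comp_mulEquiv (Subgroup.subgroupOfEquivOfLe h.hCG)]
  rfl

omit hp in
theorem corr_iff (h : Setting p G S C) (χ : Cfsg.IrrCharacter G) (β : Cfsg.IrrCharacter C) :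
    Corr p h.hCG χ β ↔ ¬ p ∣ aMult h χ β := by
  constructor
  · rintro ⟨m, hm, hpm⟩
    rw [classInner_resFun h, Nat.cast_inj] at hm
    rwa [hm]
  · exact fun hpm => ⟨_, classInner_resFun h χ β, hpm⟩

theorem natCast_quot_eq_zero_iff {M : Ideal AlgInt} (hM : Cfsg.IsPModular p M) (n : ℕ) :
    (n : AlgInt ⧸ M) = 0 ↔ p ∣ n :=
  haveI := charP_quot M hM
  CharP.cast_eq_zero_iff _ p n

theorem exists_corr (h : Setting p G S C) {χ : Cfsg.IrrCharacter G} (hχ : AInv S (χ : G → ℂ)) :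
    ∃ β : Cfsg.IrrCharacter C, Corr p h.hCG χ β := by
  letI := conjAction G S h.hnorm
  haveI : Fintype (C.subgroupOf G) := Fintype.ofFinite _
  obtain ⟨M, hM⟩ := exists_isPModular hp.1
  obtain ⟨β, hβ, -⟩ := exists_mult_ne_zero h.hS h.hG (C.subgroupOf G) h.mem_subgroupOf M hM
    ((h.isInv_iff _).2 hχ)
  obtain ⟨β', rfl⟩ := (irrEquiv (Subgroup.subgroupOfEquivOfLe h.hCG)).surjective β
  exact ⟨β', (corr_iff h χ β').2 fun hd => hβ ((natCast_quot_eq_zero_iff hM _).2 hd)⟩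

theorem corr_unique (h : Setting p G S C) {χ : Cfsg.IrrCharacter G} (hχ : AInv S (χ : G → ℂ))
    {β β' : Cfsg.IrrCharacter C} (h1 : Corr p h.hCG χ β) (h2 : Corr p h.hCG χ β') : β = β' := by
  letI := conjAction G S h.hnorm
  haveI : Fintype (C.subgroupOf G) := Fintype.ofFinite _
  obtain ⟨M, hM⟩ := exists_isPModular hp.1
  haveI : M.IsMaximal := hM.2.1
  by_contra hne
  have h0 := mult_mul_mult_eq_zero h.hS h.hG (C.subgroupOf G) h.mem_subgroupOf M hM
    ((h.isInv_iff _).2 hχ)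
    (fun e => hne ((irrEquiv (Subgroup.subgroupOfEquivOfLe h.hCG)).injective e))
  rw [mul_eq_zero, natCast_quot_eq_zero_iff hM, natCast_quot_eq_zero_iff hM] at h0
  rcases h0 with h0 | h0
  · exact (corr_iff h χ β).1 h1 h0
  · exact (corr_iff h χ β').1 h2 h0

theorem corr_mult_modEq (h : Setting p G S C) {χ : Cfsg.IrrCharacter G}
    (hχ : AInv S (χ : G → ℂ)) {β : Cfsg.IrrCharacter C} {m : ℕ}
    (hm : Cfsg.classInner (resFun h.hCG (χ : G → ℂ)) (β : C → ℂ) = (m : ℂ)) (hpm : ¬ p ∣ m) :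
    (m : ℤ) ≡ 1 [ZMOD p] ∨ (m : ℤ) ≡ -1 [ZMOD p] := by
  letI := conjAction G S h.hnorm
  haveI : Fintype (C.subgroupOf G) := Fintype.ofFinite _
  obtain ⟨M, hM⟩ := exists_isPModular hp.1
  haveI : M.IsMaximal := hM.2.1
  obtain ⟨γ, hγ, hγ1⟩ := exists_mult_ne_zero h.hS h.hG (C.subgroupOf G) h.mem_subgroupOf M hM
    ((h.isInv_iff _).2 hχ)
  obtain ⟨β', rfl⟩ := (irrEquiv (Subgroup.subgroupOfEquivOfLe h.hCG)).surjective γ
  have : β' = β := corr_unique h hχ
    ((corr_iff h χ β').2 fun hd => hγ ((natCast_quot_eq_zero_iff hM _).2 hd)) ⟨m, hm, hpm⟩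
  subst this
  rw [classInner_resFun h, Nat.cast_inj] at hm
  change (aMult h χ β' : AlgInt ⧸ M) * (aMult h χ β' : AlgInt ⧸ M) = 1 at hγ1
  rw [hm] at hγ1
  haveI := charP_quot M hM
  rcases mul_self_eq_one_iff.1 hγ1 with h1 | h1
  · left
    rw [← CharP.intCast_eq_intCast (AlgInt ⧸ M)]
    simpa using h1
  · right
    rw [← CharP.intCast_eq_intCast (AlgInt ⧸ M)]
    simpa using h1

theorem corr_injective (h : Setting p G S C) {χ χ' : Cfsg.IrrCharacter G}
    (hχ : AInv S (χ : G → ℂ)) (hχ' : AInv S (χ' : G → ℂ))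
    {β : Cfsg.IrrCharacter C} (h1 : Corr p h.hCG χ β) (h2 : Corr p h.hCG χ' β) : χ = χ' := by
  classical
  letI := conjAction G S h.hnorm
  haveI : Fintype (C.subgroupOf G) := Fintype.ofFinite _
  obtain ⟨M, hM⟩ := exists_isPModular hp.1
  haveI : M.IsMaximal := hM.2.1
  by_contra hne
  set β₁ := irrEquiv (Subgroup.subgroupOfEquivOfLe h.hCG) β with hβ₁
  have hs := sum_mult_mul h.hS h.hG (C.subgroupOf G) h.mem_subgroupOf M hM
    ((h.isInv_iff _).2 hχ) ((h.isInv_iff _).2 hχ')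
  rw [if_neg hne, Finset.sum_eq_single_of_mem β₁ (Finset.mem_univ _)] at hs
  · rw [mul_eq_zero, natCast_quot_eq_zero_iff hM, natCast_quot_eq_zero_iff hM] at hs
    rcases hs with hs | hs
    · exact (corr_iff h χ β).1 h1 hs
    · exact (corr_iff h χ' β).1 h2 hs
  · intro γ _ hγ
    have h0 := mult_mul_mult_eq_zero h.hS h.hG (C.subgroupOf G) h.mem_subgroupOf M hM
      ((h.isInv_iff _).2 hχ) hγ
    rw [mul_eq_zero] at h0 ⊢
    rcases h0 with h0 | h0
    · exact Or.inl h0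
    · exact absurd ((natCast_quot_eq_zero_iff hM _).1 h0) ((corr_iff h χ β).1 h1)

theorem corr_surjective (h : Setting p G S C) (β : Cfsg.IrrCharacter C) :
    ∃ χ : Cfsg.IrrCharacter G, AInv S (χ : G → ℂ) ∧ Corr p h.hCG χ β := by
  letI := conjAction G S h.hnorm
  haveI : Fintype (C.subgroupOf G) := Fintype.ofFinite _
  obtain ⟨M, hM⟩ := exists_isPModular hp.1
  obtain ⟨χ, hχ, hne⟩ := exists_inv_mult_ne_zero h.hS h.hG (C.subgroupOf G) h.mem_subgroupOf M hM
    (irrEquiv (Subgroup.subgroupOfEquivOfLe h.hCG) β)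
  exact ⟨χ, (h.isInv_iff _).1 hχ, (corr_iff h χ β).2 fun hd =>
    hne ((natCast_quot_eq_zero_iff hM _).2 hd)⟩

/-- The Glauberman correspondence for a p-group of operators. -/
noncomputable def glauberman (h : Setting p G S C) :
    {χ : Cfsg.IrrCharacter G // AInv S (χ : G → ℂ)} ≃ Cfsg.IrrCharacter C :=
  Equiv.ofBijective (fun χ => (exists_corr h χ.2).choose)
    ⟨fun χ χ' e => Subtype.ext (corr_injective h χ.2 χ'.2 (exists_corr h χ.2).choose_spec
        ((show (exists_corr h χ.2).choose = (exists_corr h χ'.2).choose from e) ▸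
          (exists_corr h χ'.2).choose_spec)),
      fun β => by
        obtain ⟨χ, hχ, hc⟩ := corr_surjective h β
        exact ⟨⟨χ, hχ⟩, corr_unique h hχ (exists_corr h hχ).choose_spec hc⟩⟩

theorem glauberman_corr (h : Setting p G S C)
    (χ : {χ : Cfsg.IrrCharacter G // AInv S (χ : G → ℂ)}) :
    Corr p h.hCG χ.1 (glauberman h χ) :=
  (exists_corr h χ.2).choose_spec

end Cfsg.Agent.H80
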