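import Cfsg.Agent.CharInduce.Gallagher
import Cfsg.Agent.CharInduce.Transport
import Cfsg.Agent.H35.Extend
import Cfsg.Agent.S0169
import Mathlib.RingTheory.RootsOfUnity.Basic

/-!
# p-parts of degrees over an invariant character of a p'-subgroup
-/

set_option linter.style.haveILetI false

namespace Cfsg.Agent.H80.DegreeBound

open Cfsg.Agent.CharBasic Cfsg.Agent.CharInduce Cfsg.Agent.H35.Extend

universe u

/-- A finite group over `W` on which an invariant character of `N` extends. -/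
theorem exists_lift_group {W : Type u} [Group W] [Fintype W] (N : Subgroup W) [N.Normal] {n : ℕ}
    (ρ : Representation ℂ N (Fin n → ℂ)) [ρ.IsIrreducible]
    (hinv : ∀ (g : W) (m : N), ρ.character (nconj N g m) = ρ.character m) :
    ∃ (L : Type u) (_ : Group L) (_ : Fintype L) (σ : L →* W) (ι : N →* L)
      (R : Representation ℂ L (Fin n → ℂ)),
      Function.Surjective σ ∧ (∀ m, σ (ι m) = m) ∧ (∀ m, R (ι m) = ρ m) ∧ ι.range.Normal ∧
      (∀ x : L, σ x = 1 → ∀ y : L, x * y = y * x) ∧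
      ∀ x : L, σ x = 1 → x ^ (n * Nat.card N) = 1 := by
  classical
  have hproj := proj_surjective N ρ hinv
  have hn0 : n ≠ 0 := fun h => by
    have h1 := CharBasic.IsIrr.one_ne_zero (χ := ρ.character) ⟨n, ρ, inferInstance, rfl⟩
    exact h1 (by simp [h])
  set D := Nat.card N with hD
  let δ : twinGroup N ρ →* ℂ := (powMonoidHom D).comp ((LinearMap.det).comp (op N ρ))
  set L := δ.ker with hL
  have hδ : ∀ x, δ x = LinearMap.det (op N ρ x) ^ D := fun x => rfl
  have hδc : ∀ c : ℂˣ, δ (scalarHom N ρ c) = (c : ℂ) ^ (n * D) := by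
    intro c
    rw [hδ, op_scalarHom, Algebra.algebraMap_eq_smul_one, LinearMap.det_smul, map_one,
      mul_one, Module.finrank_fin_fun, pow_mul]
  have hbaseL : ∀ m : N, baseHom N ρ m ∈ L := by
    intro m
    rw [hL, MonoidHom.mem_ker, hδ, op_baseHom, ← map_pow, ← map_pow, hD, pow_card_eq_one', map_one,
      map_one]
  let σ : L →* W := (proj N ρ).comp L.subtype
  have hσsurj : Function.Surjective σ := by
    intro g
    obtain ⟨x, hx⟩ := hproj g
    have hd0 : δ x ≠ 0 := ((isUnit_iff_ne_zero).1 ((Group.isUnit x).map δ))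
    obtain ⟨r, hr⟩ := IsAlgClosed.exists_pow_nat_eq (δ x)⁻¹
      (Nat.mul_pos (Nat.pos_of_ne_zero hn0) (Nat.card_pos : 0 < D))
    have hr0 : r ≠ 0 := by
      rintro rfl
      rw [zero_pow (Nat.mul_ne_zero hn0 (Nat.card_pos (α := N)).ne')] at hr
      exact inv_ne_zero hd0 hr.symm
    refine ⟨⟨scalarHom N ρ (Units.mk0 r hr0) * x, ?_⟩, by simp [σ, hx]⟩
    rw [hL, MonoidHom.mem_ker, map_mul, hδc, Units.val_mk0, hr, inv_mul_cancel₀ hd0]
  have hker : ∀ x : L, σ x = 1 →
      ∃ c : ℂˣ, c ^ (n * D) = 1 ∧ (x : twinGroup N ρ) = scalarHom N ρ c := by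
    intro x hx
    obtain ⟨c, hc⟩ := exists_scalar_of_proj_eq_one N ρ hx
    refine ⟨c, Units.ext ?_, hc⟩
    have h1 : δ x = 1 := x.2
    change (x : twinGroup N ρ) = _ at hc
    rw [hc, hδc] at h1
    simpa using h1
  haveI : Finite L := by
    haveI : NeZero (n * D) := ⟨Nat.mul_ne_zero hn0 (Nat.card_pos (α := N)).ne'⟩
    choose sec hsec using hσsurj
    choose cf hcf1 hcf using fun x : L => hker (x * (sec (σ x))⁻¹) (by
      rw [map_mul, map_inv, hsec, mul_inv_cancel])
    refine Finite.of_injective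
      (fun x : L => ((σ x, ⟨cf x, (mem_rootsOfUnity _ _).2 (hcf1 x)⟩) :
        W × rootsOfUnity (n * D) ℂ))
      fun x y h => ?_
    simp only [Prod.mk.injEq, Subtype.mk.injEq] at h
    have h1 := hcf x
    rw [h.2, ← hcf y, ← h.1] at h1
    exact mul_right_cancel (Subtype.ext h1)
  let ι : N →* L := (baseHom N ρ).codRestrict L hbaseL
  haveI : Fintype L := Fintype.ofFinite L
  refine ⟨L, inferInstance, inferInstance, σ, ι, (op N ρ).comp L.subtype, hσsurj, fun m => rfl,
    fun m => op_baseHom N ρ m, ⟨?_⟩, ?_, ?_⟩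
  · rintro _ ⟨m, rfl⟩ y
    exact ⟨_, Subtype.ext (conj_baseHom N ρ (y : twinGroup N ρ) m).symm⟩
  · intro x hx y
    obtain ⟨c, -, hc⟩ := hker x hx
    apply Subtype.ext
    rw [Subgroup.coe_mul, Subgroup.coe_mul, hc]
    exact scalarHom_central N ρ c _
  · intro x hx
    obtain ⟨c, hc1, hc⟩ := hker x hx
    apply Subtype.ext
    rw [SubmonoidClass.coe_pow, hc, ← map_pow, hc1, map_one]
    rfl

/-- The degree over an invariant character of a `p'`-subgroup has `p`-part at most that of the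
index of a normal abelian `p`-section. -/
theorem factorization_degree_le {W : Type u} [Group W] [Fintype W] {p : ℕ} [hp : Fact p.Prime]
    (M N : Subgroup W) [M.Normal] [N.Normal] [Fintype N] (hNM : N ≤ M)
    (hN : ¬ p ∣ Nat.card N) (hrel : ∃ i, N.relIndex M = p ^ i)
    (hcomm : ∀ a ∈ M, ∀ b ∈ M, a * b * a⁻¹ * b⁻¹ ∈ N)
    {θ : N → ℂ} (hθ : Cfsg.IsIrrCharacter N θ) (hinv : ∀ x : W, conjFun N θ x = θ)
    {χ : W → ℂ} (hχ : Cfsg.IsIrrCharacter W χ) (hover : classInner (fun m : N => χ m) θ ≠ 0)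
    {d : ℕ} (hd : χ 1 = d) :
    d.factorization p + (Nat.card M).factorization p ≤ (Nat.card W).factorization p := by
  classical
  obtain ⟨n, ρ, hρ, rfl⟩ := hθ
  haveI := hρ
  obtain ⟨L, _, _, σ, ι, R, hσ, hσι, hRN, hBn, hcent, hpow⟩ :=
    exists_lift_group N ρ (fun g m => congrFun (hinv g) m)
  have hρirr : Cfsg.IsIrrCharacter N ρ.character := ⟨n, ρ, hρ, rfl⟩
  set B := ι.range with hB
  haveI := hBn
  haveI : Fintype B := Fintype.ofFinite B
  have hιinj : Function.Injective ι := fun a b h => Subtype.ext (by rw [← hσι a, ← hσι b, h])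
  let E : N ≃* B := MonoidHom.ofInjective hιinj
  set θ₀ : B → ℂ := fun b => ρ.character (E.symm b) with hθ₀def
  have hθ₀ : Cfsg.IsIrrCharacter B θ₀ := IsIrr.comp hρirr E.symm.toMonoidHom E.symm.surjective
  have hR : ∀ b : B, R.character (b : L) = θ₀ b := by
    intro b
    obtain ⟨m, rfl⟩ := E.surjective b
    simp only [hθ₀def, MulEquiv.symm_apply_apply]
    exact congrArg (LinearMap.trace ℂ _) (hRN m)
  have hRirr : R.IsIrreducible := by
    have := nontrivial_of_isIrreducible ρ
    refine @IsSimpleOrder.mk _ _ _ ?_ ?_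
    · exact ⟨⊥, ⊤, by
        intro h
        have : (⊥ : Submodule ℂ (Fin n → ℂ)) = ⊤ := congrArg Subrepresentation.toSubmodule h
        exact bot_ne_top this⟩
    · intro S'
      let S'' : Subrepresentation ρ := ⟨S'.toSubmodule, fun m v hv => by
        rw [← hRN m]; exact S'.apply_mem_toSubmodule _ hv⟩
      rcases hρ.eq_bot_or_eq_top S'' with h | h
      · exact Or.inl (Subrepresentation.toSubmodule_injective
          (congrArg Subrepresentation.toSubmodule h :))
      · exact Or.inr (Subrepresentation.toSubmodule_injective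
          (congrArg Subrepresentation.toSubmodule h :))
  have hRchar : Cfsg.IsIrrCharacter L R.character := ⟨n, R, hRirr, rfl⟩
  have hθ₀inv : ∀ x : L, conjFun B θ₀ x = θ₀ := fun x => funext fun b => by
    show θ₀ _ = θ₀ b
    simp only [← hR]
    exact R.char_conj (b : L) x
  set χ' : L → ℂ := fun x => χ (σ x) with hχ'def
  have hχ' : Cfsg.IsIrrCharacter L χ' := IsIrr.comp hχ σ hσ
  have h1θ : (fun _ : B => (1 : ℂ)) * θ₀ = θ₀ := funext fun b => one_mul _
  obtain ⟨-, -, hsurj⟩ := gallagher B isIrrCharacter_one hθ₀ (conjFun_one_char B) hθ₀inv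
    (by rw [h1θ]; exact hθ₀) hRchar hR
  have hover' : classInner (fun b : B => χ' b) θ₀ ≠ 0 := by
    intro h0
    apply hover
    rw [← h0]
    have e1 : (fun m : N => χ m) = fun m : N => (fun b : B => χ' b) (E m) := funext fun m => by
      show χ m = χ (σ (ι m))
      rw [hσι]
    have e2 : ρ.character = fun m : N => θ₀ (E m) := funext fun m => by simp [hθ₀def]
    rw [e1, e2]
    exact classInner_comp_mulEquiv E (fun b : B => χ' b) θ₀
  obtain ⟨β, hβ, hβχ⟩ := hsurj χ' hχ' (by
    rw [h1θ, classInner_indFun_left B _ _ (CharBasic.IsIrr.isClassFunction hχ'), ← conj_classInner]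
    exact (map_ne_zero _).2 hover')
  have hk : ∀ b ∈ B, (β : L → ℂ) b = (β : L → ℂ) 1 := by
    rw [← constituent_one_iff B β.2]
    intro h
    rw [mem_above, classInner_indFun_left B _ _ (CharBasic.IsIrr.isClassFunction β.2),
      ← conj_classInner, h, map_zero] at hβ
    exact hβ rfl
  obtain ⟨μ, -, hμ, hμirr⟩ := IsChar.exists_deflate (CharBasic.IsIrr.isCharacter β.2) B hk
  obtain ⟨f, τ, hτ, hτμ⟩ := hμirr β.2
  haveI := hτ
  have hdeg : d = f * n := by
    have h1 := congrFun hβχ 1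
    have h2 : (β : L → ℂ) 1 = (f : ℂ) := by
      rw [hμ 1, ← hτμ, QuotientGroup.mk_one, Representation.char_one, Module.finrank_fin_fun]
    rw [Pi.mul_apply, h2, Representation.char_one, Module.finrank_fin_fun, hχ'def] at h1
    simp only [map_one, hd] at h1
    exact_mod_cast h1.symm
  -- the abelian normal subgroup
  set π := QuotientGroup.mk' B
  set A := (M.comap σ).map π with hA
  haveI : A.Normal := Subgroup.Normal.map inferInstance π (QuotientGroup.mk'_surjective B)
  have hBM : B ≤ M.comap σ := by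
    rintro _ ⟨m, rfl⟩
    rw [Subgroup.mem_comap, hσι]
    exact hNM m.2
  have hAindex : A.index = M.index := by
    rw [hA, Subgroup.index_map, QuotientGroup.range_mk', Subgroup.index_top, mul_one,
      QuotientGroup.ker_mk', sup_eq_left.2 hBM, Subgroup.index_comap_of_surjective _ hσ]
  -- central elements come from the kernel of `σ`
  have hlift : ∀ q : L ⧸ B, (∃ x : L, π x = q ∧ σ x ∈ N) →
      (∀ r : L ⧸ B, q * r = r * q) ∧ q ^ (n * Nat.card N) = 1 := by
    rintro q ⟨x, rfl, hx⟩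
    have h1 : σ (x * (ι ⟨σ x, hx⟩)⁻¹) = 1 := by rw [map_mul, map_inv, hσι, mul_inv_cancel]
    have h2 : π x = π (x * (ι ⟨σ x, hx⟩)⁻¹) := by
      rw [map_mul, map_inv, show π (ι ⟨σ x, hx⟩) = 1 from (QuotientGroup.eq_one_iff _).2 ⟨_, rfl⟩,
        inv_one, mul_one]
    rw [h2]
    refine ⟨fun r => ?_, by rw [← map_pow, hpow _ h1, map_one]⟩
    induction r using QuotientGroup.induction_on with
    | _ y =>
      show π _ * π y = π y * π _
      rw [← map_mul, hcent _ h1 y, map_mul]
  obtain ⟨i, hi⟩ := hrel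
  have hAcomm : ∀ a ∈ A, ∀ b ∈ A, a * b = b * a := by
    rintro _ ⟨x, hx, rfl⟩ _ ⟨y, hy, rfl⟩
    set a := π x
    set b := π y
    set c := a * b * a⁻¹ * b⁻¹ with hc
    have hcN : ∃ z : L, π z = c ∧ σ z ∈ N := ⟨x * y * x⁻¹ * y⁻¹, by simp [hc, a, b], by
      simp only [map_mul, map_inv]; exact hcomm _ hx _ hy⟩
    obtain ⟨hcc, hcpow⟩ := hlift c hcN
    have haN : ∃ z : L, π z = a ^ (p ^ i) ∧ σ z ∈ N := ⟨x ^ (p ^ i), map_pow _ _ _, by
      rw [map_pow, ← hi]
      exact Subgroup.mem_subgroupOf.1 ((N.subgroupOf M).pow_index_mem ⟨σ x, hx⟩)⟩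
    obtain ⟨hca, -⟩ := hlift _ haN
    have hconj : b * a * b⁻¹ = c⁻¹ * a := by rw [hc]; group
    have hcp : c ^ (p ^ i) = 1 := by
      have h1 : b * a ^ (p ^ i) * b⁻¹ = (c⁻¹) ^ (p ^ i) * a ^ (p ^ i) := by
        rw [← conj_pow, hconj, ((show Commute c a from hcc a).inv_left).mul_pow]
      rw [← hca b, mul_inv_cancel_right] at h1
      rw [inv_pow] at h1
      exact inv_eq_one.1 (mul_eq_right.1 h1.symm)
    have hcop : Nat.Coprime (p ^ i) (n * Nat.card N) := by
      refine Nat.Coprime.pow_left i (Nat.Coprime.mul_right ?_ (hp.out.coprime_iff_not_dvd.2 hN))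
      refine hp.out.coprime_iff_not_dvd.2 fun h => hN (h.trans ?_)
      have := finrank_dvd_card ρ
      rwa [Module.finrank_fin_fun] at this
    have h3 : c = 1 := orderOf_eq_one_iff.1 (Nat.dvd_one.1 (hcop ▸
      Nat.dvd_gcd (orderOf_dvd_of_pow_eq_one hcp) (orderOf_dvd_of_pow_eq_one hcpow)))
    exact mul_inv_eq_iff_eq_mul.1 (mul_inv_eq_one.1 (hc ▸ h3))
  have hdvd : f ∣ M.index := by
    have := S0169.result τ A hAcomm
    rwa [Module.finrank_fin_fun, hAindex] at this
  have hn : n ∣ Nat.card N := by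
    have := finrank_dvd_card ρ
    rwa [Module.finrank_fin_fun] at this
  have hf0 : f ≠ 0 := fun h => by
    have := CharBasic.IsIrr.one_ne_zero hχ
    rw [hd, hdeg, h, zero_mul, Nat.cast_zero] at this
    exact this rfl
  have hn0 : n ≠ 0 := fun h => by
    have := CharBasic.IsIrr.one_ne_zero hχ
    rw [hd, hdeg, h, mul_zero, Nat.cast_zero] at this
    exact this rfl
  rw [← M.card_mul_index, Nat.factorization_mul Nat.card_pos.ne' Subgroup.index_ne_zero_of_finite,
    hdeg, Nat.factorization_mul hf0 hn0, Finsupp.add_apply, Finsupp.add_apply,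
    Nat.factorization_eq_zero_of_not_dvd (fun h => hN (h.trans hn)), add_zero, add_comm]
  exact Nat.add_le_add_left
    ((Nat.factorization_le_iff_dvd hf0 Subgroup.index_ne_zero_of_finite).2 hdvd p) _

end Cfsg.Agent.H80.DegreeBound
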