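import Cfsg.Agent.H80.Unitarise

/-!
# Blichfeldt's sixty degree argument

If every eigenvalue of `a` lies at distance less than `1` from the eigenvalue `α`, then every
conjugate of `a` maps the `α`-eigenspace of `a` to itself. In a simple group `a` is then scalar.
-/

set_option linter.style.haveILetI false

open scoped ComplexConjugate

namespace Cfsg.Agent.H80.Blichfeldt60

open Jordan

variable {E : Type*} [NormedAddCommGroup E] [InnerProductSpace ℂ E]
variable {G : Type*} [Group G] (φ : G →* (E →L[ℂ] E)) (hiso : ∀ g x, ‖φ g x‖ = ‖x‖)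
variable (a : G) {α : ℂ} {δ : ℝ}

/-- One commutator step. -/
def step (b : G) : G := a⁻¹ * b⁻¹ * a * b

include hiso in
theorem norm_step_sub {v : E} (hv : φ a v = α • v) (b : G) :
    ‖φ (step a b) v - v‖ = ‖φ a (φ b v) - α • φ b v‖ := by
  have h1 : φ (b * a) v = α • φ b v := by rw [apply_mul, hv, map_smul]
  rw [← hiso (b * a) (φ (step a b) v - v), map_sub, ← apply_mul,
    show b * a * step a b = a * b by simp only [step]; group, apply_mul, h1]

include hiso in
theorem norm_step_le {v : E} (hv : φ a v = α • v) (hδ : 0 ≤ δ)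
    (hT : ∀ x, ‖φ a x - α • x‖ ≤ δ * ‖x‖) (b : G) :
    ‖φ a (φ (step a b) v) - α • φ (step a b) v‖ ≤ δ * ‖φ a (φ b v) - α • φ b v‖ := by
  rw [← norm_step_sub φ hiso a hv b]
  have h := hT (φ (step a b) v - v)
  rw [map_sub, hv, smul_sub, sub_sub_sub_cancel_right] at h
  exact h

include hiso in
theorem norm_iterate_le {v : E} (hv : φ a v = α • v) (hδ : 0 ≤ δ)
    (hT : ∀ x, ‖φ a x - α • x‖ ≤ δ * ‖x‖) (b : G) (k : ℕ) :
    ‖φ a (φ ((step a)^[k] b) v) - α • φ ((step a)^[k] b) v‖ ≤ δ ^ (k + 1) * ‖v‖ := by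
  induction k with
  | zero =>
    refine (hT (φ b v)).trans_eq ?_
    rw [hiso, zero_add, pow_one]
  | succ k ih =>
    rw [Function.iterate_succ_apply']
    refine (norm_step_le φ hiso a hv hδ hT _).trans ((mul_le_mul_of_nonneg_left ih hδ).trans_eq ?_)
    rw [pow_succ' δ (k + 1), mul_assoc]

include hiso in
/-- Some iterate of the commutator step maps the eigenspace to itself. -/
theorem exists_iterate_mem [Finite G] (hδ : 0 ≤ δ) (hδ1 : δ < 1)
    (hT : ∀ x, ‖φ a x - α • x‖ ≤ δ * ‖x‖) (b : G) :
    ∃ k : ℕ, 0 < k ∧ ∀ v, φ a v = α • v → φ a (φ ((step a)^[k] b) v) = α • φ ((step a)^[k] b) v := by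
  obtain ⟨i, j, hij, e⟩ := Finite.exists_ne_map_eq_of_infinite fun k : ℕ => (step a)^[k + 1] b
  wlog hlt : i < j generalizing i j
  · exact this j i hij.symm e.symm (lt_of_le_of_ne (not_lt.1 hlt) hij.symm)
  refine ⟨i + 1, i.succ_pos, fun v hv => ?_⟩
  have hper : ∀ l : ℕ, (step a)^[i + 1 + l * (j - i)] b = (step a)^[i + 1] b := by
    intro l
    induction l with
    | zero => simp
    | succ l ih =>
      rw [show i + 1 + (l + 1) * (j - i) = (j - i) + (i + 1 + l * (j - i)) by ring,
        Function.iterate_add_apply, ih, ← Function.iterate_add_apply,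
        show j - i + (i + 1) = j + 1 by omega, ← e]
  have hlim : Filter.Tendsto (fun l : ℕ => δ ^ l * ‖v‖) Filter.atTop (nhds 0) := by
    simpa using (tendsto_pow_atTop_nhds_zero_of_lt_one hδ hδ1).mul_const ‖v‖
  refine sub_eq_zero.1 (norm_eq_zero.1 (le_antisymm ?_ (norm_nonneg _)))
  refine ge_of_tendsto hlim (Filter.Eventually.of_forall fun l => ?_)
  have h := norm_iterate_le φ hiso a hv hδ hT b (i + 1 + l * (j - i))
  rw [hper l] at h
  refine h.trans (mul_le_mul_of_nonneg_right (pow_le_pow_of_le_one hδ hδ1.le ?_) (norm_nonneg v))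
  have : l ≤ l * (j - i) := Nat.le_mul_of_pos_right l (by omega)
  omega

include hiso in
/-- If a commutator step maps the eigenspace to itself then so does the previous one. -/
theorem mem_of_step_mem (hδ : 0 ≤ δ) (hδ1 : δ < 1) (hα : ‖α‖ = 1)
    (hT : ∀ x, ‖φ a x - α • x‖ ≤ δ * ‖x‖) (b : G)
    (h : ∀ v, φ a v = α • v →
      φ a (φ (step a (step a b)) v) = α • φ (step a (step a b)) v) :
    ∀ v, φ a v = α • v → φ a (φ (step a b) v) = α • φ (step a b) v := by
  intro v hv
  set B := step a b with hB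
  set C := step a B with hC
  set u := φ C v - v with hu
  have hau : φ a u = α • u := by rw [hu, map_sub, h v hv, hv, smul_sub]
  set w := φ B u with hw
  have e1 : α • w = φ a (φ B v) - α • φ B v := by
    have h1 : φ (B * a) u = φ a (φ B v) - α • φ B v := by
      rw [hu, map_sub, ← apply_mul, show B * a * C = a * B by rw [hC]; simp only [step]; group,
        apply_mul, apply_mul, hv, map_smul]
    rw [← h1, apply_mul, hau, map_smul]
  have horth : inner ℂ (α • w) u = (0 : ℂ) := by
    rw [e1, inner_sub_left, inner_smul_left, sub_eq_zero]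
    conv_rhs => rw [← inner_map φ hiso a (φ B v) u]
    rw [hau, inner_smul_right]
    have : conj α * α = 1 := by
      rw [mul_comm, Complex.mul_conj, Complex.normSq_eq_norm_sq, hα]; norm_num
    rw [← mul_assoc, this, one_mul]
  have horth' : inner ℂ w u = (0 : ℂ) := by
    rw [inner_smul_left] at horth
    refine (mul_eq_zero.1 horth).resolve_left ?_
    intro h0
    rw [map_eq_zero] at h0
    rw [h0, norm_zero] at hα
    norm_num at hα
  have h2 : ‖w - u‖ ≤ δ * ‖u‖ := by
    rw [hw, hB, norm_step_sub φ hiso a hau b]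
    refine (hT (φ b u)).trans_eq ?_
    rw [hiso]
  have h3 : ‖w - u‖ * ‖w - u‖ = ‖w‖ * ‖w‖ + ‖u‖ * ‖u‖ := by
    rw [sub_eq_add_neg, norm_add_sq_eq_norm_sq_add_norm_sq_of_inner_eq_zero (𝕜 := ℂ), norm_neg]
    rw [inner_neg_right, horth', neg_zero]
  have h4 : ‖u‖ = 0 := by
    by_contra h0
    have hpos : 0 < ‖u‖ := lt_of_le_of_ne (norm_nonneg u) (Ne.symm h0)
    nlinarith [norm_nonneg (w - u), mul_le_mul h2 h2 (norm_nonneg _) (by positivity),
      mul_self_nonneg ‖w‖, mul_lt_mul_of_pos_right hδ1 hpos]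
  rw [norm_eq_zero] at h4
  rw [hw, h4, map_zero, smul_zero] at e1
  exact sub_eq_zero.1 e1.symm

include hiso in
/-- Every conjugate of `a` maps the eigenspace to itself. -/
theorem conj_mem [Finite G] (hδ : 0 ≤ δ) (hδ1 : δ < 1) (hα : ‖α‖ = 1)
    (hT : ∀ x, ‖φ a x - α • x‖ ≤ δ * ‖x‖) (b : G) {v : E} (hv : φ a v = α • v) :
    φ a (φ (b * a * b⁻¹) v) = α • φ (b * a * b⁻¹) v := by
  obtain ⟨k, hk, hmem⟩ := exists_iterate_mem φ hiso a hδ hδ1 hT b⁻¹
  have key : ∀ j, j + 1 ≤ k → ∀ w, φ a w = α • w →
      φ a (φ ((step a)^[k - j] b⁻¹) w) = α • φ ((step a)^[k - j] b⁻¹) w := by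
    intro j
    induction j with
    | zero => intro _; simpa using hmem
    | succ j ih =>
      intro hj
      have e : k - (j + 1) = (k - j - 2) + 1 := by omega
      have e' : k - j = (k - j - 2) + 1 + 1 := by omega
      rw [e, Function.iterate_succ_apply']
      refine mem_of_step_mem φ hiso a hδ hδ1 hα hT _ ?_
      rw [← Function.iterate_succ_apply' (step a), ← Function.iterate_succ_apply' (step a)]
      simp only [Nat.succ_eq_add_one, ← e']
      exact ih (by omega)
  have h1 := key (k - 1) (by omega) v hv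
  rw [show k - (k - 1) = 1 by omega, Function.iterate_one] at h1
  -- `b a b⁻¹` differs from the first step by `a`
  rw [show b * a * b⁻¹ = a * step a b⁻¹ by simp only [step]; group, apply_mul, h1, map_smul, h1]

end Cfsg.Agent.H80.Blichfeldt60

namespace Cfsg.Agent.H80.Blichfeldt60

open Jordan

universe u

variable {G : Type u} [Group G] [Finite G] [IsSimpleGroup G] {n : ℕ}

variable {E : Type u} [NormedAddCommGroup E] [InnerProductSpace ℂ E]

theorem eigenvalue_eq_aux (ρ : Representation ℂ G (Fin n → ℂ)) [ρ.IsIrreducible] {a : G}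
    (ha : a ≠ 1) {ι : Type*} [Fintype ι] (b : Module.Basis ι ℂ (Fin n → ℂ)) (μ : ι → ℂ)
    (hb : ∀ i, ρ a (b i) = μ i • b i) (i₀ : ι) (hclose : ∀ i, ‖μ i - μ i₀‖ < 1)
    (e : (Fin n → ℂ) ≃ₗ[ℂ] E) (φ : G →* (E →L[ℂ] E)) (hiso : ∀ g x, ‖φ g x‖ = ‖x‖)
    (heq : ∀ g x, φ g (e x) = e (ρ g x)) :
    ∀ i, μ i = μ i₀ := by
  classical
  let B := ((b.map e).reindex (Fintype.equivFin ι))
  have hB : ∀ k, φ a (B k) = μ ((Fintype.equivFin ι).symm k) • B k := fun k => by
    simp only [B, Module.Basis.reindex_apply, Module.Basis.map_apply]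
    rw [heq, hb, map_smul]
  have hlt := norm_sub_lt φ hiso B _ hB (μ i₀) 1 one_pos (fun k => hclose _)
  have hα : ‖μ i₀‖ = 1 := by
    refine norm_eigenvalue φ hiso (g := a) (v := e (b i₀)) ?_ (by rw [heq, hb, map_smul])
    intro h
    exact b.ne_zero i₀ (e.injective (h.trans (map_zero e).symm))
  have hT : ∀ x, ‖φ a x - μ i₀ • x‖ ≤ ‖φ a - μ i₀ • 1‖ * ‖x‖ := fun x =>
    (φ a - μ i₀ • 1).le_opNorm x
  let W : Subrepresentation ρ :=
    { toSubmodule := Module.End.eigenspace (ρ a) (μ i₀)
      apply_mem_toSubmodule := by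
        let S : Submonoid G :=
          { carrier := {g | ∀ w, ρ a w = μ i₀ • w → ρ a (ρ g w) = μ i₀ • ρ g w}
            one_mem' := fun w hw => by simpa using hw
            mul_mem' := fun {g h} hg hh w hw => by
              rw [map_mul]; exact hg _ (hh w hw) }
        have hS : ∀ g : G, g ∈ S := by
          intro g
          have hnc : Subgroup.normalClosure ({a} : Set G) = ⊤ := by
            rcases Subgroup.Normal.eq_bot_or_eq_top
              (inferInstance : (Subgroup.normalClosure ({a} : Set G)).Normal) with h | h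
            · exact absurd (Subgroup.mem_bot.1 (h ▸ Subgroup.subset_normalClosure rfl)) ha
            · exact h
          have hg : g ∈ Submonoid.closure (Group.conjugatesOfSet ({a} : Set G)) := by
            rw [← Subgroup.closure_toSubmonoid_of_finite, Subgroup.mem_toSubmonoid]
            show g ∈ Subgroup.normalClosure ({a} : Set G)
            rw [hnc]; trivial
          refine (Submonoid.closure_le.2 fun c hc => ?_) hg
          obtain ⟨c', hc', hconj⟩ := Group.mem_conjugatesOfSet_iff.1 hc
          rw [Set.mem_singleton_iff] at hc'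
          obtain ⟨x, hx⟩ := isConj_iff.1 hconj
          rw [hc'] at hx
          intro w hw
          rw [← hx]
          have h1 := conj_mem φ hiso a (norm_nonneg _) hlt hα hT x
            (v := e w) (by rw [heq, hw, map_smul])
          rw [heq, heq, ← map_smul] at h1
          exact e.injective h1
        intro g w hw
        rw [Module.End.mem_eigenspace_iff] at hw ⊢
        exact hS g w hw }
  have hW : W = ⊤ := by
    rcases eq_bot_or_eq_top W with h | h
    · exfalso
      have hmem : b i₀ ∈ W.toSubmodule := Module.End.mem_eigenspace_iff.2 (hb i₀)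
      rw [h] at hmem
      exact b.ne_zero i₀ ((Submodule.mem_bot ℂ).1 hmem)
    · exact h
  intro i
  have hmem : b i ∈ W.toSubmodule := by rw [hW]; trivial
  have h2 : ρ a (b i) = μ i₀ • b i := Module.End.mem_eigenspace_iff.1 hmem
  rw [hb] at h2
  exact smul_left_injective ℂ (b.ne_zero i) h2

/-- In a simple group with an irreducible representation, an element whose eigenvalues are all
at distance less than one from one of them acts as a scalar. -/
theorem eigenvalue_eq (ρ : Representation ℂ G (Fin n → ℂ)) [ρ.IsIrreducible] {a : G} (ha : a ≠ 1)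
    {ι : Type*} [Fintype ι] (b : Module.Basis ι ℂ (Fin n → ℂ)) (μ : ι → ℂ)
    (hb : ∀ i, ρ a (b i) = μ i • b i) (i₀ : ι) (hclose : ∀ i, ‖μ i - μ i₀‖ < 1) :
    ∀ i, μ i = μ i₀ := by
  haveI := Fintype.ofFinite G
  have heq : ∀ g x, isoAction ρ g (orbitEquiv ρ x) = orbitEquiv ρ (ρ g x) := fun g x => by
    rw [isoAction_apply, LinearEquiv.symm_apply_apply]
  exact eigenvalue_eq_aux.{u} (E := LinearMap.range (orbitMap ρ)) ρ ha b μ hb i₀ hclose
    (orbitEquiv ρ) (isoAction ρ) (norm_isoAction ρ) heq

end Cfsg.Agent.H80.Blichfeldt60
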