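import Mathlib

/-!
# Frobenius's theorem on finite unitary groups

For a finite group acting by isometries on a finite-dimensional inner product space over `ℂ`, the
elements whose operator lies at distance less than `1/2` from a scalar generate an abelian normal
subgroup.
-/

set_option linter.style.haveILetI false

open scoped ComplexConjugate commutatorElement

namespace Cfsg.Agent.H80.Jordan

variable {E : Type*} [NormedAddCommGroup E] [InnerProductSpace ℂ E]
variable {G : Type*} [Group G] (φ : G →* (E →L[ℂ] E))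

theorem apply_inv_apply (g : G) (x : E) : φ g (φ g⁻¹ x) = x := by
  have h : φ g * φ g⁻¹ = 1 := by rw [← map_mul, mul_inv_cancel, map_one]
  exact DFunLike.congr_fun h x

theorem apply_mul (g h : G) (x : E) : φ (g * h) x = φ g (φ h x) := by
  rw [map_mul]; rfl

variable (hiso : ∀ g x, ‖φ g x‖ = ‖x‖)
include hiso

theorem norm_mul_left (g : G) (X : E →L[ℂ] E) : ‖φ g * X‖ = ‖X‖ := by
  refine le_antisymm (ContinuousLinearMap.opNorm_le_bound _ (norm_nonneg _) fun x => ?_)
    (ContinuousLinearMap.opNorm_le_bound _ (norm_nonneg _) fun x => ?_)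
  · rw [ContinuousLinearMap.mul_apply, hiso]
    exact X.le_opNorm x
  · calc ‖X x‖ = ‖(φ g * X) x‖ := by rw [ContinuousLinearMap.mul_apply, hiso]
      _ ≤ _ := (φ g * X).le_opNorm x

theorem norm_mul_right (g : G) (X : E →L[ℂ] E) : ‖X * φ g‖ = ‖X‖ := by
  refine le_antisymm (ContinuousLinearMap.opNorm_le_bound _ (norm_nonneg _) fun x => ?_)
    (ContinuousLinearMap.opNorm_le_bound _ (norm_nonneg _) fun x => ?_)
  · rw [ContinuousLinearMap.mul_apply]
    exact (X.le_opNorm _).trans_eq (by rw [hiso])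
  · calc ‖X x‖ = ‖(X * φ g) (φ g⁻¹ x)‖ := by
          rw [ContinuousLinearMap.mul_apply, apply_inv_apply]
      _ ≤ ‖X * φ g‖ * ‖φ g⁻¹ x‖ := (X * φ g).le_opNorm _
      _ = _ := by rw [hiso]

/-- The commutator estimate. -/
theorem norm_comm_le (a b : G) (s t : ℂ) :
    ‖φ ⁅a, b⁆ - 1‖ ≤ 2 * ‖φ a - s • 1‖ * ‖φ b - t • 1‖ := by
  have e1 : φ ⁅a, b⁆ - 1 = (φ a * φ b - φ b * φ a) * φ (a⁻¹ * b⁻¹) := by
    rw [sub_mul, ← map_mul, ← map_mul, ← map_mul, ← map_mul, commutatorElement_def, ← map_one φ]
    congr 1 <;> congr 1 <;> group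
  have e2 : φ a * φ b - φ b * φ a =
      (φ a - s • 1) * (φ b - t • 1) - (φ b - t • 1) * (φ a - s • 1) := by
    simp only [sub_mul, mul_sub, smul_mul_assoc, mul_smul_comm, one_mul, mul_one, smul_smul,
      smul_sub, mul_comm s t]
    abel
  rw [e1, norm_mul_right φ hiso, e2]
  refine (norm_sub_le _ _).trans ?_
  have h1 := norm_mul_le (φ a - s • 1) (φ b - t • 1)
  have h2 := norm_mul_le (φ b - t • 1) (φ a - s • 1)
  nlinarith

theorem inner_map (g : G) (x y : E) : inner ℂ (φ g x) (φ g y) = inner ℂ x y :=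
  (⟨(φ g).toLinearMap, hiso g⟩ : E →ₗᵢ[ℂ] E).inner_map_map x y

theorem norm_eigenvalue {g : G} {v : E} {α : ℂ} (hv : v ≠ 0) (h : φ g v = α • v) : ‖α‖ = 1 := by
  have := hiso g v
  rw [h, norm_smul] at this
  exact mul_right_cancel₀ (norm_ne_zero_iff.2 hv) (this.trans (one_mul _).symm)

/-- Eigenvectors for different eigenvalues are orthogonal. -/
theorem inner_eq_zero {g : G} {x y : E} {α β : ℂ} (hx : φ g x = α • x) (hy : φ g y = β • y)
    (hne : α ≠ β) : inner ℂ x y = (0 : ℂ) := by
  by_cases hx0 : x = 0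
  · rw [hx0, inner_zero_left]
  have h := inner_map φ hiso g x y
  rw [hx, hy, inner_smul_left, inner_smul_right, ← mul_assoc] at h
  by_contra h0
  refine hne ?_
  have h1 : conj α * β = 1 := mul_right_cancel₀ h0 (h.trans (one_mul _).symm)
  have h2 : α * conj α = 1 := by
    rw [Complex.mul_conj, Complex.normSq_eq_norm_sq, norm_eigenvalue φ hiso hx0 hx]
    norm_num
  calc α = α * (conj α * β) := by rw [h1, mul_one]
    _ = β := by rw [← mul_assoc, h2, one_mul]

/-- A commuting family has an eigenbasis. -/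
theorem exists_eigenbasis [Finite G] [FiniteDimensional ℂ E] (H : Subgroup G)
    (hH : ∀ x ∈ H, ∀ y ∈ H, x * y = y * x) :
    ∃ (v : Module.Basis (Fin (Module.finrank ℂ E)) ℂ E) (μ : Fin (Module.finrank ℂ E) → G → ℂ),
      ∀ i, ∀ h ∈ H, φ h (v i) = μ i h • v i := by
  classical
  let f : H → Module.End ℂ E := fun h => (φ (h : G)).toLinearMap
  have hfmul : ∀ x y : H, f x * f y = f (x * y) := fun x y => by
    ext e
    show φ (x : G) (φ (y : G) e) = φ ((x * y : H) : G) e
    rw [Subgroup.coe_mul, apply_mul]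
  have hss : ∀ h : H, (f h).IsFinitelySemisimple := by
    intro h
    refine Module.End.IsSemisimple.isFinitelySemisimple ?_
    refine Module.End.isSemisimple_of_squarefree_aeval_eq_zero
      (p := Polynomial.X ^ orderOf h - 1)
      ((Polynomial.X_pow_sub_one_separable_iff.2
        (Nat.cast_ne_zero.2 (orderOf_pos h).ne')).squarefree) ?_
    have hpow : ∀ k : ℕ, f h ^ k = f (h ^ k) := by
      intro k
      induction k with
      | zero => ext e; simp [f]
      | succ k ih => rw [pow_succ, ih, hfmul, ← pow_succ]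
    rw [map_sub, map_pow, Polynomial.aeval_X, map_one, hpow, pow_orderOf_eq_one, sub_eq_zero]
    ext e; simp [f]
  have htop := Module.End.iSup_iInf_maxGenEigenspace_eq_top_of_iSup_maxGenEigenspace_eq_top_of_commute
    f (fun x y _ => by
      show f x * f y = f y * f x
      rw [hfmul, hfmul]
      congr 1
      exact Subtype.ext (hH x x.2 y y.2))
    (fun i => Module.End.iSup_maxGenEigenspace_eq_top (f i))
  set S : Set E := {v | ∀ h : H, ∃ c : ℂ, φ (h : G) v = c • v} with hS
  have hspan : ⊤ ≤ Submodule.span ℂ S := by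
    rw [← htop]
    refine iSup_le fun χ e he => Submodule.subset_span fun h => ⟨χ h, ?_⟩
    have he' := (Submodule.mem_iInf _).1 he h
    rw [(hss h).maxGenEigenspace_eq_eigenspace, Module.End.mem_eigenspace_iff] at he'
    exact he'
  set B := Module.Basis.ofSpan hspan
  haveI := Module.Finite.finite_basis B
  haveI := Fintype.ofFinite ((linearIndepOn_empty ℂ id).extend (Set.empty_subset S) : Set E)
  let e := Fintype.equivFinOfCardEq (Module.finrank_eq_card_basis B).symm
  let v := B.reindex e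
  have hv : ∀ i, ∀ h : H, ∃ c : ℂ, φ (h : G) (v i) = c • v i := by
    intro i
    have : v i ∈ S := Module.Basis.ofSpan_subset hspan ⟨e.symm i, by simp [v, B]⟩
    exact this
  choose μ hμ using hv
  exact ⟨v, fun i g => if hg : g ∈ H then μ i ⟨g, hg⟩ else 0,
    fun i h hh => by simp only [dif_pos hh]; exact hμ i ⟨h, hh⟩⟩

omit hiso in
theorem norm_sum_sq {ι : Type*} [DecidableEq ι] (s : Finset ι) (w : ι → E)
    (h : ∀ i ∈ s, ∀ j ∈ s, i ≠ j → inner ℂ (w i) (w j) = (0 : ℂ)) :
    ‖∑ i ∈ s, w i‖ * ‖∑ i ∈ s, w i‖ = ∑ i ∈ s, ‖w i‖ * ‖w i‖ := by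
  induction s using Finset.induction_on with
  | empty => simp
  | insert a s ha ih =>
    rw [Finset.sum_insert ha, Finset.sum_insert ha,
      norm_add_sq_eq_norm_sq_add_norm_sq_of_inner_eq_zero (𝕜 := ℂ),
      ih fun i hi j hj => h i (Finset.mem_insert_of_mem hi) j (Finset.mem_insert_of_mem hj)]
    rw [inner_sum]
    exact Finset.sum_eq_zero fun j hj => h a (Finset.mem_insert_self a s) j
      (Finset.mem_insert_of_mem hj) (fun e => ha (e ▸ hj))

/-- An operator is close to a scalar when its eigenvalues are. -/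
theorem norm_sub_lt {n : ℕ} {g : G} (v : Module.Basis (Fin n) ℂ E)
    (μ : Fin n → ℂ) (hv : ∀ i, φ g (v i) = μ i • v i) (c : ℂ) (r : ℝ) (hr : 0 < r)
    (hμ : ∀ i, ‖μ i - c‖ < r) : ‖φ g - c • 1‖ < r := by
  classical
  set m : ℝ := (insert (0 : ℝ) (Finset.univ.image fun i => ‖μ i - c‖)).max'
    (Finset.insert_nonempty _ _) with hm
  have hm0 : 0 ≤ m := Finset.le_max' _ _ (Finset.mem_insert_self _ _)
  have hmr : m < r := by
    rw [hm, Finset.max'_lt_iff]
    intro x hx
    rcases Finset.mem_insert.1 hx with rfl | hx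
    · exact hr
    · obtain ⟨i, -, rfl⟩ := Finset.mem_image.1 hx
      exact hμ i
  refine lt_of_le_of_lt (ContinuousLinearMap.opNorm_le_bound _ hm0 fun x => ?_) hmr
  set J := Finset.univ.image μ with hJ
  set w : ℂ → E := fun α => ∑ i ∈ Finset.univ.filter (fun i => μ i = α), v.repr x i • v i with hw
  have hgw : ∀ α, φ g (w α) = α • w α := by
    intro α
    rw [hw, map_sum, Finset.smul_sum]
    refine Finset.sum_congr rfl fun i hi => ?_
    rw [map_smul, hv, (Finset.mem_filter.1 hi).2, smul_comm]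
  have horth : ∀ α ∈ J, ∀ β ∈ J, α ≠ β → inner ℂ (w α) (w β) = (0 : ℂ) :=
    fun α _ β _ hne => inner_eq_zero φ hiso (hgw α) (hgw β) hne
  have hx : ∑ α ∈ J, w α = x := by
    rw [hw, Finset.sum_fiberwise_of_maps_to (fun i _ => Finset.mem_image_of_mem μ (Finset.mem_univ i)),
      v.sum_repr]
  have hT : (φ g - c • 1) x = ∑ α ∈ J, (α - c) • w α := by
    rw [ContinuousLinearMap.sub_apply, ContinuousLinearMap.smul_apply,
      ContinuousLinearMap.one_apply]
    conv_lhs => rw [← hx]
    rw [map_sum, Finset.smul_sum, ← Finset.sum_sub_distrib]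
    exact Finset.sum_congr rfl fun α _ => by rw [hgw, sub_smul]
  have hb : ‖(φ g - c • 1) x‖ * ‖(φ g - c • 1) x‖ ≤ (m * ‖x‖) * (m * ‖x‖) := by
    rw [hT, norm_sum_sq J _ fun α hα β hβ hne => by
      rw [inner_smul_left, inner_smul_right, horth α hα β hβ hne, mul_zero, mul_zero]]
    conv_rhs => rw [mul_mul_mul_comm, ← hx, norm_sum_sq J w horth, Finset.mul_sum]
    refine Finset.sum_le_sum fun α hα => ?_
    obtain ⟨i, -, rfl⟩ := Finset.mem_image.1 hα
    rw [norm_smul, mul_mul_mul_comm]
    have hle : ‖μ i - c‖ ≤ m :=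
      Finset.le_max' _ _ (Finset.mem_insert_of_mem
        (Finset.mem_image_of_mem (fun i => ‖μ i - c‖) (Finset.mem_univ i)))
    gcongr
  exact le_of_pow_le_pow_left₀ two_ne_zero (mul_nonneg hm0 (norm_nonneg x))
    (by simpa only [sq] using hb)

/-- The last step of a commutator chain. -/
theorem commutator_eq_one [Finite G] [FiniteDimensional ℂ E] (hinj : Function.Injective φ)
    {a b : G} (hc : Commute a ⁅a, b⁆) {t : ℂ} (ht : ‖φ b - t • 1‖ < ‖t‖) : ⁅a, b⁆ = 1 := by
  set a' := b * a * b⁻¹ with ha'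
  have hcomm : Commute a a' := by
    rw [show a' = ⁅a, b⁆⁻¹ * a by rw [ha', commutatorElement_def]; group]
    exact hc.inv_right.mul_right (Commute.refl a)
  let H : Subgroup G := Subgroup.closure {a, a'}
  have hH : ∀ x ∈ H, ∀ y ∈ H, x * y = y * x := by
    intro x hx y hy
    induction hx, hy using Subgroup.closure_induction₂ with
    | mem x y hx hy =>
      rcases hx with rfl | rfl <;> rcases hy with rfl | rfl
      exacts [rfl, hcomm.eq, hcomm.eq.symm, rfl]
    | one_left => simp
    | one_right => simp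
    | mul_left x y z _ _ _ h1 h2 => exact (Commute.mul_left h1 h2).eq
    | mul_right y z x _ _ _ h1 h2 => exact (Commute.mul_right h1 h2).eq
    | inv_left x y _ _ h => exact (Commute.inv_left h).eq
    | inv_right x y _ _ h => exact (Commute.inv_right h).eq
  obtain ⟨v, μ, hμ⟩ := exists_eigenbasis φ hiso H hH
  have haH : a ∈ H := Subgroup.subset_closure (by simp)
  have ha'H : a' ∈ H := Subgroup.subset_closure (by simp)
  have heq : ∀ i, φ a' (v i) = φ a (v i) := by
    intro i
    rw [hμ i a haH, hμ i a' ha'H]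
    congr 1
    by_contra hne
    have hbv : φ a' (φ b (v i)) = μ i a • φ b (v i) := by
      rw [← apply_mul, show a' * b = b * a by rw [ha', inv_mul_cancel_right], apply_mul,
        hμ i a haH, map_smul]
    have h0 := inner_eq_zero φ hiso hbv (hμ i a' ha'H) (Ne.symm hne)
    set T := φ b - t • (1 : E →L[ℂ] E) with hT
    have h1 : inner ℂ (T (v i)) (v i) = -(conj t * inner ℂ (v i) (v i)) := by
      rw [hT, ContinuousLinearMap.sub_apply, ContinuousLinearMap.smul_apply,
        ContinuousLinearMap.one_apply, inner_sub_left, h0, inner_smul_left, zero_sub]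
    have h2 := norm_inner_le_norm (𝕜 := ℂ) (T (v i)) (v i)
    rw [h1, norm_neg, norm_mul, Complex.norm_conj, inner_self_eq_norm_sq_to_K, norm_pow,
      RCLike.norm_ofReal, abs_norm, sq] at h2
    have h3 := T.le_opNorm (v i)
    have hpos : 0 < ‖v i‖ := norm_pos_iff.2 (v.ne_zero i)
    have hT' : ‖T‖ < ‖t‖ := ht
    nlinarith [mul_pos hpos hpos]
  have he : φ a' = φ a := ContinuousLinearMap.coe_injective (v.ext heq)
  have := hinj he
  rw [commutatorElement_def]
  calc a * b * a⁻¹ * b⁻¹ = a * (b * a * b⁻¹)⁻¹ := by group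
    _ = 1 := by rw [← ha', this, mul_inv_cancel]

/-- Being at distance less than `1/2` from a scalar. -/
def Near (g : G) : Prop := ∃ c : ℂ, ‖φ g - c • 1‖ < 1 / 2

theorem near_norm {g : G} {c : ℂ} [Nontrivial E] (h : ‖φ g - c • 1‖ < 1 / 2) : 1 / 2 < ‖c‖ := by
  have h1 : ‖φ g‖ = 1 := by rw [← mul_one (φ g), norm_mul_left φ hiso, norm_one]
  have h2 : ‖φ g‖ ≤ ‖φ g - c • 1‖ + ‖c • (1 : E →L[ℂ] E)‖ := norm_le_norm_sub_add _ _
  rw [h1, norm_smul, norm_one, mul_one] at h2
  linarith

theorem near_conj {g : G} (u : G) (h : Near φ g) : Near φ (u * g * u⁻¹) := by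
  obtain ⟨c, hc⟩ := h
  refine ⟨c, ?_⟩
  have : φ (u * g * u⁻¹) - c • 1 = φ u * (φ g - c • 1) * φ u⁻¹ := by
    rw [mul_sub, sub_mul, ← map_mul, ← map_mul, mul_smul_comm, mul_one, smul_mul_assoc, ← map_mul,
      mul_inv_cancel, map_one]
  rwa [this, norm_mul_right φ hiso, norm_mul_left φ hiso]

/-- Near elements commute. -/
theorem near_commute [Finite G] [FiniteDimensional ℂ E] [Nontrivial E]
    (hinj : Function.Injective φ) {a b : G} (ha : Near φ a) (hb : Near φ b) :
    Commute a b := by
  obtain ⟨s, hs⟩ := ha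
  obtain ⟨t, ht⟩ := hb
  set r := ‖φ a - s • 1‖ with hr
  set f : G → G := fun x => ⁅a, x⁆ with hf
  have hr0 : 0 ≤ r := norm_nonneg _
  have hstep : ∀ k, ‖φ (f^[k + 1] b) - 1‖ ≤ (2 * r) ^ k * (1 / 2) := by
    intro k
    induction k with
    | zero =>
      rw [Function.iterate_one, pow_zero, one_mul]
      refine (norm_comm_le φ hiso a b s t).trans ?_
      nlinarith [norm_nonneg (φ b - t • 1)]
    | succ k ih =>
      rw [Function.iterate_succ_apply', pow_succ]
      refine (norm_comm_le φ hiso a _ s 1).trans ?_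
      rw [one_smul]
      nlinarith
  cases nonempty_fintype G
  classical
  obtain ⟨ε, hε, hεle⟩ : ∃ ε : ℝ, 0 < ε ∧ ∀ g : G, ‖φ g - 1‖ < ε → g = 1 := by
    refine ⟨(insert (1 : ℝ) ((Finset.univ.filter fun g : G => g ≠ 1).image
      fun g => ‖φ g - 1‖)).min' (Finset.insert_nonempty _ _), ?_, fun g hg => ?_⟩
    · rw [Finset.lt_min'_iff]
      intro x hx
      rcases Finset.mem_insert.1 hx with rfl | hx
      · exact one_pos
      · obtain ⟨g, hg, rfl⟩ := Finset.mem_image.1 hx
        refine norm_pos_iff.2 fun e => (Finset.mem_filter.1 hg).2 (hinj ?_)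
        rw [map_one, sub_eq_zero.1 e]
    · by_contra hne
      refine absurd hg (not_lt.2 (Finset.min'_le _ ‖φ g - 1‖ ?_))
      exact Finset.mem_insert_of_mem (Finset.mem_image.2
        ⟨g, Finset.mem_filter.2 ⟨Finset.mem_univ _, hne⟩, rfl⟩)
  obtain ⟨k, hk⟩ := exists_pow_lt_of_lt_one hε (show 2 * r < 1 by linarith)
  have hkone : f^[k + 1] b = 1 := hεle _ (lt_of_le_of_lt (hstep k) (by
    have : 0 ≤ (2 * r) ^ k := by positivity
    linarith))
  have back : ∀ j, f^[j + 1] b = 1 → f^[1] b = 1 := by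
    intro j
    induction j with
    | zero => exact id
    | succ j ih =>
      intro h
      refine ih ?_
      rw [Function.iterate_succ_apply'] at h
      have hcm : Commute a (f^[j + 1] b) := commutatorElement_eq_one_iff_commute.1 h
      rw [Function.iterate_succ_apply'] at hcm ⊢
      rcases j with _ | j
      · exact commutator_eq_one φ hiso hinj hcm (t := t)
          (lt_trans ht (near_norm φ hiso ht))
      · refine commutator_eq_one φ hiso hinj hcm (t := 1) ?_
        rw [one_smul, norm_one]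
        refine lt_of_le_of_lt (hstep j) ?_
        have : (2 * r) ^ j ≤ 1 := pow_le_one₀ (by linarith) (by linarith)
        linarith
  exact commutatorElement_eq_one_iff_commute.1 (by simpa using back k hkone)

omit hiso in
/-- Two unit complex numbers in the same of twelve arcs have ratio near `√3/2`. -/
theorem norm_ratio_lt {z w : ℂ} (hz : ‖z‖ = 1) (hw : ‖w‖ = 1)
    (h : ⌈(z.arg + Real.pi) / (Real.pi / 6)⌉₊ = ⌈(w.arg + Real.pi) / (Real.pi / 6)⌉₊) :
    ‖w⁻¹ * z - ((Real.sqrt 3 / 2 : ℝ) : ℂ)‖ < 1 / 2 := by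
  have hpi := Real.pi_pos
  have hd : |z.arg - w.arg| < Real.pi / 6 := by
    have h6 : 0 < Real.pi / 6 := by positivity
    have za : 0 < (z.arg + Real.pi) / (Real.pi / 6) :=
      div_pos (by linarith [Complex.neg_pi_lt_arg z]) h6
    have wa : 0 < (w.arg + Real.pi) / (Real.pi / 6) :=
      div_pos (by linarith [Complex.neg_pi_lt_arg w]) h6
    have z1 := Nat.le_ceil ((z.arg + Real.pi) / (Real.pi / 6))
    have z2 := Nat.ceil_lt_add_one za.le
    have w1 := Nat.le_ceil ((w.arg + Real.pi) / (Real.pi / 6))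
    have w2 := Nat.ceil_lt_add_one wa.le
    rw [h] at z1 z2
    have key : |(z.arg + Real.pi) / (Real.pi / 6) - (w.arg + Real.pi) / (Real.pi / 6)| < 1 :=
      abs_sub_lt_iff.2 ⟨by linarith, by linarith⟩
    rw [← sub_div, abs_div, abs_of_pos h6, div_lt_one h6] at key
    simpa using key
  have hcos : Real.sqrt 3 / 2 < Real.cos (z.arg - w.arg) := by
    rw [← Real.cos_pi_div_six, ← Real.cos_abs (z.arg - w.arg)]
    exact Real.cos_lt_cos_of_nonneg_of_le_pi (abs_nonneg _) (by linarith) hd
  set u := w⁻¹ * z with hu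
  have hu1 : u.re * u.re + u.im * u.im = 1 := by
    rw [← Complex.normSq_apply, Complex.normSq_eq_norm_sq, hu, norm_mul, norm_inv, hz, hw]
    norm_num
  have hre : u.re = Real.cos (z.arg - w.arg) := by
    have hz0 : z ≠ 0 := norm_ne_zero_iff.1 (by rw [hz]; exact one_ne_zero)
    have hw0 : w ≠ 0 := norm_ne_zero_iff.1 (by rw [hw]; exact one_ne_zero)
    have h1 := Complex.cos_arg hz0
    have h2 := Complex.sin_arg z
    have h3 := Complex.cos_arg hw0
    have h4 := Complex.sin_arg w
    rw [hz, div_one] at h1 h2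
    rw [hw, div_one] at h3 h4
    rw [Real.cos_sub, h1, h2, h3, h4, hu, Complex.mul_re, Complex.inv_re, Complex.inv_im,
      Complex.normSq_eq_norm_sq, hw]
    ring
  have hsq : ‖u - ((Real.sqrt 3 / 2 : ℝ) : ℂ)‖ ^ 2 < (1 / 2) ^ 2 := by
    rw [← Complex.normSq_eq_norm_sq, Complex.normSq_apply]
    simp only [Complex.sub_re, Complex.sub_im, Complex.ofReal_re, Complex.ofReal_im, sub_zero]
    have h3 : Real.sqrt 3 * Real.sqrt 3 = 3 := Real.mul_self_sqrt (by norm_num)
    have hs : 0 < Real.sqrt 3 := Real.sqrt_pos.2 (by norm_num)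
    nlinarith
  exact lt_of_pow_lt_pow_left₀ 2 (by norm_num) hsq

/-- Frobenius's bound: an abelian normal subgroup which meets every abelian subgroup in a subgroup
of index at most `12 ^ dim`. -/
theorem exists_abelian_normal [Finite G] [FiniteDimensional ℂ E]
    (hinj : Function.Injective φ) :
    ∃ A : Subgroup G, A.Normal ∧ (∀ x ∈ A, ∀ y ∈ A, x * y = y * x) ∧
      ∀ H : Subgroup G, (∀ x ∈ H, ∀ y ∈ H, x * y = y * x) →
        (A.subgroupOf H).index ≤ 12 ^ Module.finrank ℂ E := by
  classical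
  rcases subsingleton_or_nontrivial E with hE | hE
  · haveI : Subsingleton G := ⟨fun a b => hinj (Subsingleton.elim _ _)⟩
    exact ⟨⊥, inferInstance, fun x _ y _ => Subsingleton.elim _ _, fun H _ => by
      rw [show (⊥ : Subgroup G).subgroupOf H = ⊤ from Subsingleton.elim _ _, Subgroup.index_top]
      exact Nat.one_le_pow _ _ (by norm_num)⟩
  refine ⟨Subgroup.closure {g | Near φ g}, ⟨?_⟩, ?_, ?_⟩
  · intro x hx u
    induction hx using Subgroup.closure_induction with
    | mem x hx => exact Subgroup.subset_closure (near_conj φ hiso u hx)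
    | one => simp
    | mul x y _ _ h1 h2 => rw [← conj_mul]; exact mul_mem h1 h2
    | inv x _ h => rw [← conj_inv]; exact inv_mem h
  · intro x hx y hy
    induction hx, hy using Subgroup.closure_induction₂ with
    | mem x y hx hy => exact (near_commute φ hiso hinj hx hy).eq
    | one_left => simp
    | one_right => simp
    | mul_left x y z _ _ _ h1 h2 => exact (Commute.mul_left h1 h2).eq
    | mul_right y z x _ _ _ h1 h2 => exact (Commute.mul_right h1 h2).eq
    | inv_left x y _ _ h => exact (Commute.inv_left h).eq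
    | inv_right x y _ _ h => exact (Commute.inv_right h).eq
  · intro H hH
    set A := Subgroup.closure {g | Near φ g} with hA
    obtain ⟨v, μ, hμ⟩ := exists_eigenbasis φ hiso H hH
    have hunit : ∀ i, ∀ h ∈ H, ‖μ i h‖ = 1 := fun i h hh =>
      norm_eigenvalue φ hiso (v.ne_zero i) (hμ i h hh)
    let bin : H → Fin (Module.finrank ℂ E) → Finset.Icc 1 12 := fun h i =>
      ⟨⌈((μ i h).arg + Real.pi) / (Real.pi / 6)⌉₊, by
        have h6 : 0 < Real.pi / 6 := by positivity
        rw [Finset.mem_Icc]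
        refine ⟨Nat.one_le_ceil_iff.2 (div_pos (by linarith [Complex.neg_pi_lt_arg (μ i h)]) h6),
          Nat.ceil_le.2 ?_⟩
        rw [div_le_iff₀ h6]
        push_cast
        linarith [Complex.arg_le_pi (μ i h)]⟩
    have key : ∀ h k : H, bin h = bin k → k⁻¹ * h ∈ A.subgroupOf H := by
      intro h k e
      rw [Subgroup.mem_subgroupOf, Subgroup.coe_mul, Subgroup.coe_inv]
      refine Subgroup.subset_closure ⟨((Real.sqrt 3 / 2 : ℝ) : ℂ), ?_⟩
      refine norm_sub_lt φ hiso v (fun i => (μ i k)⁻¹ * μ i h) (fun i => ?_) _ _ (by norm_num)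
        fun i => norm_ratio_lt (hunit i h h.2) (hunit i k k.2)
          (congrArg Subtype.val (congrFun e i))
      have hk0 : μ i k ≠ 0 := norm_ne_zero_iff.1 (by rw [hunit i k k.2]; exact one_ne_zero)
      rw [apply_mul, hμ i h h.2, map_smul]
      have e1 : φ (k : G)⁻¹ (v i) = (μ i k)⁻¹ • v i := by
        have e2 := congrArg (φ (k : G)⁻¹) (hμ i k k.2)
        rw [← apply_mul, inv_mul_cancel, map_one, ContinuousLinearMap.one_apply, map_smul] at e2
        conv_rhs => rw [e2, smul_smul, inv_mul_cancel₀ hk0, one_smul]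
      rw [e1, smul_smul, mul_comm]
    have hle : Nat.card (H ⧸ A.subgroupOf H) ≤
        Nat.card (Fin (Module.finrank ℂ E) → Finset.Icc 1 12) :=
      Nat.card_le_card_of_injective (fun q => bin q.out) fun q q' e => by
        rw [← QuotientGroup.out_eq' q, ← QuotientGroup.out_eq' q']
        exact ((QuotientGroup.eq).2 (key _ _ e)).symm
    rw [Subgroup.index]
    refine hle.trans ?_
    rw [Nat.card_fun, Nat.card_eq_finsetCard, Nat.card_Icc, Nat.card_fin]

end Cfsg.Agent.H80.Jordan
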