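import Cfsg.Agent.H80.DegreeBound
import Cfsg.Agent.BlockBasic.SingleBlock
import Cfsg.Agent.BlockBasic.Basic
import Cfsg.Agent.Cores.Constrained
import Cfsg.Agent.H35.Consequences
import Cfsg.Agent.S4435
import Cfsg.Agent.S4436
import Cfsg.Agent.S4492

/-!
# Heights in p-solvable groups
-/

set_option linter.style.haveILetI false

namespace Cfsg.Agent.H80.HeightBound

open Cfsg Cfsg.Agent.CharBasic Cfsg.Agent.BlockBasic Cfsg.Agent.CharInduce

universe u

variable {p : ℕ} [hp : Fact p.Prime]

/-- The normal subgroup containing `N = O_{p'}` and the centre of each Sylow subgroup. -/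
theorem exists_center_section {W : Type u} [Group W] [Finite W] (hW : IsPSolvable p W)
    (P : Sylow p W) :
    ∃ M : Subgroup W, M.Normal ∧ pPrimeCore p W ≤ M ∧ (∃ i, (pPrimeCore p W).relIndex M = p ^ i) ∧
      (∀ a ∈ M, ∀ b ∈ M, a * b * a⁻¹ * b⁻¹ ∈ pPrimeCore p W) ∧
      Nat.card (Subgroup.center (P : Subgroup W)) ∣ Nat.card M := by
  classical
  set N := pPrimeCore p W with hN
  set f := QuotientGroup.mk' N
  set O := pCore p (W ⧸ N) with hO
  set Zc := (Subgroup.center O).map O.subtype with hZc
  haveI : Zc.Normal := inferInstance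
  have hOp : IsPGroup p O := Cores.pCore_isPGroup
  have hC : Subgroup.centralizer (O : Set (W ⧸ N)) ≤ O :=
    Cores.centralizer_pCore_le (Cores.isPSolvable_quotient hW N) Cores.pPrimeCore_quotient_pPrimeCore
  have hrel : N.relIndex (Zc.comap f) = Nat.card Zc := by
    rw [← Subgroup.map_comap_eq_self_of_surjective (QuotientGroup.mk'_surjective N) Zc,
      ← Subgroup.relIndex_ker, QuotientGroup.ker_mk',
      Subgroup.map_comap_eq_self_of_surjective (QuotientGroup.mk'_surjective N) Zc]
  refine ⟨Zc.comap f, inferInstance, ?_, ?_, ?_, ?_⟩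
  · intro x hx
    rw [Subgroup.mem_comap, show f x = 1 from (QuotientGroup.eq_one_iff x).2 hx]
    exact Zc.one_mem
  · rw [hrel, hZc, Subgroup.card_map_of_injective O.subtype_injective]
    exact IsPGroup.iff_card.1 (hOp.to_subgroup _)
  · intro a ha b hb
    obtain ⟨a', ha', ea⟩ := ha
    obtain ⟨b', hb', eb⟩ := hb
    rw [← QuotientGroup.eq_one_iff]
    show f (a * b * a⁻¹ * b⁻¹) = 1
    simp only [map_mul, map_inv, ← ea, ← eb]
    have hab : (a' : O) * b' = b' * a' := (Subgroup.mem_center_iff.1 ha' b').symm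
    have hab' : (a' : W ⧸ N) * b' = b' * a' := congrArg Subtype.val hab
    rw [show O.subtype a' = (a' : W ⧸ N) from rfl, show O.subtype b' = (b' : W ⧸ N) from rfl, hab']
    group
  · refine dvd_trans ?_ (hrel ▸ Subgroup.relIndex_dvd_card N (Zc.comap f))
    have hmem : ∀ z : Subgroup.center (P : Subgroup W), f ((z : (P : Subgroup W)) : W) ∈ Zc := by
      intro z
      set P' := P.mapSurjective (QuotientGroup.mk'_surjective N) with hP'
      have hOP : O ≤ (P' : Subgroup (W ⧸ N)) := Cores.pCore_le_sylow P'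
      have hcz : f ((z : (P : Subgroup W)) : W) ∈ Subgroup.centralizer (O : Set (W ⧸ N)) := by
        rw [Subgroup.mem_centralizer_iff]
        intro o ho
        have ho' := hOP ho
        rw [hP', Sylow.coe_mapSurjective] at ho'
        obtain ⟨w, hw, rfl⟩ := ho'
        rw [← map_mul, ← map_mul]
        exact congrArg f (congrArg Subtype.val (Subgroup.mem_center_iff.1 z.2 ⟨w, hw⟩))
      refine ⟨⟨_, hC hcz⟩, Subgroup.mem_center_iff.2 fun o => Subtype.ext ?_, rfl⟩
      exact (Subgroup.mem_centralizer_iff.1 hcz o o.2)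
    let g : Subgroup.center (P : Subgroup W) →* Zc :=
      (f.comp ((P : Subgroup W).subtype.comp (Subgroup.center (P : Subgroup W)).subtype)).codRestrict
        Zc hmem
    refine Subgroup.card_dvd_of_injective g ((injective_iff_map_eq_one g).2 fun z hz => ?_)
    have hzN : ((z : (P : Subgroup W)) : W) ∈ N :=
      (QuotientGroup.eq_one_iff _).1 (congrArg Subtype.val hz)
    have h1 : ((z : (P : Subgroup W)) : W) ∈ (P : Subgroup W) ⊓ N := ⟨(z : (P : Subgroup W)).2, hzN⟩
    rw [Cores.disjoint_of_isPGroup_of_coprime P.isPGroup' Cores.coprime_card_pPrimeCore,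
      Subgroup.mem_bot] at h1
    exact Subtype.ext (Subtype.ext h1)

/-- The bound on the `p`-part of degrees. -/
theorem degree_center_le (M : Ideal AlgInt) (hM : IsPModular p M) :
    ∀ (k : ℕ) (W : Type u) [Group W] [Fintype W], Nat.card W = k → IsPSolvable p W →
    ∀ (χ : IrrCharacter W) (P : Subgroup W), IsDefectGroup p M (blockOf M (χ : W → ℂ)) P →
    (charDegree (χ : W → ℂ)).factorization p + (Nat.card (Subgroup.center P)).factorization p ≤
      (Nat.card W).factorization p := by
  intro k
  induction k using Nat.strong_induction_on with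
  | _ k ih =>
  intro W _ _ hk hW χ P hP
  classical
  set N := pPrimeCore p W with hNdef
  haveI : Fintype N := Fintype.ofFinite N
  set B := blockOf M (χ : W → ℂ) with hBdef
  have hB : IsPBlock M B := ⟨χ, rfl⟩
  have hχB : χ ∈ B := sameBlock_refl hM _
  obtain ⟨θ, hθ⟩ := CharInduce.exists_constituent
    (IsChar.res (IsIrr.isCharacter χ.2) N)
    (fun h => IsIrr.one_ne_zero χ.2 (by simpa using congrFun h 1))
  set T := inertia N (θ : N → ℂ) with hTdef
  by_cases hT : T = ⊤
  · have hinv : ∀ x : W, conjFun N (θ : N → ℂ) x = θ := fun x =>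
      (mem_inertia N).1 (show x ∈ inertia N (θ : N → ℂ) from hTdef ▸ hT ▸ Subgroup.mem_top x)
    obtain ⟨B₀, hB₀, hiff, -, hsyl⟩ := S4492.result p M hM hW N hNdef θ
      (fun g m => congrFun (hinv g) m)
    have hBB : B₀ = B := by
      obtain ⟨ψ, rfl⟩ := hB₀
      have h1 : SameBlock M (ψ : W → ℂ) (χ : W → ℂ) := (hiff χ).2 hθ
      ext φ
      exact ⟨fun h => sameBlock_trans hM (sameBlock_symm h1) h, fun h => sameBlock_trans hM h1 h⟩
    obtain ⟨Q, rfl⟩ := hsyl P (hBB ▸ hP)
    obtain ⟨M', hM'n, hNM, hrel, hcomm, hdvd⟩ := exists_center_section hW Q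
    haveI := hM'n
    have hd : (χ : W → ℂ) 1 = (charDegree (χ : W → ℂ) : ℂ) := apply_one_eq_charDegree χ
    refine le_trans (Nat.add_le_add_left ?_ _) (DegreeBound.factorization_degree_le M' N hNM
      Cores.not_dvd_card_pPrimeCore hrel hcomm θ.2 hinv χ.2 hθ hd)
    exact (Nat.factorization_le_iff_dvd Nat.card_pos.ne' Nat.card_pos.ne').2 hdvd p
  · set b := blockOf M (θ : N → ℂ) with hbdef
    have hbsing : b = {θ} := by
      rw [hbdef, blockOf_eq_singleton_iff hM]
      intro h
      exact Cores.not_dvd_card_pPrimeCore (p := p) (G := W)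
        (h.trans (Nat.div_dvd_of_dvd (charDegree_dvd θ)))
    have hb : IsPBlock M b := ⟨θ, rfl⟩
    have hstab : ∀ g : W, g ∈ T ↔ ∀ θ₁ ∈ b, ∀ θ₂ : IrrCharacter N,
        (∀ m : N, (θ₂ : N → ℂ) m =
          (θ₁ : N → ℂ) ⟨g * m * g⁻¹, (inferInstance : N.Normal).conj_mem m m.2 g⟩) → θ₂ ∈ b := by
      intro g
      rw [hTdef, mem_inertia, hbsing]
      simp only [Set.mem_singleton_iff, forall_eq]
      constructor
      · intro h θ₂ h2
        exact Subtype.ext (funext fun m => (h2 m).trans (congrFun h m))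
      · intro h
        exact congrArg Subtype.val (h ⟨_, isIrrCharacter_conjFun N θ.2 g⟩ fun m => rfl)
    have hNT : N ≤ T := le_inertia N (IsIrr.isClassFunction θ.2)
    haveI : Fintype T := Fintype.ofFinite T
    obtain ⟨hcorr, -, hexB⟩ := S4435.result p M hM N b hb T hstab hNT
    obtain ⟨B', hB', hcov', hindB⟩ := hexB B hB ⟨χ, hχB, θ, sameBlock_refl hM _, hθ⟩
    obtain ⟨B₁, hind₁, -, -, hmem⟩ := hcorr B' hB' hcov'
    obtain rfl : B₁ = B := isInducedBlock_unique hM hind₁ hindB
    obtain ⟨ψ, hψ, hχψ⟩ := (hmem χ).1 hχB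
    obtain ⟨g₀, hg₀⟩ := exists_isDefectClass hM hB'
    obtain ⟨Q₀⟩ : Nonempty (Sylow p (Subgroup.centralizer ({g₀} : Set T))) := inferInstance
    set D := (Q₀ : Subgroup (Subgroup.centralizer ({g₀} : Set T))).map
      (Subgroup.centralizer ({g₀} : Set T)).subtype with hDdef
    have hD : IsDefectGroup p M B' D := ⟨g₀, hg₀, Q₀, rfl⟩
    have hDB : IsDefectGroup p M B (D.map T.subtype) :=
      (S4436.result p M hM N b hb T hstab hNT B' hB' hcov' B hindB).1 D hD
    obtain ⟨c, hc⟩ := H35.defectGroup_le_conj hM hB hDB hP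
    set D' := (D.map T.subtype).map (MulAut.conj c).toMonoidHom with hD'
    have hPD : P = D' := by
      refine Subgroup.eq_of_le_of_card_ge hc (le_of_eq ?_)
      rw [H35.card_defectGroup hM hB hP, hD',
        Subgroup.card_map_of_injective (MulAut.conj c).injective,
        H35.card_defectGroup hM hB hDB]
    let E : D ≃* P := (D.equivMapOfInjective T.subtype T.subtype_injective).trans
      (((D.map T.subtype).equivMapOfInjective (MulAut.conj c).toMonoidHom
        (MulAut.conj c).injective).trans (MulEquiv.subgroupCongr hPD.symm))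
    have hZ : Nat.card (Subgroup.center P) = Nat.card (Subgroup.center D) :=
      (Nat.card_congr (Subgroup.centerCongr E).toEquiv).symm
    have hBψ : B' = blockOf M (ψ : T → ℂ) := by
      obtain ⟨φ, rfl⟩ := hB'
      ext γ
      exact ⟨fun h => sameBlock_trans hM (sameBlock_symm hψ) h,
        fun h => sameBlock_trans hM hψ h⟩
    have hcard : Nat.card T < k := by
      have h1 : 1 < T.index := by
        have h2 : T.index ≠ 1 := fun h => hT (Subgroup.index_eq_one.1 h)
        have h3 : T.index ≠ 0 := Subgroup.index_ne_zero_of_finite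
        omega
      have h4 := T.card_mul_index
      rw [← hk, ← h4]
      exact lt_mul_of_one_lt_right Nat.card_pos h1
    have hrec := ih _ hcard T rfl (Cores.isPSolvable_subgroup hW T) ψ D (hBψ ▸ hD)
    have hdeg : charDegree (χ : W → ℂ) = T.index * charDegree (ψ : T → ℂ) := by
      have h1 := congrFun hχψ 1
      rw [indFun_one, apply_one_eq_charDegree χ, apply_one_eq_charDegree ψ, ← Nat.cast_mul,
        Nat.cast_inj] at h1
      exact h1
    have hψ0 : charDegree (ψ : T → ℂ) ≠ 0 := fun h => IsIrr.one_ne_zero ψ.2 (by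
      rw [apply_one_eq_charDegree ψ, h, Nat.cast_zero])
    rw [hdeg, hZ, Nat.factorization_mul Subgroup.index_ne_zero_of_finite hψ0, ← T.card_mul_index,
      Nat.factorization_mul Nat.card_pos.ne' Subgroup.index_ne_zero_of_finite, Finsupp.add_apply,
      Finsupp.add_apply]
    omega

end Cfsg.Agent.H80.HeightBound
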