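import Cfsg.Agent.H80.Pairing

/-!
# Characters of nearly maximal p-part of degree
-/

set_option linter.style.haveILetI false

namespace Cfsg.Agent.H80

open CharBasic BlockBasic

universe u

variable {G : Type u} [Group G] [Finite G] [Fintype G] {p : ℕ} [hp : Fact p.Prime] {M : Ideal AlgInt}

theorem nn_norm (χ : Cfsg.IrrCharacter G) :
    ∑ ξ : Cfsg.IrrCharacter G, nn p χ ξ ^ 2 =
      (p : ℤ) ^ (Nat.card G).factorization p * nn p χ χ := by
  have hclass := isClassFunction_tilde (p := p) (IsIrr.isClassFunction χ.2)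
  apply Int.cast_injective (α := ℂ)
  push_cast
  have htt : tilde p (tilde p (χ : G → ℂ)) =
      ((p ^ (Nat.card G).factorization p : ℕ) : ℂ) • tilde p (χ : G → ℂ) := by
    funext x
    simp only [tilde, Pi.smul_apply, smul_eq_mul]
    split_ifs <;> simp
  have h1 : Cfsg.classInner (tilde p (χ : G → ℂ)) (tilde p (χ : G → ℂ)) =
      (p : ℂ) ^ (Nat.card G).factorization p * (nn p χ χ : ℂ) := by
    rw [classInner_tilde_symm, htt, classInner_smul_left, nn_spec, Nat.cast_pow]
  rw [← h1, classInner_eq_sum hclass]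
  exact Finset.sum_congr rfl fun ξ _ => by rw [nn_spec, map_intCast, sq]

/-- A character whose degree has p-part at least `p^(a-1)` has height zero. -/
theorem height_zero_of_high (hM : IsPModular p M) {B : Set (Cfsg.IrrCharacter G)}
    (hB : IsPBlock M B) {χ : Cfsg.IrrCharacter G} (hχ : χ ∈ B)
    (hhigh : (Nat.card G).factorization p ≤ degExp p χ + 1) :
    blockHeight p B (χ : G → ℂ) = 0 := by
  classical
  by_contra h0
  choose m hm using fun ξ => dvd_nn_left (p := p) χ ξ
  obtain ⟨η, hη, hη0⟩ := H35.exists_height_zero (p := p) hM hB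
  set a := (Nat.card G).factorization p with ha
  set b := degExp p χ with hb
  have hpb : (p : ℤ) ^ b ≠ 0 := pow_ne_zero _ (by exact_mod_cast hp.out.ne_zero)
  have hmη : m η ≠ 0 := by
    intro e
    have h1 : nn p η χ = 0 := by rw [nn_comm, hm η, e, mul_zero]
    refine (not_not_intro hη0) ((ratio_mem_ideal_iff_height hM hB hη hχ).1 ?_)
    rw [ratio_mem_ideal_iff hM, h1]
    exact dvd_zero _
  have hne : η ≠ χ := fun e => h0 (e ▸ hη0)
  have hmχ : (p : ℤ) ∣ m χ := by
    have h1 := (ratio_mem_ideal_iff hM χ χ).1 ((ratio_mem_ideal_iff_height hM hB hχ hχ).2 h0)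
    rw [hm χ, pow_succ, ← hb, mul_dvd_mul_iff_left hpb] at h1
    exact h1
  have hsum : ∑ ξ : Cfsg.IrrCharacter G, m ξ ^ 2 = (p : ℤ) ^ (a - b) * m χ := by
    have h2 := nn_norm (p := p) χ
    simp only [hm, mul_pow, ← Finset.mul_sum] at h2
    refine mul_left_cancel₀ (pow_ne_zero 2 hpb) (h2.trans ?_)
    have hba : b ≤ a := degExp_le χ
    rw [← ha, show a = a - b + b by omega, pow_add, Nat.add_sub_cancel]
    ring
  obtain ⟨u, hu⟩ := hmχ
  have hlow : m χ ^ 2 + m η ^ 2 ≤ ∑ ξ : Cfsg.IrrCharacter G, m ξ ^ 2 := by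
    rw [← Finset.sum_pair (f := fun ξ => m ξ ^ 2) hne.symm]
    exact Finset.sum_le_sum_of_subset_of_nonneg (Finset.subset_univ _) fun i _ _ => sq_nonneg _
  rw [hsum] at hlow
  have hη1 : 1 ≤ m η ^ 2 := by
    have := sq_pos_of_ne_zero hmη
    omega
  have hp1 : (1 : ℤ) ≤ p := by exact_mod_cast hp.out.one_le
  rcases Nat.lt_or_ge b a with hlt | hge
  · rw [show a - b = 1 by omega, pow_one, hu] at hlow
    have hu2 : u ≤ u ^ 2 := Int.le_self_sq u
    nlinarith [mul_le_mul_of_nonneg_left hu2 (sq_nonneg (p : ℤ))]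
  · rw [show a - b = 0 by omega, pow_zero, one_mul] at hlow
    have := Int.le_self_sq (m χ)
    linarith

omit hp in
/-- For a group order with three primes and square at most on the first, a non-principal
character of prime power degree exists. -/
theorem exists_primePow_degree [Nontrivial G] {q r a b c : ℕ} (hp : p.Prime) (hq : q.Prime)
    (hr : r.Prime) (ha : a ≤ 2) (hpq : p ≠ q) (hpr : p ≠ r)
    (hG : Nat.card G = p ^ a * q ^ b * r ^ c) :
    ∃ χ : Cfsg.IrrCharacter G, (χ : G → ℂ) ≠ (fun _ => 1) ∧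
      ∃ k : ℕ, Cfsg.charDegree (χ : G → ℂ) = q ^ k := by
  classical
  haveI : Fact p.Prime := ⟨hp⟩
  haveI : Fact r.Prime := ⟨hr⟩
  obtain ⟨Mr, hMr⟩ := exists_isPModular (p := r) hr
  have hfac : (Nat.card G).factorization p = a := by
    have hnd : ¬ p ∣ q ^ b * r ^ c := fun h => (hp.dvd_mul.1 h).elim
      (fun h' => hpq ((Nat.prime_dvd_prime_iff_eq hp hq).1 (hp.dvd_of_dvd_pow h')))
      (fun h' => hpr ((Nat.prime_dvd_prime_iff_eq hp hr).1 (hp.dvd_of_dvd_pow h')))
    rw [hG, mul_assoc, Nat.factorization_mul (pow_ne_zero _ hp.ne_zero)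
      (mul_ne_zero (pow_ne_zero _ hq.ne_zero) (pow_ne_zero _ hr.ne_zero))]
    simp [hp.factorization_pow, Nat.factorization_eq_zero_of_not_dvd hnd]
  suffices h : ∃ χ : Cfsg.IrrCharacter G, (χ : G → ℂ) ≠ (fun _ => 1) ∧
      ¬ p ∣ Cfsg.charDegree (χ : G → ℂ) ∧ ¬ r ∣ Cfsg.charDegree (χ : G → ℂ) by
    obtain ⟨χ, h1, hpd, hrd⟩ := h
    refine ⟨χ, h1, ?_⟩
    have hd := charDegree_dvd χ
    rw [hG] at hd
    have hd1 := ((hr.coprime_iff_not_dvd.2 hrd).symm.pow_right c).dvd_of_dvd_mul_right hd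
    have hd2 := ((hp.coprime_iff_not_dvd.2 hpd).symm.pow_right a).dvd_of_dvd_mul_left hd1
    obtain ⟨k, -, hk⟩ := (Nat.dvd_prime_pow hq).1 hd2
    exact ⟨k, hk⟩
  have htriv : ((trivialIrr : Cfsg.IrrCharacter G) : G → ℂ) = fun _ => 1 := rfl
  have hdiv : ∀ χ : Cfsg.IrrCharacter G, r ∣ Cfsg.charDegree (χ : G → ℂ) →
      MemLocalIdeal Mr ((χ : G → ℂ) 1) := fun χ h => by
    rw [apply_one_eq_charDegree]
    exact (memLocalIdeal_natCast_iff hMr _).2 h
  have hne_of : ∀ χ : Cfsg.IrrCharacter G, χ ≠ trivialIrr → (χ : G → ℂ) ≠ fun _ => 1 :=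
    fun χ h e => h (Subtype.ext (e.trans htriv.symm))
  by_cases hpG : p ∣ Nat.card G
  · obtain ⟨Mp, hMp⟩ := exists_isPModular (p := p) hp
    obtain ⟨g, hg⟩ := exists_prime_orderOf_dvd_card' p hpG
    have hB := isPBlock_principalBlock (G := G) Mp
    have hmem : (trivialIrr : Cfsg.IrrCharacter G) ∈ Cfsg.principalBlock Mp G :=
      sameBlock_refl hMp _
    have h0 : (0 : ℂ) = ∑ χ : Cfsg.IrrCharacter G, if χ ∈ Cfsg.principalBlock Mp G then
        (χ : G → ℂ) 1 * (starRingEnd ℂ) ((χ : G → ℂ) g) else 0 := by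
      have h := blockCoeff_eq_zero_of_singular hMp hB (g := g) (by rw [hg])
      rw [blockCoeff, mul_eq_zero, finsum_mem_eq_sum_ite] at h
      exact (h.resolve_left (inv_ne_zero (Nat.cast_ne_zero.2 Nat.card_pos.ne'))).symm
    obtain ⟨χ, hχB, hχne, hχr⟩ : ∃ χ ∈ Cfsg.principalBlock Mp G, χ ≠ trivialIrr ∧
        ¬ r ∣ Cfsg.charDegree (χ : G → ℂ) := by
      by_contra hcon
      push Not at hcon
      rw [← Finset.add_sum_erase _ _ (Finset.mem_univ (trivialIrr : Cfsg.IrrCharacter G)),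
        if_pos hmem, htriv, map_one, mul_one, ← sub_eq_iff_eq_add', zero_sub] at h0
      apply not_memLocalIdeal_one hMr
      rw [← neg_neg (1 : ℂ), h0]
      refine memLocalIdeal_neg (memLocalIdeal_sum hMr _ _ fun χ hχ => ?_)
      split_ifs with hB'
      · rw [mul_comm]
        exact memLocalIdeal_mul hMr
          (memLocalRing_of_isIntegral hMr (isIntegral_conj_apply χ g))
          (hdiv χ (hcon χ hB' (Finset.ne_of_mem_erase hχ)))
      · exact memLocalIdeal_zero hMr
    refine ⟨χ, hne_of χ hχne, fun hpd => ?_, hχr⟩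
    have hexp : 1 ≤ degExp p χ :=
      (hp.dvd_iff_one_le_factorization (charDegree_pos χ).ne').1 hpd
    have hble := degExp_le (p := p) χ
    rw [hfac] at hble
    have hb1 : (Nat.card G).factorization p ≤ degExp p χ + 1 := by omega
    have h1 := (height_zero_iff hχB).1 (height_zero_of_high hMp hB hχB hb1) _ hmem
    have h2 : degExp p (trivialIrr : Cfsg.IrrCharacter G) = 0 := by
      simp [degExp, Cfsg.charDegree, htriv]
    omega
  · obtain ⟨χ, hχne, hχr⟩ : ∃ χ : Cfsg.IrrCharacter G, χ ≠ trivialIrr ∧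
        ¬ r ∣ Cfsg.charDegree (χ : G → ℂ) := by
      by_contra hcon
      push Not at hcon
      have hsum := sum_sq_degree (G := G)
      rw [← Finset.add_sum_erase _ _ (Finset.mem_univ (trivialIrr : Cfsg.IrrCharacter G)),
        htriv, one_pow, ← eq_sub_iff_add_eq] at hsum
      by_cases hrG : r ∣ Nat.card G
      · apply not_memLocalIdeal_one hMr
        rw [hsum]
        refine memLocalIdeal_sub hMr ((memLocalIdeal_natCast_iff hMr _).2 hrG)
          (memLocalIdeal_sum hMr _ _ fun χ hχ => ?_)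
        rw [sq]
        exact memLocalIdeal_mul hMr (memLocalRing_apply hMr χ 1)
          (hdiv χ (hcon χ (Finset.ne_of_mem_erase hχ)))
      · rw [Finset.sum_eq_zero fun χ hχ => absurd ((hcon χ (Finset.ne_of_mem_erase hχ)).trans
          (charDegree_dvd χ)) hrG, sub_zero] at hsum
        exact Finite.one_lt_card.ne (by exact_mod_cast hsum)
    exact ⟨χ, hne_of χ hχne, fun hpd => hpG (hpd.trans (charDegree_dvd χ)), hχr⟩

end Cfsg.Agent.H80
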