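import Cfsg.Agent.CharInduce.Correspondence
import Cfsg.Agent.CharInduce.Gallagher
import Cfsg.Agent.CharInduce.Transport
import Mathlib.GroupTheory.SchurZassenhaus
import Mathlib.GroupTheory.Solvable

/-!
# Invariant constituents over an invariant character, solvable section

`N ≤ G` normal in `Γ`, `[Γ:G]` prime to `[G:N]`, `G/N` solvable: every `Γ`-invariant irreducible
character of `N` lies under a `Γ`-invariant irreducible character of `G`.
-/

set_option linter.style.haveILetI false

namespace Cfsg.Agent.H80.InvariantConstituent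

open Finset
open Cfsg.Agent.CharBasic Cfsg.Agent.CharInduce

universe u

section Abelian

variable {M : Type u} [Group M] [Fintype M]

/-- Over an invariant character the characters of an extension with abelian quotient differ by
linear characters. -/
theorem exists_hom_between {K : Subgroup M} [K.Normal] [Fintype K]
    (hcomm : ∀ a b : M, a * b * a⁻¹ * b⁻¹ ∈ K) {θ : K → ℂ} (hθ : Cfsg.IsIrrCharacter K θ)
    (hinv : ∀ x : M, conjFun K θ x = θ) {η η' : M → ℂ} (hη : Cfsg.IsIrrCharacter M η)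
    (hη' : Cfsg.IsIrrCharacter M η') (h : classInner (fun k : K => η k) θ ≠ 0)
    (h' : classInner (fun k : K => η' k) θ ≠ 0) :
    ∃ b : M →* ℂˣ, (∀ k ∈ K, b k = 1) ∧ η' = fun m => (b m : ℂ) * η m := by
  classical
  set one : K → ℂ := fun _ => 1 with hone
  have hr := res_eq_smul_of_invariant K hη hθ hinv h
  have hr' := res_eq_smul_of_invariant K hη' hθ hinv h'
  have hne : classInner (indFun K (fun k : K => η k)) η' ≠ 0 := by
    rw [classInner_indFun_left K _ _ (CharBasic.IsIrr.isClassFunction hη'), hr, hr',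
      classInner_smul_left, CharBasic.classInner_smul_right, classInner_irr_self hθ, mul_one]
    exact mul_ne_zero h ((map_ne_zero _).2 h')
  rw [show (fun k : K => η k) = fun k : K => one k * η k from funext fun k => (one_mul _).symm,
    indFun_mul_res K one η (CharBasic.IsIrr.isClassFunction hη),
    classFunction_expansion (isClassFunction_indFun K one), sum_mul, classInner_sum_left] at hne
  obtain ⟨β, -, hβ⟩ := exists_ne_zero_of_sum_ne_zero hne
  rw [smul_mul_assoc, classInner_smul_left, mul_ne_zero_iff] at hβ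
  obtain ⟨hβ1, hβ2⟩ := hβ
  have hk : ∀ k ∈ K, (β : M → ℂ) k = (β : M → ℂ) 1 := by
    rw [← constituent_one_iff K β.2]
    intro h0
    rw [classInner_indFun_left K _ _ (CharBasic.IsIrr.isClassFunction β.2), ← conj_classInner,
      h0, map_zero] at hβ1
    exact hβ1 rfl
  obtain ⟨c, -, hc, hirr⟩ := IsChar.exists_deflate (CharBasic.IsIrr.isCharacter β.2) K hk
  have hd : (β : M → ℂ) 1 = 1 := by
    rw [hc 1]
    refine IsIrr.degree_one_of_comm (fun x y => ?_) (hirr β.2)
    induction x using QuotientGroup.induction_on with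
    | _ a =>
      induction y using QuotientGroup.induction_on with
      | _ b =>
        rw [← QuotientGroup.mk_mul, ← QuotientGroup.mk_mul, QuotientGroup.eq]
        have := hcomm b⁻¹ a⁻¹
        simpa [mul_assoc] using this
  obtain ⟨b, hb⟩ := IsChar.exists_hom_of_degree_one (CharBasic.IsIrr.isCharacter β.2) hd
  have hbk : ∀ k ∈ K, b k = 1 := fun k hkK => Units.ext <| by
    rw [← hb k, hk k hkK, hd, Units.val_one]
  have hprod : Cfsg.IsIrrCharacter M ((β : M → ℂ) * η) := by
    refine CharInduce.isIrr_of_norm_one (IsChar.mul (CharBasic.IsIrr.isCharacter β.2)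
      (CharBasic.IsIrr.isCharacter hη)) ?_
    rw [← classInner_irr_self hη, classInner_def, classInner_def]
    congr 1
    refine Finset.sum_congr rfl fun g _ => ?_
    rw [Pi.mul_apply, map_mul, hb g, mul_mul_mul_comm, Complex.mul_conj,
      Complex.normSq_eq_norm_sq, norm_hom]
    norm_num
  refine ⟨b, hbk, ?_⟩
  have heq : (β : M → ℂ) * η = η' := by
    by_contra h0
    exact hβ2 (classInner_irr_of_ne hprod hη' h0)
  rw [← heq]
  funext m
  rw [Pi.mul_apply, hb m]

end Abelian

section Average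

variable {M : Type u} [Group M]

/-- Two linear characters agreeing on `η` can be multiplied. -/
theorem prod_congr_smul {ι : Type*} (s : Finset ι) (f g : ι → (M →* ℂˣ)) (η : M → ℂ)
    (h : ∀ i ∈ s, ∀ m, ((f i) m : ℂ) * η m = ((g i) m : ℂ) * η m) (m : M) :
    ((∏ i ∈ s, f i) m : ℂ) * η m = ((∏ i ∈ s, g i) m : ℂ) * η m := by
  by_cases h0 : η m = 0
  · rw [h0, mul_zero, mul_zero]
  congr 1
  rw [MonoidHom.finset_prod_apply, MonoidHom.finset_prod_apply, Units.coe_prod, Units.coe_prod]
  exact Finset.prod_congr rfl fun i hi => mul_right_cancel₀ h0 (h i hi m)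

end Average

variable {W : Type u} [Group W] [Fintype W]

set_option maxHeartbeats 800000 in
/-- Glauberman's lemma for an abelian section. -/
theorem exists_invariant_abelian (M K : Subgroup W) [M.Normal] [K.Normal] (hKM : K ≤ M)
    [Fintype M] [Fintype K] (hcop : M.index.Coprime (K.relIndex M))
    (hcomm : ∀ a ∈ M, ∀ b ∈ M, a * b * a⁻¹ * b⁻¹ ∈ K) {θ : K → ℂ}
    (hθ : Cfsg.IsIrrCharacter K θ) (hinv : ∀ x : W, conjFun K θ x = θ) :
    ∃ η : M → ℂ, Cfsg.IsIrrCharacter M η ∧
      classInner (fun k : K => η ⟨k, hKM k.2⟩) θ ≠ 0 ∧ ∀ x : W, conjFun M η x = η := by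
  classical
  set L := K.subgroupOf M
  haveI : Fintype L := Fintype.ofFinite _
  set E := Subgroup.subgroupOfEquivOfLe hKM
  set θ' : L → ℂ := fun l => θ (E l)
  have hθ' : Cfsg.IsIrrCharacter L θ' := IsIrr.comp hθ E.toMonoidHom E.surjective
  have hθ'inv : ∀ x : M, conjFun L θ' x = θ' := fun x => funext fun l =>
    congrFun (hinv (x : W)) (E l)
  -- some constituent
  have hne : indFun L θ' ≠ 0 := fun h => by
    have h1 := congrFun h 1
    rw [indFun_one, Pi.zero_apply, mul_eq_zero] at h1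
    rcases h1 with h1 | h1
    · exact Subgroup.index_ne_zero_of_finite (H := L) (Nat.cast_eq_zero.1 h1)
    · exact CharBasic.IsIrr.one_ne_zero hθ' h1
  obtain ⟨η₀, hη₀⟩ :=
    CharInduce.exists_constituent (IsChar.ind L (CharBasic.IsIrr.isCharacter hθ')) hne
  have hη₀θ : classInner (fun l : L => (η₀ : M → ℂ) l) θ' ≠ 0 := by
    rw [classInner_indFun_left L _ _ (CharBasic.IsIrr.isClassFunction η₀.2)] at hη₀
    intro h
    apply hη₀
    rw [← conj_classInner, h, map_zero]
  -- over `θ`, in both readings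
  have hover : ∀ η : M → ℂ, classInner (fun l : L => η l) θ' =
      classInner (fun k : K => η ⟨k, hKM k.2⟩) θ := fun η =>
    classInner_comp_mulEquiv E (fun k : K => η ⟨k, hKM k.2⟩) θ
  -- translates
  have hQ : ∀ x : W, ∃ b : M →* ℂˣ, (∀ k ∈ L, b k = 1) ∧
      conjFun M (η₀ : M → ℂ) x = fun m => (b m : ℂ) * (η₀ : M → ℂ) m := by
    intro x
    refine exists_hom_between (K := L) (fun a c => hcomm a a.2 c c.2) hθ' hθ'inv η₀.2
      (isIrrCharacter_conjFun M η₀.2 x) hη₀θ ?_
    rw [hover]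
    rw [hover] at hη₀θ
    intro h0
    apply hη₀θ
    refine (classInner_conjFun_conjFun K (fun k : K => (η₀ : M → ℂ) ⟨k, hKM k.2⟩) θ x).symm.trans ?_
    rw [hinv x]
    exact h0
  choose b hbK hb using hQ
  haveI : Fintype (W ⧸ M) := Fintype.ofFinite _
  set n := M.index with hn
  have hM : ∀ x : W, ∀ m : M, conjFun M (η₀ : M → ℂ) (x * m) = conjFun M (η₀ : M → ℂ) x ∧
      conjFun M (η₀ : M → ℂ) (m * x) = conjFun M (η₀ : M → ℂ) x := by
    intro x m
    have key : ∀ y : M, conjFun M (η₀ : M → ℂ) (y : W) = (η₀ : M → ℂ) := fun y =>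
      funext fun z => CharBasic.IsIrr.isClassFunction η₀.2 z y
    refine ⟨?_, ?_⟩
    · rw [show x * (m : W) = ((⟨x * m * x⁻¹, Subgroup.Normal.conj_mem inferInstance _ m.2 x⟩ : M) : W) * x by
        simp [mul_assoc], ← conjFun_mul, key]
    · rw [← conjFun_mul, key]
  -- conjugating a linear character
  let cj : W → (M →* ℂˣ) → (M →* ℂˣ) := fun x c =>
    c.comp ((MulAut.conjNormal x : MulAut M).toMonoidHom)
  have hcj : ∀ (x : W) (c : M →* ℂˣ) (m : M),
      cj x c m = c ⟨x * m * x⁻¹, Subgroup.Normal.conj_mem inferInstance _ m.2 x⟩ := fun x c m => by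
    show c ((MulAut.conjNormal x : MulAut M) m) = _
    congr 1
  set β := ∏ q : W ⧸ M, b q.out with hβ
  set e := K.relIndex M with he
  obtain ⟨k, hk⟩ : ∃ k : ℕ, n * k ≡ 1 [MOD e] := by
    rcases Nat.eq_zero_or_pos e with h0 | h0
    · exact absurd h0 (Subgroup.index_ne_zero_of_finite (H := K.subgroupOf M))
    · rcases (Nat.lt_or_eq_of_le h0 : 1 < e ∨ 1 = e) with h1 | h1
      swap
      · exact ⟨0, by rw [← h1]; exact Nat.modEq_one⟩
      · obtain ⟨k, hk⟩ := Nat.exists_mul_mod_eq_one_of_coprime hcop h1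
        exact ⟨k, by rw [Nat.ModEq, hk.2, Nat.mod_eq_of_lt h1]⟩
  have hord : ∀ c : M →* ℂˣ, (∀ l ∈ L, c l = 1) → ∀ j l : ℕ, j ≡ l [MOD e] → c ^ j = c ^ l := by
    intro c hc j l hjl
    refine MonoidHom.ext fun m => ?_
    rw [MonoidHom.pow_apply, MonoidHom.pow_apply, pow_eq_pow_iff_modEq]
    refine hjl.of_dvd (orderOf_dvd_of_pow_eq_one ?_)
    rw [← map_pow]
    exact hc _ (L.pow_index_mem m)
  refine ⟨fun m => ((β ^ k) m : ℂ) * (η₀ : M → ℂ) m, ?_, ?_, ?_⟩
  · refine CharInduce.isIrr_of_norm_one (IsChar.mul (isCharacter_hom (β ^ k))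
      (CharBasic.IsIrr.isCharacter η₀.2)) ?_
    rw [← classInner_irr_self η₀.2, classInner_def, classInner_def]
    congr 1
    refine Finset.sum_congr rfl fun g _ => ?_
    rw [map_mul, mul_mul_mul_comm, Complex.mul_conj, Complex.normSq_eq_norm_sq,
      norm_hom]
    norm_num
  · have hβL : ∀ l ∈ L, (β ^ k) l = 1 := by
      intro l hl
      rw [MonoidHom.pow_apply, hβ, MonoidHom.finset_prod_apply]
      simp [fun q : W ⧸ M => hbK q.out l hl]
    refine fun h0 => hη₀θ (Eq.trans ?_ ((hover (fun m => ((β ^ k) m : ℂ) * (η₀ : M → ℂ) m)).trans h0))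
    congr 1
    funext l
    rw [hβL _ l.2, Units.val_one, one_mul]
  · intro x
    funext m
    -- the cocycle rule
    have hstep : ∀ q : W ⧸ M, ∀ m : M,
        ((cj x (b q.out) * b x) m : ℂ) * (η₀ : M → ℂ) m =
          (b ((q * (x : W ⧸ M)).out) m : ℂ) * (η₀ : M → ℂ) m := by
      intro q m
      have h1 : conjFun M (conjFun M (η₀ : M → ℂ) q.out) x =
          conjFun M (η₀ : M → ℂ) ((q * (x : W ⧸ M)).out) := by
        rw [conjFun_mul]
        obtain ⟨y, hy⟩ := QuotientGroup.mk_out_eq_mul M (q.out * x)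
        rw [show q * (x : W ⧸ M) = ((q.out * x : W) : W ⧸ M) by
          rw [QuotientGroup.mk_mul, QuotientGroup.out_eq'], hy, (hM _ _).1]
      have h2 := congrFun h1 m
      rw [hb, hb] at h2
      simp only [conjFun] at h2
      have h3 := congrFun (hb x) m
      simp only [conjFun] at h3
      rw [← h2, MonoidHom.mul_apply, Units.val_mul, hcj, mul_assoc, ← h3]
    have hprod := prod_congr_smul univ (fun q => cj x (b q.out) * b x)
      (fun q : W ⧸ M => b ((q * (x : W ⧸ M)).out)) (η₀ : M → ℂ) (fun q _ => hstep q)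
    have hperm : ∏ q : W ⧸ M, b ((q * (x : W ⧸ M)).out) = β :=
      Fintype.prod_equiv (Equiv.mulRight (x : W ⧸ M)) _ _ fun q => rfl
    have hconst : ∏ q : W ⧸ M, (cj x (b q.out) * b x) = cj x β * b x ^ n := by
      rw [Finset.prod_mul_distrib, Finset.prod_const, Finset.card_univ, ← Nat.card_eq_fintype_card,
        ← Subgroup.index_eq_card]
      congr 1
      refine MonoidHom.ext fun m => ?_
      simp only [cj, hβ, MonoidHom.comp_apply, MonoidHom.finset_prod_apply]
    rw [hperm, hconst] at hprod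
    have hpow : ∀ m : M, ((cj x (β ^ k) * (b x ^ (n * k))) m : ℂ) * (η₀ : M → ℂ) m
        = ((β ^ k) m : ℂ) * (η₀ : M → ℂ) m := by
      intro m
      have := prod_congr_smul (range k) (fun _ => cj x β * b x ^ n) (fun _ => β) (η₀ : M → ℂ)
        (fun _ _ => hprod) m
      simp only [prod_const, card_range] at this
      rw [← this]
      simp only [MonoidHom.pow_apply, MonoidHom.mul_apply, mul_pow, ← pow_mul, cj,
        MonoidHom.comp_apply]
    show ((β ^ k) _ : ℂ) * conjFun M (η₀ : M → ℂ) x m = _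
    rw [hb x, ← hcj x (β ^ k) m, ← hpow m, hord (b x) (hbK x) _ 1 hk]
    simp only [MonoidHom.mul_apply, MonoidHom.pow_apply, pow_one, Units.val_mul, mul_assoc]

/-- There is an invariant character above a character with a supplementing inertia group. -/
theorem exists_invariant_of_inertia (G M : Subgroup W) [G.Normal] [M.Normal] (hMG : M ≤ G)
    [Fintype G] [Fintype M] {η : M → ℂ} (hη : Cfsg.IsIrrCharacter M η) (T : Subgroup W)
    (hT : ∀ x : W, x ∈ T ↔ conjFun M η x = η) (hsup : T ⊔ G = ⊤)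
    {ξ : G.subgroupOf T → ℂ} (hξ : Cfsg.IsIrrCharacter (G.subgroupOf T) ξ) (hMT : M ≤ T)
    [Fintype (M.subgroupOf T)]
    (hover : classInner (fun m : M.subgroupOf T => ξ ⟨(m : T), hMG m.2⟩)
      (fun m : M.subgroupOf T => η ⟨((m : T) : W), m.2⟩) ≠ 0)
    (hξinv : ∀ t : T, conjFun (G.subgroupOf T) ξ t = ξ) :
    ∃ χ : G → ℂ, Cfsg.IsIrrCharacter G χ ∧
      classInner (fun m : M => χ ⟨m, hMG m.2⟩) η ≠ 0 ∧ ∀ x : W, conjFun G χ x = χ := by
  classical
  set M' := M.subgroupOf G
  haveI : Fintype M' := Fintype.ofFinite _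
  let E := Subgroup.subgroupOfEquivOfLe hMG
  set η' : M' → ℂ := fun m => η (E m)
  have hη' : Cfsg.IsIrrCharacter M' η' := IsIrr.comp hη E.toMonoidHom E.surjective
  set I := inertia M' η'
  have hI : ∀ g : G, g ∈ I ↔ (g : W) ∈ T := by
    intro g
    rw [hT, mem_inertia]
    constructor
    · intro h
      funext m
      have := congrFun h ⟨⟨m, hMG m.2⟩, m.2⟩
      exact this
    · intro h
      funext m
      exact congrFun h (E m)
  let F : I ≃* G.subgroupOf T :=
    { toFun := fun g => ⟨⟨((g : G) : W), (hI _).1 g.2⟩, (g : G).2⟩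
      invFun := fun g => ⟨⟨((g : T) : W), g.2⟩, (hI _).2 (g : T).2⟩
      left_inv := fun g => rfl
      right_inv := fun g => rfl
      map_mul' := fun a b => rfl }
  set ψ : I → ℂ := fun g => ξ (F g)
  have hψ : Cfsg.IsIrrCharacter I ψ := IsIrr.comp hξ F.toMonoidHom F.surjective
  have hle : M' ≤ I := le_inertia M' (CharBasic.IsIrr.isClassFunction hη')
  haveI : Fintype I := Fintype.ofFinite _
  let E' : M' ≃* M.subgroupOf T :=
    { toFun := fun m => ⟨⟨((m : G) : W), hMT m.2⟩, m.2⟩
      invFun := fun m => ⟨⟨((m : T) : W), hMG m.2⟩, m.2⟩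
      left_inv := fun m => rfl
      right_inv := fun m => rfl
      map_mul' := fun a b => rfl }
  have hres : classInner (resTo M' hle ψ) η' ≠ 0 := by
    intro h0
    apply hover
    rw [← h0]
    exact (classInner_comp_mulEquiv E' _ _).symm
  obtain ⟨hirr, hmult, -⟩ := clifford_correspondence M' hη' hle hψ hres
  set χ := indFun I ψ with hχ
  refine ⟨χ, hirr, ?_, ?_⟩
  · intro h0
    apply hres
    rw [← hmult, ← h0]
    exact classInner_comp_mulEquiv E (fun m : M => χ ⟨m, hMG m.2⟩) η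
  · have hTinv : T ≤ inertia G χ := by
      intro t ht
      rw [mem_inertia]
      funext g
      let c : G ≃* G := (MulAut.conjNormal t : MulAut G)
      have hc : ∀ g : G, ((c g : G) : W) = t * g * t⁻¹ := fun g => MulAut.conjNormal_apply t g
      show χ _ = χ g
      rw [show (⟨t * g * t⁻¹, _⟩ : G) = c g from Subtype.ext (hc g).symm, hχ, indFun_apply,
        indFun_apply]
      congr 1
      refine (Fintype.sum_equiv c.toEquiv (fun y : G => extendByZero I ψ (y⁻¹ * g * y)) _
        fun y => ?_).symm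
      show extendByZero I ψ (y⁻¹ * g * y) = extendByZero I ψ ((c y)⁻¹ * c g * c y)
      rw [← map_inv, ← map_mul, ← map_mul]
      set z := y⁻¹ * g * y
      have hzI : c z ∈ I ↔ z ∈ I := by
        rw [hI, hI, hc]
        exact ⟨fun h => by simpa [mul_assoc] using T.mul_mem (T.mul_mem (T.inv_mem ht) h) ht,
          fun h => T.mul_mem (T.mul_mem ht h) (T.inv_mem ht)⟩
      by_cases hz : z ∈ I
      · rw [extendByZero_of_mem _ hz, extendByZero_of_mem _ (hzI.2 hz)]
        refine (congrFun (hξinv ⟨t, ht⟩) (F ⟨z, hz⟩)).symm.trans ?_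
        refine congrArg ξ (Subtype.ext (Subtype.ext ?_))
        exact (hc z).symm
      · rw [extendByZero_of_not_mem _ hz, extendByZero_of_not_mem _ (mt hzI.1 hz)]
    intro x
    have : x ∈ inertia G χ :=
      (sup_le hTinv (le_inertia G (CharBasic.IsIrr.isClassFunction hirr)) :
        T ⊔ G ≤ inertia G χ) (hsup ▸ Subgroup.mem_top x)
    exact this

/-- The solvable section case. -/
theorem exists_invariant_of_solvable : ∀ (n : ℕ) (W : Type u) [Group W] [Fintype W]
    (G N : Subgroup W) [G.Normal] [N.Normal] (hNG : N ≤ G) [Fintype G] [Fintype N],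
    N.relIndex G = n → G.index.Coprime n → Group.IsSolvable (G ⧸ N.subgroupOf G) →
    ∀ θ : N → ℂ, Cfsg.IsIrrCharacter N θ → (∀ x : W, conjFun N θ x = θ) →
    ∃ χ : G → ℂ, Cfsg.IsIrrCharacter G χ ∧
      classInner (fun k : N => χ ⟨k, hNG k.2⟩) θ ≠ 0 ∧ ∀ x : W, conjFun G χ x = χ := by
  intro n
  induction n using Nat.strong_induction_on with
  | _ n ih =>
  intro W _ _ G N _ _ hNG _ _ hn hcop hsolv θ hθ hinv
  classical
  by_cases hab : ∀ a ∈ G, ∀ b ∈ G, a * b * a⁻¹ * b⁻¹ ∈ N
  · exact exists_invariant_abelian G N hNG (hn ▸ hcop) hab hθ hinv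
  -- the last term of the derived series outside `N`
  let D : ℕ → Subgroup W := fun k => (derivedSeries G k).map G.subtype
  have hDn : ∀ k, (D k).Normal := fun k => inferInstance
  have hDG : ∀ k, D k ≤ G := fun k => Subgroup.map_subtype_le _
  have hex : ∃ k, D k ≤ N := by
    obtain ⟨k, hk⟩ := hsolv
    refine ⟨k, ?_⟩
    rintro _ ⟨g, hg, rfl⟩
    have h1 := derivedSeries_le_map_derivedSeries (f := QuotientGroup.mk' (N.subgroupOf G))
      (QuotientGroup.mk'_surjective _) k
    have h2 : (derivedSeries G k).map (QuotientGroup.mk' (N.subgroupOf G)) = ⊥ := by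
      rw [map_derivedSeries_eq (QuotientGroup.mk'_surjective _), hk]
    have h3 : QuotientGroup.mk' (N.subgroupOf G) g = 1 :=
      Subgroup.mem_bot.1 (h2 ▸ Subgroup.mem_map_of_mem _ hg)
    exact Subgroup.mem_subgroupOf.1 ((QuotientGroup.eq_one_iff g).1 h3)
  set k := Nat.find hex with hk
  have hk0 : k ≠ 0 := by
    intro h
    apply hab
    have h1 : D 0 ≤ N := h ▸ Nat.find_spec hex
    intro a ha b hb
    have hG0 : ∀ g ∈ G, g ∈ N := fun g hg => h1 ⟨⟨g, hg⟩, by simp, rfl⟩
    exact N.mul_mem (N.mul_mem (N.mul_mem (hG0 a ha) (hG0 b hb)) (N.inv_mem (hG0 a ha)))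
      (N.inv_mem (hG0 b hb))
  obtain ⟨j, hj⟩ := Nat.exists_eq_succ_of_ne_zero hk0
  set M := N ⊔ D j with hMdef
  haveI := hDn j
  haveI : M.Normal := Subgroup.sup_normal N (D j)
  have hMG : M ≤ G := sup_le hNG (hDG j)
  have hNM : N ≤ M := le_sup_left
  have hNM' : ¬ M ≤ N := fun h =>
    Nat.find_min hex (show j < Nat.find hex by omega) (le_sup_right.trans h)
  have hMcomm : ∀ a ∈ M, ∀ b ∈ M, a * b * a⁻¹ * b⁻¹ ∈ N := by
    intro a ha b hb
    obtain ⟨a₁, ha₁, a₂, ha₂, rfl⟩ := Subgroup.mem_sup_of_normal_left.1 ha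
    obtain ⟨b₁, hb₁, b₂, hb₂, rfl⟩ := Subgroup.mem_sup_of_normal_left.1 hb
    obtain ⟨a', ha', rfl⟩ := ha₂
    obtain ⟨b', hb', rfl⟩ := hb₂
    have h1 : (G.subtype a' * G.subtype b' * (G.subtype a')⁻¹ * (G.subtype b')⁻¹) ∈ N := by
      refine Nat.find_spec hex ⟨a' * b' * a'⁻¹ * b'⁻¹, ?_, by simp⟩
      rw [← hk, hj, derivedSeries_succ]
      exact Subgroup.commutator_mem_commutator ha' hb'
    rw [← QuotientGroup.eq_one_iff] at h1 ⊢
    simpa [QuotientGroup.mk_mul, QuotientGroup.mk_inv, (QuotientGroup.eq_one_iff a₁).2 ha₁,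
      (QuotientGroup.eq_one_iff b₁).2 hb₁] using h1
  haveI : Fintype M := Fintype.ofFinite _
  -- a complement modulo `N`
  set f := QuotientGroup.mk' N
  haveI : (G.map f).Normal :=
    Subgroup.Normal.map inferInstance f (QuotientGroup.mk'_surjective N)
  have hcard : Nat.card (G.map f) = n := by
    rw [← hn, ← Subgroup.relIndex_ker, QuotientGroup.ker_mk']
  have hindex : (G.map f).index = G.index := by
    rw [Subgroup.index_map, QuotientGroup.range_mk', Subgroup.index_top, mul_one,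
      QuotientGroup.ker_mk', sup_eq_left.2 hNG]
  obtain ⟨S, hS⟩ := Subgroup.exists_right_complement'_of_coprime (N := G.map f)
    (by rw [hcard, hindex]; exact hcop.symm)
  set V := S.comap f ⊔ M with hV
  have hVG : ∀ w ∈ V, w ∈ G → w ∈ M := by
    intro w hw hwG
    rw [hV, sup_comm, Subgroup.mem_sup_of_normal_left] at hw
    obtain ⟨m, hm, σ, hσ, rfl⟩ := hw
    have hσG : σ ∈ G := (G.mul_mem_cancel_left (hMG hm)).1 hwG
    have h1 : f σ ∈ G.map f ⊓ S := ⟨Subgroup.mem_map_of_mem f hσG, hσ⟩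
    rw [hS.disjoint.eq_bot, Subgroup.mem_bot] at h1
    exact M.mul_mem hm (hNM ((QuotientGroup.eq_one_iff σ).1 h1))
  have hVtop : V ⊔ G = ⊤ := by
    rw [eq_top_iff]
    intro w _
    obtain ⟨⟨⟨a, ha⟩, ⟨b, hb⟩⟩, he⟩ := hS.2 (f w)
    obtain ⟨g, hg, rfl⟩ := ha
    rw [sup_comm, Subgroup.mem_sup_of_normal_left]
    refine ⟨g, hg, g⁻¹ * w, Subgroup.mem_sup_left ?_, by simp⟩
    show f (g⁻¹ * w) ∈ S
    simp only at he
    rw [map_mul, map_inv, ← he, inv_mul_cancel_left]
    exact hb
  haveI : Fintype V := Fintype.ofFinite _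
  set M' := M.subgroupOf V with hM'
  set N' := N.subgroupOf V with hN'
  haveI : Fintype M' := Fintype.ofFinite _
  haveI : Fintype N' := Fintype.ofFinite _
  have hNV : N ≤ V := hNM.trans le_sup_right
  have hMV : M ≤ V := le_sup_right
  let EN := Subgroup.subgroupOfEquivOfLe hNV
  let EM := Subgroup.subgroupOfEquivOfLe hMV
  have hVindex : M'.index = G.index := by
    have h1 : M' = G.subgroupOf V := by
      ext w
      exact ⟨fun h => hMG h, fun h => hVG w w.2 h⟩
    rw [h1]
    show G.relIndex V = G.index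
    rw [← Subgroup.relIndex_sup_right (H := V) (K := G), hVtop, Subgroup.relIndex_top_right]
  have hrel : N.relIndex M * M.relIndex G = n :=
    hn ▸ Subgroup.relIndex_mul_relIndex N M G hNM hMG
  have hcop' : M'.index.Coprime (N'.relIndex M') := by
    rw [hVindex, Subgroup.relIndex_subgroupOf hMV]
    exact Nat.Coprime.coprime_dvd_right ⟨_, hrel.symm⟩ hcop
  obtain ⟨η', hη', hη'θ, hη'inv⟩ := exists_invariant_abelian M' N'
    (fun w hw => hNM hw) hcop' (fun a ha b hb => hMcomm a ha b hb)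
    (θ := fun w => θ (EN w)) (IsIrr.comp hθ EN.toMonoidHom EN.surjective)
    (fun x => funext fun w => congrFun (hinv (x : W)) (EN w))
  set η : M → ℂ := fun m => η' (EM.symm m) with hηdef
  have hη : Cfsg.IsIrrCharacter M η := IsIrr.comp hη' EM.symm.toMonoidHom EM.symm.surjective
  have hηθ : classInner (fun w : N => η ⟨w, hNM w.2⟩) θ ≠ 0 := by
    intro h0
    apply hη'θ
    rw [← h0]
    exact classInner_comp_mulEquiv EN (fun w : N => η ⟨w, hNM w.2⟩) θ
  -- the inertia group
  set T := inertia M η with hTdef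
  haveI : Fintype T := Fintype.ofFinite _
  have hVT : V ≤ T := by
    intro v hv
    rw [hTdef, mem_inertia]
    funext m
    exact congrFun (hη'inv ⟨v, hv⟩) (EM.symm m)
  have hTG : T ⊔ G = ⊤ := top_le_iff.1 (hVtop ▸ sup_le_sup_right hVT G)
  haveI : Fintype (G.subgroupOf T) := Fintype.ofFinite _
  haveI : Fintype (M.subgroupOf T) := Fintype.ofFinite _
  have hMT : M ≤ T := le_inertia M (CharBasic.IsIrr.isClassFunction hη)
  have hdvd : M.relIndex (G ⊓ T) ∣ M.relIndex G :=
    Dvd.intro _ (Subgroup.relIndex_mul_relIndex M (G ⊓ T) G (le_inf hMG hMT) inf_le_left)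
  have hMG0 : M.relIndex G ≠ 0 := Subgroup.index_ne_zero_of_finite
  have hlt : M.relIndex (G ⊓ T) < n := by
    refine lt_of_le_of_lt (Nat.le_of_dvd (Nat.pos_of_ne_zero hMG0) hdvd) ?_
    rw [← hrel]
    have h1 : 1 < N.relIndex M := by
      have h0 : N.relIndex M ≠ 0 := Subgroup.index_ne_zero_of_finite
      have h1 : N.relIndex M ≠ 1 := fun h => hNM' (Subgroup.relIndex_eq_one.1 h)
      omega
    exact lt_mul_of_one_lt_left (Nat.pos_of_ne_zero hMG0) h1
  have hidx : (G.subgroupOf T).index = G.index := by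
    show G.relIndex T = G.index
    rw [← Subgroup.relIndex_sup_right (H := T) (K := G), hTG, Subgroup.relIndex_top_right]
  have hrelT : (M.subgroupOf T).relIndex (G.subgroupOf T) = M.relIndex (G ⊓ T) := by
    rw [← Subgroup.inf_subgroupOf_right G T, Subgroup.relIndex_subgroupOf inf_le_right]
  have hsolvT : Group.IsSolvable
      (G.subgroupOf T ⧸ (M.subgroupOf T).subgroupOf (G.subgroupOf T)) := by
    haveI := hsolv
    haveI : Group.IsSolvable (G ⧸ M.subgroupOf G) :=
      Group.isSolvable_of_surjective (f := QuotientGroup.map (N.subgroupOf G) (M.subgroupOf G)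
        (MonoidHom.id G) (fun g hg => hNM hg)) (fun q => by
          induction q using QuotientGroup.induction_on with
          | _ g => exact ⟨(g : G ⧸ N.subgroupOf G), rfl⟩)
    let φ : G.subgroupOf T →* G :=
      { toFun := fun g => ⟨((g : T) : W), g.2⟩, map_one' := rfl, map_mul' := fun a b => rfl }
    refine Group.isSolvable_of_isSolvable_injective (f := QuotientGroup.map
      ((M.subgroupOf T).subgroupOf (G.subgroupOf T)) (M.subgroupOf G) φ (fun g hg => hg))
      ((injective_iff_map_eq_one _).2 fun q hq => ?_)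
    induction q using QuotientGroup.induction_on with
    | _ g =>
      change ((φ g : G) : G ⧸ M.subgroupOf G) = 1 at hq
      rw [QuotientGroup.eq_one_iff] at hq ⊢
      exact hq
  obtain ⟨ξ, hξ, hξη, hξinv⟩ := ih _ hlt T (G.subgroupOf T) (M.subgroupOf T)
    (fun w hw => hMG hw) hrelT
    (hidx ▸ Nat.Coprime.coprime_dvd_right (hdvd.trans ⟨_, (hrel.symm.trans (mul_comm _ _))⟩) hcop)
    hsolvT (fun w => η ⟨((w : T) : W), w.2⟩)
    (IsIrr.comp hη (Subgroup.subgroupOfEquivOfLe hMT).toMonoidHom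
      (Subgroup.subgroupOfEquivOfLe hMT).surjective)
    (fun t => funext fun w => congrFun (t.2 : conjFun M η (t : W) = η) ⟨((w : T) : W), w.2⟩)
  obtain ⟨χ, hχ, hχη, hχinv⟩ := exists_invariant_of_inertia G M hMG hη T
    (fun x => mem_inertia M) hTG hξ hMT hξη hξinv
  refine ⟨χ, hχ, ?_, hχinv⟩
  -- transitivity of lying above
  have hres := res_eq_smul_of_invariant (G := M) (N.subgroupOf M) (χ := fun w => θ ⟨(w : M), w.2⟩)
    hη (IsIrr.comp hθ (Subgroup.subgroupOfEquivOfLe hNM).toMonoidHom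
      (Subgroup.subgroupOfEquivOfLe hNM).surjective)
    (fun x => funext fun w => congrFun (hinv (x : W)) ⟨(w : M), w.2⟩)
    (fun h0 => hηθ (h0 ▸ (classInner_comp_mulEquiv (Subgroup.subgroupOfEquivOfLe hNM)
      (fun w : N => η ⟨w, hNM w.2⟩) θ).symm))
  obtain ⟨r, hr, her⟩ := IsChar.exists_eq_add
    (IsChar.comp (CharBasic.IsIrr.isCharacter hχ) (Subgroup.inclusion hMG)) hη hχη
  have hcN : Cfsg.IsCharacter N (fun w : N => r ⟨w, hNM w.2⟩) :=
    IsChar.comp hr (Subgroup.inclusion hNM)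
  obtain ⟨a, ha⟩ := classInner_isChar_nat hcN (CharBasic.IsIrr.isCharacter hθ)
  obtain ⟨c, hc⟩ := classInner_isChar_nat
    (IsChar.comp (CharBasic.IsIrr.isCharacter hη) (Subgroup.inclusion hNM))
    (CharBasic.IsIrr.isCharacter hθ)
  rw [show (fun w : N => χ ⟨w, hNG w.2⟩) =
    (fun w : N => η ⟨w, hNM w.2⟩) + (fun w : N => r ⟨w, hNM w.2⟩) from
      funext fun w => congrFun her ⟨w, hNM w.2⟩, classInner_add_left]
  change classInner (fun w : N => η ⟨w, hNM w.2⟩) θ = (c : ℂ) at hc
  rw [hc, ha, ← Nat.cast_add, Nat.cast_ne_zero]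
  rw [hc, Nat.cast_ne_zero] at hηθ
  omega

end Cfsg.Agent.H80.InvariantConstituent
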