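import Cfsg.Agent.H80.GlaubermanSolvable
import Cfsg.Agent.CharInduce.Gallagher
import Cfsg.Agent.CharInduce.Transport
import Cfsg.Agent.H35.Extend
import Mathlib.GroupTheory.SchurZassenhaus
import Mathlib.GroupTheory.Transfer
import Mathlib.RingTheory.RootsOfUnity.Basic

/-!
# Invariant constituents over an invariant character, solvable quotient

`N ≤ G` normal in `Γ`, `[Γ:G]` prime to `[G:N]`, `Γ/G` solvable. The group of intertwiners turns
the question into Glauberman's for a central extension of `G/N`.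
-/

set_option linter.style.haveILetI false

namespace Cfsg.Agent.H80.InvariantConstituent

open Finset
open Cfsg.Agent.CharBasic Cfsg.Agent.CharInduce Cfsg.Agent.H35.Extend

universe u

/-- A central extension of a group by a finite group, in which the set of elements killed by a
suitable power is a normal subgroup of order prime to the index of the extension. -/
theorem exists_core {Q : Type u} [Group Q] [Finite Q] (K Z : Subgroup Q) [K.Normal] [Z.Normal]
    (hZK : Z ≤ K) (hZ : ∀ z ∈ Z, ∀ q : Q, z * q = q * z)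
    (hcop : K.index.Coprime (Z.relIndex K)) (hsolv : Group.IsSolvable (Q ⧸ K)) :
    ∃ K₀ : Subgroup Q, K₀.Normal ∧ K₀ ≤ K ∧ (Nat.card K₀).Coprime K₀.index ∧
      (∀ S : Subgroup Q, Disjoint K₀ S → Group.IsSolvable S) ∧
      ∀ q ∈ K, ∃ z ∈ Z, z * q ∈ K₀ := by
  classical
  set s := K.index with hs
  set k := Z.relIndex K with hk
  set m := Nat.card Z with hm
  set ms := Nat.gcd m (s ^ m) with hms
  set m' := m / ms with hm'
  have hm0 : m ≠ 0 := Nat.card_pos.ne'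
  have hs0 : s ≠ 0 := Subgroup.index_ne_zero_of_finite
  have hk0 : k ≠ 0 := Subgroup.index_ne_zero_of_finite
  have hmsm : ms * m' = m := Nat.mul_div_cancel' (Nat.gcd_dvd_left _ _)
  have hms0 : ms ≠ 0 := fun h => hm0 (by rw [← hmsm, h, zero_mul])
  have hm's : m'.Coprime s := by
    by_contra h
    obtain ⟨p, hp, hpm, hps⟩ := Nat.Prime.not_coprime_iff_dvd.1 h
    set v := ms.factorization p with hv
    have hvm : v + 1 ≤ m := by
      have h1 : p ^ (v + 1) ∣ m := by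
        rw [← hmsm, pow_succ]
        exact Nat.mul_dvd_mul (Nat.ordProj_dvd ms p) hpm
      exact (Nat.lt_pow_self hp.one_lt).le.trans (Nat.le_of_dvd (Nat.pos_of_ne_zero hm0) h1)
    have h2 : p ^ (v + 1) ∣ ms := Nat.dvd_gcd
      (by rw [← hmsm, pow_succ]; exact Nat.mul_dvd_mul (Nat.ordProj_dvd ms p) hpm)
      ((pow_dvd_pow p hvm).trans (pow_dvd_pow_of_dvd hps m))
    have := (hp.pow_dvd_iff_le_factorization hms0).1 h2
    omega
  have hcop_ms : ms.Coprime (k * m') := by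
    refine Nat.Coprime.coprime_dvd_left (Nat.gcd_dvd_right m (s ^ m)) ?_
    exact (Nat.Coprime.mul_right hcop hm's.symm).pow_left m
  -- the `k`-th power is multiplicative on `K`
  have hqk : ∀ q ∈ K, q ^ k ∈ Z := fun q hq =>
    Subgroup.mem_subgroupOf.1 ((Z.subgroupOf K).pow_index_mem ⟨q, hq⟩)
  have hmulk : ∀ a ∈ K, ∀ b ∈ K, (a * b) ^ k = a ^ k * b ^ k := by
    intro a ha b hb
    have hle : Z.subgroupOf K ≤ Subgroup.center K := fun z hz =>
      Subgroup.mem_center_iff.2 fun y => Subtype.ext (hZ _ hz _).symm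
    obtain ⟨c, hc⟩ : (Subgroup.center K).index ∣ k := Subgroup.index_dvd_of_le hle
    have hk' : ∀ y : K, y ^ k = ((MonoidHom.transferCenterPow K y ^ c : Subgroup.center K) : K) :=
      fun y => by rw [SubmonoidClass.coe_pow, MonoidHom.transferCenterPow_apply, hc, pow_mul]
    have h1 := hk' (⟨a, ha⟩ * ⟨b, hb⟩)
    have hc : Commute (MonoidHom.transferCenterPow K ⟨a, ha⟩)
        (MonoidHom.transferCenterPow K ⟨b, hb⟩) :=
      Subtype.ext (Subgroup.mem_center_iff.1 (MonoidHom.transferCenterPow K ⟨a, ha⟩).2 _).symm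
    rw [map_mul, hc.mul_pow, Subgroup.coe_mul, ← hk', ← hk'] at h1
    exact congrArg Subtype.val h1
  have hmulkm : ∀ a ∈ K, ∀ b ∈ K, (a * b) ^ (k * m') = a ^ (k * m') * b ^ (k * m') := by
    intro a ha b hb
    rw [pow_mul, pow_mul, pow_mul, hmulk a ha b hb]
    exact (show Commute (a ^ k) (b ^ k) from hZ _ (hqk a ha) (b ^ k)).mul_pow m'
  have hkill : ∀ q ∈ K, (q ^ (k * m')) ^ ms = 1 := by
    intro q hq
    rw [← pow_mul, mul_assoc, mul_comm m' ms, hmsm, pow_mul, hm]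
    exact congrArg Subtype.val (pow_card_eq_one' (x := (⟨q ^ k, hqk q hq⟩ : Z)))
  let τ : K →* Q :=
    { toFun := fun q => (q : Q) ^ (k * m')
      map_one' := one_pow _
      map_mul' := fun a b => hmulkm a a.2 b b.2 }
  set K₀ := τ.ker.map K.subtype with hK₀
  have hmem : ∀ q : Q, q ∈ K₀ ↔ q ∈ K ∧ q ^ (k * m') = 1 := by
    intro q
    constructor
    · rintro ⟨x, hx, rfl⟩
      exact ⟨x.2, hx⟩
    · rintro ⟨h1, h2⟩
      exact ⟨⟨q, h1⟩, h2, rfl⟩
  have hK₀n : K₀.Normal := ⟨fun q hq g => by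
    rw [hmem] at hq ⊢
    exact ⟨Subgroup.Normal.conj_mem inferInstance _ hq.1 g, by
      rw [conj_pow, hq.2, mul_one, mul_inv_cancel]⟩⟩
  have hK₀K : K₀ ≤ K := fun q hq => ((hmem q).1 hq).1
  refine ⟨K₀, hK₀n, hK₀K, ?_, ?_, ?_⟩
  · by_contra hc
    obtain ⟨p, hp, hp₀, hpi⟩ := Nat.Prime.not_coprime_iff_dvd.1 hc
    haveI := Fact.mk hp
    obtain ⟨q, hq⟩ := exists_prime_orderOf_dvd_card' p hp₀
    have hdiv : p ∣ k * m' := by
      rw [← hq]
      exact orderOf_dvd_of_pow_eq_one (Subtype.ext ((hmem _).1 q.2).2)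
    have hpms : ¬ p ∣ ms := fun h => hp.not_dvd_one (hcop_ms ▸ Nat.dvd_gcd h hdiv)
    have hps : ¬ p ∣ s := by
      intro h
      rcases hp.dvd_mul.1 hdiv with h' | h'
      · exact hp.not_dvd_one (hcop ▸ Nat.dvd_gcd h h')
      · exact hp.not_dvd_one (hm's.symm ▸ Nat.dvd_gcd h h')
    rw [← Subgroup.relIndex_mul_index hK₀K] at hpi
    rcases hp.dvd_mul.1 hpi with h | h
    · have e : K₀.subgroupOf K = τ.ker := Subgroup.comap_map_eq_self_of_injective K.subtype_injective _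
      have h1 : K₀.relIndex K = Nat.card τ.range := by
        show (K₀.subgroupOf K).index = _
        rw [e, Subgroup.index_ker]
      rw [h1] at h
      obtain ⟨y, hy⟩ := exists_prime_orderOf_dvd_card' p h
      obtain ⟨x, hx⟩ := y.2
      refine hpms ?_
      rw [← hy]
      refine orderOf_dvd_of_pow_eq_one (Subtype.ext ?_)
      rw [SubmonoidClass.coe_pow, ← hx]
      exact hkill x x.2
    · exact hps h
  · intro S hS
    haveI := hsolv
    let g : S →* Q ⧸ K := (QuotientGroup.mk' K).comp S.subtype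
    haveI : Group.IsSolvable g.ker := Group.isSolvable_of_comm fun x y => by
      have hxK : ((x : S) : Q) ∈ K := (QuotientGroup.eq_one_iff _).1 x.2
      have hyK : ((y : S) : Q) ∈ K := (QuotientGroup.eq_one_iff _).1 y.2
      refine Subtype.ext (Subtype.ext ?_)
      show ((x : S) : Q) * ((y : S) : Q) = ((y : S) : Q) * ((x : S) : Q)
      have h1 : ((x : S) : Q) * (y : S) * ((x : S) : Q)⁻¹ * ((y : S) : Q)⁻¹ ∈ K₀ ⊓ S := by
        refine ⟨(hmem _).2 ⟨K.mul_mem (K.mul_mem (K.mul_mem hxK hyK) (K.inv_mem hxK))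
          (K.inv_mem hyK), ?_⟩, S.mul_mem (S.mul_mem (S.mul_mem (x : S).2 (y : S).2)
          (S.inv_mem (x : S).2)) (S.inv_mem (y : S).2)⟩
        rw [hmulkm _ (K.mul_mem (K.mul_mem hxK hyK) (K.inv_mem hxK)) _ (K.inv_mem hyK),
          hmulkm _ (K.mul_mem hxK hyK) _ (K.inv_mem hxK), hmulkm _ hxK _ hyK, inv_pow, inv_pow,
          pow_mul ((x : S) : Q),
          hZ _ (Z.pow_mem (hqk _ hxK) m') (((y : S) : Q) ^ (k * m')), mul_inv_cancel_right,
          mul_inv_cancel]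
      rw [hS.eq_bot, Subgroup.mem_bot] at h1
      exact mul_inv_eq_iff_eq_mul.1 (mul_inv_eq_one.1 h1)
    exact Group.isSolvable_of_ker_le_range g.ker.subtype g (Subgroup.range_subtype _).ge
  · intro q hq
    obtain ⟨u, hu⟩ : ∃ u : ℕ, (k * m') * u ≡ 1 [MOD ms] := by
      rcases (Nat.lt_or_eq_of_le (Nat.pos_of_ne_zero hms0) : 1 < ms ∨ 1 = ms) with h1 | h1
      swap
      · exact ⟨0, by rw [← h1]; exact Nat.modEq_one⟩
      · obtain ⟨u, hu⟩ := Nat.exists_mul_mod_eq_one_of_coprime hcop_ms.symm h1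
        exact ⟨u, by rw [Nat.ModEq, hu.2, Nat.mod_eq_of_lt h1]⟩
    set t := q ^ (k * m') with ht
    have htZ : t ∈ Z := by rw [ht, pow_mul]; exact Z.pow_mem (hqk q hq) m'
    refine ⟨(t ^ u)⁻¹, Z.inv_mem (Z.pow_mem htZ u), (hmem _).2 ⟨K.mul_mem (hZK (Z.inv_mem (Z.pow_mem htZ u))) hq, ?_⟩⟩
    have h1 : t ^ (k * m' * u) = t := by
      conv_rhs => rw [← pow_one t]
      rw [pow_eq_pow_iff_modEq]
      exact hu.of_dvd (orderOf_dvd_of_pow_eq_one (hkill q hq))
    rw [(show Commute (t ^ u)⁻¹ q from hZ _ (Z.inv_mem (Z.pow_mem htZ u)) q).mul_pow, inv_pow,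
      ← pow_mul, mul_comm u, h1, ← ht, inv_mul_cancel]

/-- The statement for a central extension. -/
theorem exists_invariant_central {Q : Type u} [Group Q] [Fintype Q] (K Z : Subgroup Q) [K.Normal]
    [Z.Normal] (hZK : Z ≤ K) (hZ : ∀ z ∈ Z, ∀ q : Q, z * q = q * z)
    (hcop : K.index.Coprime (Z.relIndex K)) (hsolv : Group.IsSolvable (Q ⧸ K)) (lamZ : Z →* ℂˣ) :
    ∃ (K₀ : Subgroup Q) (hn : K₀.Normal) (μ : K₀ → ℂ), K₀ ≤ K ∧
      Cfsg.IsIrrCharacter K₀ μ ∧ (∀ q ∈ K, ∃ z ∈ Z, z * q ∈ K₀) ∧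
      (∀ (q : Q) (g : K₀), μ ⟨q * g * q⁻¹, hn.conj_mem g g.2 q⟩ = μ g) ∧
      ∀ (g : K₀) (hg : (g : Q) ∈ Z), μ g = μ 1 * (lamZ ⟨g, hg⟩ : ℂ) := by
  classical
  obtain ⟨K₀, hK₀n, hK₀K, hK₀cop, hK₀solv, hK₀Z⟩ := exists_core K Z hZK hZ hcop hsolv
  haveI := hK₀n
  obtain ⟨S, hS⟩ := Subgroup.exists_right_complement'_of_coprime hK₀cop
  haveI : Group.IsSolvable S := hK₀solv S hS.disjoint
  set A := Z ⊓ K₀ with hA
  let lam : A →* ℂˣ := lamZ.comp (Subgroup.inclusion inf_le_left)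
  have hcentral := hZ
  haveI : Fintype K₀ := Fintype.ofFinite _
  haveI : Fintype A := Fintype.ofFinite _
  have hcopS : (Nat.card K₀).Coprime (Nat.card S) := by
    rwa [hS.symm.index_eq_card] at hK₀cop
  obtain ⟨⟨μ, hμ⟩, hμA, hμS⟩ := exists_aInv_over K₀ S A
    (fun s _ g hg => hK₀n.conj_mem g hg s) inf_le_right
    (fun g _ a ha => by rw [← hcentral a ha.1 g, mul_inv_cancel_right]; exact ha)
    (fun g _ a ha => by rw [← hcentral a ha.1 g, mul_inv_cancel_right]; exact ha)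
    hcopS inferInstance ⟨fun a => (lam a : ℂ), isIrrCharacter_hom lam⟩
    (fun s _ g g' e => by
      rw [← hcentral g g.2.1 s, mul_inv_cancel_right] at e
      rw [Subtype.ext e])
  change classInner (fun a : A => μ ⟨a, a.2.2⟩) (fun a : A => (lam a : ℂ)) ≠ 0 at hμA
  have hμinv : ∀ (q : Q) (g : K₀), μ ⟨q * g * q⁻¹, hK₀n.conj_mem g g.2 q⟩ = μ g := by
    intro q g
    obtain ⟨⟨k₀, s⟩, hq⟩ := hS.2 q
    simp only at hq
    set g₁ : K₀ := ⟨(s : Q) * g * (s : Q)⁻¹, hK₀n.conj_mem g g.2 _⟩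
    rw [show (⟨q * g * q⁻¹, hK₀n.conj_mem g g.2 q⟩ : K₀) = k₀ * g₁ * k₀⁻¹ from Subtype.ext (by
      rw [Subgroup.coe_mul, Subgroup.coe_mul, Subgroup.coe_inv]
      show q * (g : Q) * q⁻¹ = (k₀ : Q) * ((s : Q) * g * (s : Q)⁻¹) * (k₀ : Q)⁻¹
      rw [← hq]; group),
      CharBasic.IsIrr.isClassFunction hμ]
    exact hμS s s.2 g g₁ rfl
  set A' := A.subgroupOf K₀
  haveI : A'.Normal := ⟨fun a ha g => by
    rw [Subgroup.mem_subgroupOf] at ha ⊢
    rw [Subgroup.coe_mul, Subgroup.coe_mul, Subgroup.coe_inv, ← hcentral _ ha.1 (g : Q),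
      mul_inv_cancel_right]
    exact ha⟩
  haveI : Fintype A' := Fintype.ofFinite _
  let EA := Subgroup.subgroupOfEquivOfLe (inf_le_right : A ≤ K₀)
  have hres := res_eq_smul_of_invariant (G := K₀) A' (χ := fun a => (lam (EA a) : ℂ)) hμ
    (isIrrCharacter_hom (lam.comp EA.toMonoidHom))
    (fun g => funext fun a => by
      show (lam (EA _) : ℂ) = _
      congr 3
      refine Subtype.ext (Subtype.ext ?_)
      show (g : Q) * ((a : K₀) : Q) * (g : Q)⁻¹ = ((a : K₀) : Q)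
      have ha : ((a : K₀) : Q) ∈ A := a.2
      rw [← hcentral _ ha.1 (g : Q), mul_inv_cancel_right])
    (fun h0 => hμA (h0 ▸ (classInner_comp_mulEquiv EA (fun a : A => μ ⟨a, a.2.2⟩)
      (fun a : A => (lam a : ℂ))).symm))
  have hμa : ∀ a : A, μ ⟨a, a.2.2⟩ = μ 1 * (lam a : ℂ) := by
    intro a
    have h1 := congrFun hres (EA.symm a)
    have h2 := congrFun hres 1
    simp only [Pi.smul_apply, smul_eq_mul, map_one, Units.val_one, mul_one,
      OneMemClass.coe_one] at h2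
    simp only [Pi.smul_apply, smul_eq_mul, MulEquiv.apply_symm_apply] at h1
    rw [h2]
    exact h1
  exact ⟨K₀, hK₀n, μ, hK₀K, hμ, hK₀Z, hμinv, fun g hg => hμa ⟨g, hg, g.2⟩⟩

/-- Descending from the group of intertwiners. -/
theorem exists_of_lift {W : Type u} [Group W] [Fintype W] (G N : Subgroup W) [G.Normal] [N.Normal]
    (hNG : N ≤ G) [Fintype G] [Fintype N] {n : ℕ} (ρ : Representation ℂ N (Fin n → ℂ))
    [ρ.IsIrreducible] {L : Type u} [Group L] [Fintype L] (σ : L →* W) (hσ : Function.Surjective σ)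
    (ι : N →* L) (hσι : ∀ m, σ (ι m) = m) [ι.range.Normal]
    (R : Representation ℂ L (Fin n → ℂ)) (hRN : ∀ m, R (ι m) = ρ m)
    (K₀ : Subgroup (L ⧸ ι.range)) [hK₀n : K₀.Normal] {μ : K₀ → ℂ}
    (hμ : Cfsg.IsIrrCharacter K₀ μ)
    (hμinv : ∀ (q : L ⧸ ι.range) (g : K₀), μ ⟨q * g * q⁻¹, hK₀n.conj_mem g g.2 q⟩ = μ g)
    (hG : ∀ x : L, (x : L ⧸ ι.range) ∈ K₀ → σ x ∈ G)
    (hsurj : ∀ g ∈ G, ∃ x : L, (x : L ⧸ ι.range) ∈ K₀ ∧ σ x = g)
    (hker : ∀ (x : L) (hx : (x : L ⧸ ι.range) ∈ K₀), σ x = 1 →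
      μ ⟨(x : L ⧸ ι.range), hx⟩ * R.character x = μ 1 * n) :
    ∃ χ : G → ℂ, Cfsg.IsIrrCharacter G χ ∧
      classInner (fun k : N => χ ⟨k, hNG k.2⟩) ρ.character ≠ 0 ∧
      ∀ x : W, conjFun G χ x = χ := by
  classical
  set B := ι.range with hB
  set π := QuotientGroup.mk' B
  set L₀ := K₀.comap π with hL₀
  haveI : L₀.Normal := Subgroup.Normal.comap hK₀n π
  haveI : Fintype L₀ := Fintype.ofFinite _
  let σ₀ : L₀ →* G := (σ.comp L₀.subtype).codRestrict G fun x => hG x x.2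
  have hσ₀ : ∀ x : L₀, ((σ₀ x : G) : W) = σ (x : L) := fun x => rfl
  have hσ₀surj : Function.Surjective σ₀ := by
    rintro ⟨g, hg⟩
    obtain ⟨x, hx, hxg⟩ := hsurj g hg
    exact ⟨⟨x, hx⟩, Subtype.ext hxg⟩
  let π₀ : L₀ →* K₀ := (π.comp L₀.subtype).codRestrict K₀ fun x => x.2
  have hπ₀ : Function.Surjective π₀ := by
    rintro ⟨q, hq⟩
    obtain ⟨x, rfl⟩ := QuotientGroup.mk'_surjective B q
    exact ⟨⟨x, hq⟩, rfl⟩
  let R₀ : Representation ℂ L₀ (Fin n → ℂ) := R.comp L₀.subtype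
  have hBL₀ : B ≤ L₀ := fun x hx => by
    rw [hL₀, Subgroup.mem_comap]
    show (QuotientGroup.mk x : L ⧸ B) ∈ K₀
    rw [(QuotientGroup.eq_one_iff x).2 hx]
    exact K₀.one_mem
  have hRN₀ : ∀ m : N, R₀ ⟨ι m, hBL₀ ⟨m, rfl⟩⟩ = ρ m := hRN
  haveI hRirr : R₀.IsIrreducible := by
    have := nontrivial_of_isIrreducible ρ
    refine @IsSimpleOrder.mk _ _ _ ?_ ?_
    · exact ⟨⊥, ⊤, by
        intro h
        have : (⊥ : Submodule ℂ (Fin n → ℂ)) = ⊤ := congrArg Subrepresentation.toSubmodule h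
        exact bot_ne_top this⟩
    · intro S'
      let S'' : Subrepresentation ρ := ⟨S'.toSubmodule, fun m v hv => by
        rw [← hRN₀ m]; exact S'.apply_mem_toSubmodule _ hv⟩
      rcases (‹ρ.IsIrreducible›).eq_bot_or_eq_top S'' with h | h
      · exact Or.inl (Subrepresentation.toSubmodule_injective
          (congrArg Subrepresentation.toSubmodule h :))
      · exact Or.inr (Subrepresentation.toSubmodule_injective
          (congrArg Subrepresentation.toSubmodule h :))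
  set B₀ := B.subgroupOf L₀
  haveI : Fintype B₀ := Fintype.ofFinite _
  let toN : B₀ →* N :=
    { toFun := fun b => ⟨σ ((b : L₀) : L), by
        obtain ⟨m, hm⟩ := b.2
        rw [show ((b : L₀) : L) = ι m from hm.symm, hσι]
        exact m.2⟩
      map_one' := Subtype.ext (map_one σ)
      map_mul' := fun a b => Subtype.ext (map_mul σ _ _) }
  have htoN : Function.Surjective toN := fun m =>
    ⟨⟨⟨ι m, hBL₀ ⟨m, rfl⟩⟩, ⟨m, rfl⟩⟩, Subtype.ext (hσι m)⟩
  have htoNR : ∀ b : B₀, R₀.character (b : L₀) = ρ.character (toN b) := by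
    intro b
    obtain ⟨m, hm⟩ := b.2
    have e1 : (b : L₀) = ⟨ι m, hBL₀ ⟨m, rfl⟩⟩ := Subtype.ext hm.symm
    have e2 : toN b = m := Subtype.ext (by
      show σ ((b : L₀) : L) = (m : W)
      rw [show ((b : L₀) : L) = ι m from hm.symm, hσι])
    rw [e2, e1]
    exact congrArg (LinearMap.trace ℂ _) (hRN m)
  set θ₀ : B₀ → ℂ := fun b => ρ.character (toN b)
  have hρirr : Cfsg.IsIrrCharacter N ρ.character := ⟨n, ρ, inferInstance, rfl⟩
  have hθ₀ : Cfsg.IsIrrCharacter B₀ θ₀ := IsIrr.comp hρirr toN htoN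
  have hRchar : Cfsg.IsIrrCharacter L₀ R₀.character := ⟨n, R₀, hRirr, rfl⟩
  have hθ₀inv : ∀ x : L₀, conjFun B₀ θ₀ x = θ₀ := fun x => funext fun b => by
    show θ₀ _ = θ₀ b
    simp only [θ₀, ← htoNR]
    exact R₀.char_conj (b : L₀) x
  set μ' : L₀ → ℂ := fun x => μ (π₀ x)
  have hμ' : Cfsg.IsIrrCharacter L₀ μ' := IsIrr.comp hμ π₀ hπ₀
  have hμ'B : ∀ b ∈ B₀, μ' b = μ' 1 := fun b hb => by
    show μ (π₀ b) = μ (π₀ 1)
    rw [show π₀ b = 1 from Subtype.ext ((QuotientGroup.eq_one_iff _).2 hb), map_one]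
  have h1θ : (fun _ : B₀ => (1 : ℂ)) * θ₀ = θ₀ := funext fun b => one_mul _
  obtain ⟨hgall, -, -⟩ := gallagher B₀ isIrrCharacter_one hθ₀ (conjFun_one_char B₀) hθ₀inv
    (by rw [h1θ]; exact hθ₀) hRchar htoNR
  obtain ⟨hF, -⟩ := hgall ⟨μ', hμ'⟩ ((mem_above B₀).2 (by
    rw [classInner_indFun_left B₀ _ _ (CharBasic.IsIrr.isClassFunction hμ')]
    intro h0
    refine (constituent_one_iff B₀ hμ').2 hμ'B ?_
    rw [← conj_classInner, h0, map_zero]))
  set F : L₀ → ℂ := μ' * R₀.character with hFdef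
  change Cfsg.IsIrrCharacter L₀ F at hF
  have hFker : ∀ x ∈ σ₀.ker, F x = F 1 := by
    intro x hx
    have hx1 : σ (x : L) = 1 := congrArg Subtype.val (MonoidHom.mem_ker.1 hx)
    show μ (π₀ x) * R.character (x : L) = μ (π₀ 1) * R.character ((1 : L₀) : L)
    refine (hker _ x.2 hx1).trans ?_
    simp
  obtain ⟨ψ, -, hψ, hψirr⟩ := IsChar.exists_deflate (CharBasic.IsIrr.isCharacter hF) σ₀.ker hFker
  let e := QuotientGroup.quotientKerEquivOfSurjective σ₀ hσ₀surj
  set χ : G → ℂ := fun g => ψ (e.symm g) with hχ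
  have hχval : ∀ x : L₀, χ (σ₀ x) = F x := fun x => by
    rw [hψ x, hχ]
    show ψ (e.symm (σ₀ x)) = ψ (x : L₀ ⧸ σ₀.ker)
    congr 1
    rw [MulEquiv.symm_apply_eq]
    rfl
  have hχirr : Cfsg.IsIrrCharacter G χ :=
    IsIrr.comp (hψirr hF) e.symm.toMonoidHom e.symm.surjective
  refine ⟨χ, hχirr, ?_, ?_⟩
  · have h1 : (fun k : N => χ ⟨k, hNG k.2⟩) = μ 1 • ρ.character := by
      funext m
      rw [show (⟨(m : W), hNG m.2⟩ : G) = σ₀ ⟨ι m, hBL₀ ⟨m, rfl⟩⟩ from Subtype.ext (hσι m).symm,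
        hχval]
      show μ (π₀ ⟨ι m, hBL₀ ⟨m, rfl⟩⟩) * R.character (ι m) = μ 1 * ρ.character m
      rw [show π₀ ⟨ι m, hBL₀ ⟨m, rfl⟩⟩ = 1 from
        Subtype.ext ((QuotientGroup.eq_one_iff _).2 ⟨m, rfl⟩)]
      congr 1
      exact congrArg (LinearMap.trace ℂ _) (hRN m)
    rw [h1, classInner_smul_left, classInner_irr_self hρirr, mul_one]
    exact CharBasic.IsIrr.one_ne_zero hμ
  · intro w
    funext g
    obtain ⟨y, hy⟩ := hσ w
    obtain ⟨x, rfl⟩ := hσ₀surj g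
    show χ ⟨w * (σ₀ x : G) * w⁻¹, _⟩ = χ (σ₀ x)
    have hconj : y * (x : L) * y⁻¹ ∈ L₀ := Subgroup.Normal.conj_mem inferInstance _ x.2 y
    rw [show (⟨w * (σ₀ x : G) * w⁻¹, _⟩ : G) = σ₀ ⟨y * (x : L) * y⁻¹, hconj⟩ from
      Subtype.ext (by
        show w * σ (x : L) * w⁻¹ = σ (y * (x : L) * y⁻¹)
        rw [map_mul, map_mul, map_inv, hy]), hχval, hχval]
    show μ (π₀ _) * R.character _ = μ (π₀ x) * R.character (x : L)
    congr 1
    · refine Eq.trans (congrArg μ (Subtype.ext ?_)) (hμinv (π y) (π₀ x))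
      show π (y * (x : L) * y⁻¹) = π y * π (x : L) * (π y)⁻¹
      rw [map_mul, map_mul, map_inv]
    · exact R.char_conj (x : L) y

set_option maxHeartbeats 1000000 in
/-- The solvable quotient case. -/
theorem exists_invariant_of_solvable_quotient {W : Type u} [Group W] [Fintype W]
    (G N : Subgroup W) [G.Normal] [N.Normal] (hNG : N ≤ G) [Fintype G] [Fintype N]
    (hcop : G.index.Coprime (N.relIndex G)) (hsolv : Group.IsSolvable (W ⧸ G))
    {θ : N → ℂ} (hθ : Cfsg.IsIrrCharacter N θ) (hinv : ∀ x : W, conjFun N θ x = θ) :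
    ∃ χ : G → ℂ, Cfsg.IsIrrCharacter G χ ∧
      classInner (fun k : N => χ ⟨k, hNG k.2⟩) θ ≠ 0 ∧ ∀ x : W, conjFun G χ x = χ := by
  classical
  obtain ⟨n, ρ, hρ, rfl⟩ := hθ
  haveI := hρ
  have hproj := proj_surjective N ρ (fun g m => congrFun (hinv g) m)
  have hn0 : n ≠ 0 := fun h => by
    have h1 := CharBasic.IsIrr.one_ne_zero (χ := ρ.character) ⟨n, ρ, hρ, rfl⟩
    exact h1 (by simp [h])
  set D := Nat.card N with hD
  let δ : twinGroup N ρ →* ℂ :=
    (powMonoidHom D).comp ((LinearMap.det).comp (op N ρ))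
  set L := δ.ker with hL
  have hδ : ∀ x, δ x = LinearMap.det (op N ρ x) ^ D := fun x => rfl
  have hδc : ∀ c : ℂˣ, δ (scalarHom N ρ c) = (c : ℂ) ^ (n * D) := by
    intro c
    rw [hδ, op_scalarHom, Algebra.algebraMap_eq_smul_one, LinearMap.det_smul, map_one,
      mul_one, Module.finrank_fin_fun, pow_mul]
  have hbaseL : ∀ m : N, baseHom N ρ m ∈ L := by
    intro m
    rw [hL, MonoidHom.mem_ker, hδ, op_baseHom, ← map_pow, ← map_pow, hD, pow_card_eq_one', map_one,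
      map_one]
  let σ : L →* W := (proj N ρ).comp L.subtype
  have hσsurj : Function.Surjective σ := by
    intro g
    obtain ⟨x, hx⟩ := hproj g
    have hd0 : δ x ≠ 0 := ((isUnit_iff_ne_zero).1 ((Group.isUnit x).map δ))
    obtain ⟨r, hr⟩ := IsAlgClosed.exists_pow_nat_eq (δ x)⁻¹
      (Nat.mul_pos (Nat.pos_of_ne_zero hn0) (Nat.card_pos : 0 < D))
    have hr0 : r ≠ 0 := by
      rintro rfl
      rw [zero_pow (Nat.mul_ne_zero hn0 (Nat.card_pos (α := N)).ne')] at hr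
      exact inv_ne_zero hd0 hr.symm
    refine ⟨⟨scalarHom N ρ (Units.mk0 r hr0) * x, ?_⟩, by simp [σ, hx]⟩
    rw [hL, MonoidHom.mem_ker, map_mul, hδc, Units.val_mk0, hr, inv_mul_cancel₀ hd0]
  have hker : ∀ x : L, σ x = 1 → ∃ c : ℂˣ, c ^ (n * D) = 1 ∧ (x : twinGroup N ρ) = scalarHom N ρ c := by
    intro x hx
    obtain ⟨c, hc⟩ := exists_scalar_of_proj_eq_one N ρ hx
    refine ⟨c, Units.ext ?_, hc⟩
    have h1 : δ x = 1 := x.2
    change (x : twinGroup N ρ) = _ at hc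
    rw [hc, hδc] at h1
    simpa using h1
  haveI : Finite L := by
    haveI : NeZero (n * D) := ⟨Nat.mul_ne_zero hn0 (Nat.card_pos (α := N)).ne'⟩
    choose sec hsec using hσsurj
    choose cf hcf1 hcf using fun x : L => hker (x * (sec (σ x))⁻¹) (by
      rw [map_mul, map_inv, hsec, mul_inv_cancel])
    refine Finite.of_injective
      (fun x : L => ((σ x, ⟨cf x, (mem_rootsOfUnity _ _).2 (hcf1 x)⟩) : W × rootsOfUnity (n * D) ℂ))
      fun x y h => ?_
    simp only [Prod.mk.injEq, Subtype.mk.injEq] at h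
    have h1 := hcf x
    rw [h.2, ← hcf y, ← h.1] at h1
    exact mul_right_cancel (Subtype.ext h1)
  let ι : N →* L := (baseHom N ρ).codRestrict L hbaseL
  set B := ι.range with hB
  haveI : B.Normal := ⟨by
    rintro _ ⟨m, rfl⟩ y
    refine ⟨_, Subtype.ext (conj_baseHom N ρ (y : twinGroup N ρ) m).symm⟩⟩
  have hσι : ∀ m : N, σ (ι m) = (m : W) := fun m => rfl
  set π := QuotientGroup.mk' B
  set KL := G.comap σ with hKL
  set K := KL.map π with hK
  set Z := σ.ker.map π with hZ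
  haveI : K.Normal := Subgroup.Normal.map inferInstance π (QuotientGroup.mk'_surjective B)
  haveI : Z.Normal := Subgroup.Normal.map inferInstance π (QuotientGroup.mk'_surjective B)
  have hBK : B ≤ KL := by
    rintro _ ⟨m, rfl⟩
    exact hNG (show σ (ι m) ∈ N from m.2)
  have hdisj : ∀ x ∈ σ.ker, x ∈ B → x = 1 := by
    rintro x hx ⟨m, rfl⟩
    rw [MonoidHom.mem_ker, hσι] at hx
    rw [show m = 1 from Subtype.ext hx, map_one]
  have hKindex : K.index = G.index := by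
    rw [hK, Subgroup.index_map, QuotientGroup.range_mk', Subgroup.index_top, mul_one,
      QuotientGroup.ker_mk', sup_eq_left.2 hBK, Subgroup.index_comap_of_surjective _ hσsurj]
  have hrel : Z.relIndex K = N.relIndex G := by
    have h1 : Z.comap π = N.comap σ := by
      ext x
      rw [hZ, Subgroup.comap_map_eq, QuotientGroup.ker_mk']
      constructor
      · intro h
        obtain ⟨a, ha, b, ⟨m, rfl⟩, rfl⟩ := Subgroup.mem_sup_of_normal_left.1 h
        rw [Subgroup.mem_comap, map_mul, MonoidHom.mem_ker.1 ha, one_mul]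
        exact m.2
      · intro h
        rw [← inv_mul_cancel_right x (ι ⟨σ x, h⟩)]
        refine Subgroup.mul_mem_sup (MonoidHom.mem_ker.2 ?_) ⟨_, rfl⟩
        rw [map_mul, map_inv, hσι, mul_inv_cancel]
    rw [hK, ← Subgroup.relIndex_comap, h1, Subgroup.relIndex_comap, hKL,
      Subgroup.map_comap_eq_self_of_surjective hσsurj]
  have hcentral : ∀ z ∈ Z, ∀ q : L ⧸ B, z * q = q * z := by
    rintro _ ⟨a, ha, rfl⟩ q
    induction q using QuotientGroup.induction_on with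
    | _ y =>
      obtain ⟨c, -, hc⟩ := hker a ha
      show π a * π y = π y * π a
      rw [← map_mul, ← map_mul]
      congr 1
      apply Subtype.ext
      rw [Subgroup.coe_mul, Subgroup.coe_mul, hc]
      exact scalarHom_central N ρ c _
  haveI : Group.IsSolvable ((L ⧸ B) ⧸ K) := by
    haveI := hsolv
    let f : (L ⧸ B) ⧸ K →* W ⧸ G := QuotientGroup.lift K
      (QuotientGroup.lift B ((QuotientGroup.mk' G).comp σ) (fun x hx => by
        rw [MonoidHom.mem_ker]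
        exact (QuotientGroup.eq_one_iff _).2 (hBK hx))) (fun q hq => by
      obtain ⟨x, hx, rfl⟩ := hq
      exact (QuotientGroup.eq_one_iff _).2 hx)
    refine Group.isSolvable_of_isSolvable_injective (f := f) ((injective_iff_map_eq_one f).2 fun q hq => ?_)
    induction q using QuotientGroup.induction_on with
    | _ q =>
      induction q using QuotientGroup.induction_on with
      | _ x =>
        change ((σ x : W) : W ⧸ G) = 1 at hq
        rw [QuotientGroup.eq_one_iff] at hq ⊢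
        exact ⟨x, hq, rfl⟩
  have hZK : Z ≤ K := Subgroup.map_mono fun x hx => by
    rw [hKL, Subgroup.mem_comap, MonoidHom.mem_ker.1 hx]; exact G.one_mem
  have hpre : ∀ a : Z, ∃ x : L, σ x = 1 ∧ π x = a := fun a => by
    obtain ⟨x, hx, h⟩ := a.2
    exact ⟨x, hx, h⟩
  choose pre hpre1 hpre using hpre
  choose sc hsc1 hsc using fun a : Z => hker (pre a) (hpre1 a)
  have hscuniq : ∀ (a : Z) (x : L) (c : ℂˣ), σ x = 1 → π x = a →
      (x : twinGroup N ρ) = scalarHom N ρ c → sc a = c := by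
    intro a x c hx hxa hc
    have h1 : x = pre a := by
      refine (mul_inv_eq_one.1 (hdisj (x * (pre a)⁻¹) ?_ ?_))
      · rw [MonoidHom.mem_ker, map_mul, map_inv, hx, hpre1, inv_one, mul_one]
      · rw [← QuotientGroup.eq_one_iff]
        show π (x * (pre a)⁻¹) = 1
        rw [map_mul, map_inv, hxa, hpre, mul_inv_cancel]
    apply scalarHom_injective N ρ
    rw [← hsc, ← hc, h1]
  let lamZ : Z →* ℂˣ :=
    MonoidHom.mk' (fun a => (sc a)⁻¹) fun a b => by
      rw [hscuniq (a * b) (pre a * pre b) (sc a * sc b)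
        (by rw [map_mul, hpre1, hpre1, one_mul]) (by rw [map_mul, hpre, hpre]; rfl)
        (by rw [Subgroup.coe_mul, hsc, hsc, map_mul]), mul_inv]
  haveI : Fintype L := Fintype.ofFinite _
  haveI : Fintype (L ⧸ B) := Fintype.ofFinite _
  obtain ⟨K₀, hK₀n, μ, hK₀K, hμ, hK₀Z, hμinv, hμa⟩ :=
    exists_invariant_central K Z hZK hcentral (by rw [hKindex, hrel]; exact hcop) inferInstance lamZ
  haveI := hK₀n
  refine exists_of_lift G N hNG ρ σ hσsurj ι hσι ((op N ρ).comp L.subtype)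
    (fun m => op_baseHom N ρ m) K₀ hμ hμinv ?_ ?_ ?_
  · intro x hx
    have h1 : x ∈ K.comap π := hK₀K hx
    rw [hK, Subgroup.comap_map_eq, QuotientGroup.ker_mk'] at h1
    exact (sup_le le_rfl hBK : KL ⊔ B ≤ KL) h1
  · intro g hg
    obtain ⟨x, hx⟩ := hσsurj g
    have hxK : π x ∈ K := Subgroup.mem_map_of_mem π (show σ x ∈ G from hx ▸ hg)
    obtain ⟨z, ⟨a, ha, rfl⟩, hz⟩ := hK₀Z _ hxK
    refine ⟨a * x, hz, ?_⟩
    rw [map_mul, MonoidHom.mem_ker.1 ha, one_mul, hx]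
  · intro x hx hx1
    obtain ⟨c, -, hc⟩ := hker _ hx1
    have hxZ : π x ∈ Z := ⟨x, hx1, rfl⟩
    rw [hμa ⟨_, hx⟩ hxZ]
    have e1 : lamZ ⟨π x, hxZ⟩ = c⁻¹ := by
      show (sc ⟨_, hxZ⟩)⁻¹ = c⁻¹
      rw [hscuniq ⟨_, hxZ⟩ x c hx1 rfl hc]
    have e2 : Representation.character
        (show Representation ℂ L (Fin n → ℂ) from (op N ρ).comp L.subtype) x =
        (c : ℂ) * (n : ℂ) := by
      show LinearMap.trace ℂ _ (op N ρ (x : twinGroup N ρ)) = _
      rw [hc, op_scalarHom, Algebra.algebraMap_eq_smul_one, map_smul, LinearMap.trace_one,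
        Module.finrank_fin_fun, smul_eq_mul]
    rw [e2]
    change μ 1 * ((lamZ ⟨π x, hxZ⟩ : ℂˣ) : ℂ) * _ = _
    rw [e1, mul_assoc, ← mul_assoc (((c⁻¹ : ℂˣ)) : ℂ), Units.inv_mul, one_mul]

end Cfsg.Agent.H80.InvariantConstituent
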