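import Cfsg.Agent.H80.Blichfeldt
import Cfsg.Agent.CharInduce.Monomial
import Mathlib.NumberTheory.PrimeCounting

/-!
# An explicit form of the bound for abelian normal subgroups of finite linear groups
-/

set_option linter.style.haveILetI false

open scoped commutatorElement

namespace Cfsg.Agent.H80.Blichfeldt

open CharBasic

universe u

variable {G : Type u} [Group G] [Finite G]

/-- A nilpotent linear group has an abelian subgroup of index dividing the factorial of the
degree. -/
theorem exists_abelian_of_nilpotent [Group.IsNilpotent G] {n : ℕ} (h : HasFaithful n G) :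
    ∃ B : Subgroup G, (∀ a ∈ B, ∀ b ∈ B, a * b = b * a) ∧ B.index ∣ n.factorial := by
  classical
  haveI : Fintype G := Fintype.ofFinite G
  obtain ⟨χ, hχ, hf, d, hd, h1⟩ := h
  obtain ⟨s, hs⟩ := IsChar.eq_multiset_sum hχ
  have happ : ∀ g, χ g = (s.map fun ψ : Cfsg.IrrCharacter G => (ψ : G → ℂ) g).sum := by
    intro g
    rw [hs]
    simp [Pi.multiset_sum_apply, Multiset.map_map]
  choose H lam hlam using fun ψ : Cfsg.IrrCharacter G =>
    CharInduce.isMonomial_of_nilpotent G ψ.2
  have hdeg : ∀ ψ : Cfsg.IrrCharacter G, (ψ : G → ℂ) 1 = ((H ψ).index : ℂ) := by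
    intro ψ
    rw [congrFun (hlam ψ) 1, CharInduce.indFun_one]
    simp
  have hsum : ∑ ψ ∈ s.toFinset, (H ψ).index ≤ n := by
    have h2 : (s.map fun ψ => (H ψ).index).sum = d := by
      have := happ 1
      rw [h1] at this
      simp only [hdeg] at this
      rw [← Nat.cast_inj (R := ℂ), Nat.cast_multiset_sum, Multiset.map_map]
      exact this.symm
    refine le_trans ?_ (h2.le.trans hd)
    rw [Finset.sum_multiset_map_count]
    refine Finset.sum_le_sum fun ψ hψ => ?_
    exact Nat.le_mul_of_pos_left _ (Multiset.count_pos.2 (Multiset.mem_toFinset.1 hψ))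
  let Φ : G →* ((ψ : s.toFinset) → Equiv.Perm (G ⧸ H ψ.1)) :=
    Pi.monoidHom fun ψ => MulAction.toPermHom G (G ⧸ H ψ.1)
  refine ⟨Φ.ker, fun a ha b hb => ?_, ?_⟩
  · rw [← commutatorElement_eq_one_iff_mul_comm]
    refine hf _ ?_
    rw [happ, happ]
    refine congrArg _ (Multiset.map_congr rfl fun ψ hψ => ?_)
    have hmem : ∀ g ∈ Φ.ker, ∀ x : G, x⁻¹ * g * x ∈ H ψ := by
      intro g hg x
      have h2 : MulAction.toPermHom G (G ⧸ H ψ) g = 1 :=
        congrFun (MonoidHom.mem_ker.1 hg) ⟨ψ, Multiset.mem_toFinset.2 hψ⟩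
      have h3 : ((g * x : G) : G ⧸ H ψ) = (x : G ⧸ H ψ) := congrArg (fun e => e (x : G ⧸ H ψ)) h2
      have h4 := QuotientGroup.eq.1 h3.symm
      simpa [mul_assoc] using h4
    rw [congrFun (hlam ψ) ⁅a, b⁆, congrFun (hlam ψ) 1, CharInduce.indFun_apply,
      CharInduce.indFun_apply]
    congr 1
    refine Finset.sum_congr rfl fun x _ => ?_
    let a' : H ψ := ⟨x⁻¹ * a * x, hmem a ha x⟩
    let b' : H ψ := ⟨x⁻¹ * b * x, hmem b hb x⟩
    have e : x⁻¹ * ⁅a, b⁆ * x = ((⁅a', b'⁆ : H ψ) : G) := by
      simp only [commutatorElement_def, a', b', Subgroup.coe_mul, Subgroup.coe_inv]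
      group
    rw [e, mul_one, inv_mul_cancel, CharInduce.extendByZero_of_mem _ (⁅a', b'⁆).2,
      CharInduce.extendByZero_of_mem _ (H ψ).one_mem]
    show ((lam ψ ⁅a', b'⁆ : ℂˣ) : ℂ) = ((lam ψ 1 : ℂˣ) : ℂ)
    rw [map_commutatorElement, map_one, commutatorElement_eq_one_iff_commute.2 (Commute.all _ _)]
  · rw [Subgroup.index_ker]
    refine (Subgroup.card_subgroup_dvd_card Φ.range).trans ?_
    rw [Nat.card_pi, Finset.prod_coe_sort s.toFinset (fun ψ => Nat.card (Equiv.Perm (G ⧸ H ψ)))]
    simp only [Nat.card_perm, ← Subgroup.index_eq_card]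
    exact (Nat.prod_factorial_dvd_factorial_sum _ _).trans (Nat.factorial_dvd_factorial hsum)

/-- The part of an index at a set of primes is seen inside a subgroup of coprime index. -/
theorem dvd_relIndex_of_coprime {A K : Subgroup G} [A.Normal] {r : ℕ} (hr : r ∣ A.index)
    (hco : r.Coprime K.index) : r ∣ A.relIndex K := by
  have h1 : A.index = A.relIndex K * (K ⊔ A).index := by
    rw [← Subgroup.relIndex_mul_index (le_sup_right : A ≤ K ⊔ A), Subgroup.relIndex_sup_right]
  rw [h1] at hr
  exact (hco.coprime_dvd_right (Subgroup.index_dvd_of_le le_sup_left)).dvd_of_dvd_mul_right hr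

theorem prod_primeFactors_pow {m : ℕ} (hm : m ≠ 0) :
    ∏ p ∈ m.primeFactors, p ^ m.factorization p = m := by
  conv_rhs => rw [← Nat.prod_factorization_pow_eq_self hm]
  rfl

/-- The explicit bound. -/
theorem index_le {n : ℕ} (h : HasFaithful n G) (A : Subgroup G) [A.Normal]
    (hA : ∀ B : Subgroup G, (∀ x ∈ B, ∀ y ∈ B, x * y = y * x) → A.relIndex B ≤ 12 ^ n) :
    A.index ≤ n.factorial * 12 ^ (n * (Nat.primeCounting (n + 1) + 1)) := by
  classical
  set S := (Finset.range (n + 2)).filter Nat.Prime with hS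
  have hScard : S.card = Nat.primeCounting (n + 1) := by
    rw [Nat.primeCounting, Nat.primeCounting', Nat.count_eq_card_filter_range]
  set idx := A.index with hidx
  have hidx0 : idx ≠ 0 := Subgroup.index_ne_zero_of_finite
  have hsmall : ∀ p ∈ S, p ^ idx.factorization p ≤ p ^ n.factorial.factorization p * 12 ^ n := by
    intro p hp
    have hpp : p.Prime := (Finset.mem_filter.1 hp).2
    haveI : Fact p.Prime := ⟨hpp⟩
    obtain ⟨P⟩ := (inferInstance : Nonempty (Sylow p G))
    haveI : Group.IsNilpotent (P : Subgroup G) := P.2.isNilpotent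
    obtain ⟨B, hBab, hBi⟩ := exists_abelian_of_nilpotent (h.subgroup (P : Subgroup G))
    set B' := B.map (P : Subgroup G).subtype
    have hB'ab : ∀ x ∈ B', ∀ y ∈ B', x * y = y * x := by
      rintro _ ⟨x, hx, rfl⟩ _ ⟨y, hy, rfl⟩
      rw [← map_mul, hBab x hx y hy, map_mul]
    have hdvd : p ^ idx.factorization p ∣ A.relIndex P :=
      dvd_relIndex_of_coprime (Nat.ordProj_dvd _ _)
        ((hpp.coprime_iff_not_dvd.2 P.not_dvd_index).pow_left _)
    refine (Nat.le_of_dvd (Nat.pos_of_ne_zero Subgroup.index_ne_zero_of_finite) hdvd).trans ?_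
    have hB'le : B' ≤ (P : Subgroup G) := Subgroup.map_subtype_le B
    have hBidx : B'.relIndex P = B.index := by
      rw [Subgroup.relIndex, Subgroup.subgroupOf,
        Subgroup.comap_map_eq_self_of_injective (P : Subgroup G).subtype_injective]
    have h2 : A.relIndex P ≤ B.index * A.relIndex B' := by
      have e1 : A.relIndex P ∣ (A ⊓ B').relIndex P :=
        Subgroup.relIndex_dvd_of_le_left _ inf_le_left
      have e2 : (A ⊓ B').relIndex B' * B'.relIndex P = (A ⊓ B').relIndex P :=
        Subgroup.relIndex_mul_relIndex _ _ _ inf_le_right hB'le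
      rw [Subgroup.inf_relIndex_right, hBidx] at e2
      rw [← e2] at e1
      refine (Nat.le_of_dvd ?_ e1).trans_eq (mul_comm _ _)
      exact Nat.mul_pos (Nat.pos_of_ne_zero Subgroup.index_ne_zero_of_finite)
        (Nat.pos_of_ne_zero Subgroup.index_ne_zero_of_finite)
    refine h2.trans (Nat.mul_le_mul (Nat.le_of_dvd (pow_pos hpp.pos _) ?_) (hA B' hB'ab))
    obtain ⟨k, hk⟩ := IsPGroup.iff_card.1 P.2
    obtain ⟨j, -, hj⟩ := (Nat.dvd_prime_pow hpp).1 (hk ▸ B.index_dvd_card)
    rw [hj] at hBi ⊢
    exact pow_dvd_pow _ ((hpp.pow_dvd_iff_le_factorization (Nat.factorial_ne_zero n)).1 hBi)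
  obtain ⟨K, hK1, hK2⟩ := exists_bigHall _ G le_rfl h
  have hbig : ∏ p ∈ idx.primeFactors.filter (fun p => p ∉ S), p ^ idx.factorization p ≤ 12 ^ n := by
    have hdvd : ∏ p ∈ idx.primeFactors.filter (fun p => p ∉ S), p ^ idx.factorization p ∣
        A.relIndex K := by
      refine dvd_relIndex_of_coprime ?_ (Nat.Coprime.prod_left fun p hp => ?_)
      · refine (Finset.prod_dvd_prod_of_subset _ idx.primeFactors _ (Finset.filter_subset _ _)).trans ?_
        rw [prod_primeFactors_pow hidx0]
      · obtain ⟨hp1, hp2⟩ := Finset.mem_filter.1 hp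
        have hpp := Nat.prime_of_mem_primeFactors hp1
        refine (hpp.coprime_iff_not_dvd.2 (hK2 p hpp ?_)).pow_left _
        by_contra hle
        exact hp2 (Finset.mem_filter.2 ⟨Finset.mem_range.2 (by omega), hpp⟩)
    refine (Nat.le_of_dvd (Nat.pos_of_ne_zero Subgroup.index_ne_zero_of_finite) hdvd).trans
      (hA K fun x hx y hy => ?_)
    exact congrArg Subtype.val (commute_of_big (h.subgroup K) hK1 ⟨x, hx⟩ ⟨y, hy⟩)
  have hsm : ∏ p ∈ idx.primeFactors.filter (fun p => p ∈ S), p ^ idx.factorization p ≤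
      n.factorial * (12 ^ n) ^ S.card := by
    refine le_trans ?_ (Nat.mul_le_mul_right _ (Nat.le_of_dvd n.factorial_pos
      (?_ : ∏ p ∈ S, p ^ n.factorial.factorization p ∣ n.factorial)))
    · rw [← Finset.prod_const, ← Finset.prod_mul_distrib]
      refine (Finset.prod_le_prod' fun p hp => hsmall p (Finset.mem_filter.1 hp).2).trans ?_
      exact Finset.prod_le_prod_of_subset_of_one_le' (fun p hp => (Finset.mem_filter.1 hp).2)
        fun p hp _ => Nat.one_le_iff_ne_zero.2
          (mul_ne_zero (pow_ne_zero _ (Finset.mem_filter.1 hp).2.ne_zero) (by positivity))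
    · calc ∏ p ∈ S, p ^ n.factorial.factorization p
          = ∏ p ∈ S.filter (fun p => p ∈ n.factorial.primeFactors),
              p ^ n.factorial.factorization p := by
            refine (Finset.prod_filter_of_ne fun p hp hne => ?_).symm
            rw [← Nat.support_factorization, Finsupp.mem_support_iff]
            intro h0
            exact hne (by rw [h0, pow_zero])
        _ ∣ ∏ p ∈ n.factorial.primeFactors, p ^ n.factorial.factorization p :=
            Finset.prod_dvd_prod_of_subset _ _ _ fun p hp => (Finset.mem_filter.1 hp).2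
        _ = n.factorial := prod_primeFactors_pow n.factorial_ne_zero
  calc idx = ∏ p ∈ idx.primeFactors, p ^ idx.factorization p :=
        (prod_primeFactors_pow hidx0).symm
    _ = (∏ p ∈ idx.primeFactors.filter (fun p => p ∈ S), p ^ idx.factorization p) *
        ∏ p ∈ idx.primeFactors.filter (fun p => p ∉ S), p ^ idx.factorization p :=
        (Finset.prod_filter_mul_prod_filter_not _ _ _).symm
    _ ≤ n.factorial * (12 ^ n) ^ S.card * 12 ^ n := Nat.mul_le_mul hsm hbig
    _ = _ := by rw [hScard, mul_assoc, ← pow_mul, ← pow_add, Nat.mul_add, mul_one]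

end Cfsg.Agent.H80.Blichfeldt
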