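import Mathlib.Algebra.Algebra.Operations
import Mathlib.LinearAlgebra.Dimension.Finrank
import Mathlib.LinearAlgebra.FiniteDimensional.Lemmas
import Mathlib.LinearAlgebra.FreeModule.Finite.Basic
import Mathlib.LinearAlgebra.Dual.Lemmas
import Mathlib.Algebra.Algebra.Subalgebra.Lattice
import Mathlib.Tactic.Ring
import Mathlib.Tactic.LinearCombination
import Mathlib.Tactic.FieldSimp

/-!
A split local symmetric algebra, sitting as a corner inside an algebra, in which the commutators have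
codimension at most four is commutative (Külshammer).
-/

namespace Cfsg.Agent.H80.LocalSym

variable {k R : Type*} [Field k] [Ring R] [Algebra k R]

/-- The additive commutators of a submodule. -/
def comm (J : Submodule k R) : Submodule k R :=
  Submodule.span k {z | ∃ a ∈ J, ∃ b ∈ J, z = a * b - b * a}

theorem comm_le_sq (J : Submodule k R) : comm J ≤ J ^ 2 := by
  refine Submodule.span_le.2 ?_
  rintro _ ⟨a, ha, b, hb, rfl⟩
  rw [pow_two]
  exact sub_mem (Submodule.mul_mem_mul ha hb) (Submodule.mul_mem_mul hb ha)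

theorem pow_antitone {J : Submodule k R} (h : J * J ≤ J) {n m : ℕ} (hn : 1 ≤ n)
    (hnm : n ≤ m) : J ^ m ≤ J ^ n := by
  obtain ⟨n, rfl⟩ := Nat.exists_eq_add_of_le' hn
  have hstep : ∀ r, J ^ (r + 2) ≤ J ^ (r + 1) := fun r => by
    rw [pow_succ, pow_succ, mul_assoc]
    exact mul_le_mul' le_rfl h
  induction hnm with
  | refl => exact le_rfl
  | @step m hm ih =>
    refine le_trans ?_ ih
    obtain ⟨r, rfl⟩ := Nat.exists_eq_add_of_le' (le_trans (Nat.le_add_left 1 n) hm)
    exact hstep r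

/-- One generator modulo the square: commutative. -/
theorem commute_of_one_generator {J : Submodule k R} (hJJ : J * J ≤ J) (x : R) (hx : x ∈ J)
    (hgen : J ≤ Submodule.span k {x} ⊔ J ^ 2) {N : ℕ} (hN : J ^ N = ⊥) :
    ∀ a ∈ J, ∀ b ∈ J, a * b = b * a := by
  have hxJ : Submodule.span k {x} ≤ J := (Submodule.span_singleton_le_iff_mem ..).2 hx
  have hstep : ∀ n, J ^ (n + 1) ≤ Submodule.span k {x ^ (n + 1)} ⊔ J ^ (n + 2) := by
    intro n
    induction n with
    | zero => rw [pow_one, pow_one]; exact hgen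
    | succ n ih =>
      have hxn : Submodule.span k {x ^ (n + 1)} ≤ J ^ (n + 1) :=
        (Submodule.span_singleton_le_iff_mem ..).2 (Submodule.pow_mem_pow J hx (n + 1))
      rw [pow_succ J (n + 1)]
      refine (mul_le_mul' ih hgen).trans ?_
      rw [Submodule.sup_mul, Submodule.mul_sup, Submodule.mul_sup, Submodule.span_mul_span,
        Set.singleton_mul_singleton, ← pow_succ]
      refine sup_le (sup_le le_sup_left (le_sup_of_le_right ?_))
        (le_sup_of_le_right (sup_le ?_ ?_))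
      · exact (mul_le_mul' hxn le_rfl).trans (le_of_eq (pow_add J (n + 1) 2).symm)
      · exact (mul_le_mul' le_rfl hxJ).trans (le_of_eq (pow_succ J (n + 2)).symm)
      · exact (le_of_eq (pow_add J (n + 2) 2).symm).trans (pow_antitone hJJ (by omega) (by omega))
  have hall : ∀ n, J ≤ Subalgebra.toSubmodule (Algebra.adjoin k {x}) ⊔ J ^ (n + 1) := by
    intro n
    induction n with
    | zero => rw [pow_one]; exact le_sup_right
    | succ n ih =>
      refine ih.trans (sup_le le_sup_left ((hstep n).trans (sup_le_sup_right ?_ _)))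
      exact (Submodule.span_singleton_le_iff_mem ..).2
        (pow_mem (Algebra.self_mem_adjoin_singleton k x) _)
  have hA : J ≤ Subalgebra.toSubmodule (Algebra.adjoin k {x}) := by
    have h := hall N
    rwa [pow_succ, hN, Submodule.bot_mul, sup_bot_eq] at h
  intro a ha b hb
  exact congrArg Subtype.val (mul_comm (⟨a, hA ha⟩ : Algebra.adjoin k ({x} : Set R)) ⟨b, hA hb⟩)

/-- The bilinear identity forces symmetry. -/
theorem symm_of_identity {V : Type*} (B : V → V → k) (L R₀ : V → k)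
    (h : ∀ u v w, B u v * R₀ w = B v w * L u) {u₀ : V} (hu₀ : L u₀ ≠ 0) {w₀ : V}
    (hw₀ : R₀ w₀ ≠ 0) (x y : V) : B x y = B y x := by
  set g : V → k := fun v => B u₀ v / L u₀ with hg
  have hB : ∀ v w, B v w = g v * R₀ w := fun v w => by
    have := h u₀ v w
    rw [hg]
    field_simp
    linear_combination -this
  have hstar : ∀ u v, g u * R₀ v = g v * L u := fun u v => by
    have := h u v w₀
    rw [hB u v, hB v w₀] at this
    exact mul_right_cancel₀ hw₀ (by linear_combination this)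
  rw [hB, hB]
  by_cases hv : ∃ v, g v ≠ 0
  · obtain ⟨v, hv⟩ := hv
    have hRv : ∀ w, R₀ w * g v = g w * R₀ v := fun w => by
      have e1 := hstar v w
      have e2 := hstar w v
      have e3 := hstar v v
      have e4 : R₀ v = L v := mul_left_cancel₀ hv e3
      rw [← e4] at e1
      linear_combination e1
    refine mul_right_cancel₀ hv ?_
    calc g x * R₀ y * g v = g x * (R₀ y * g v) := by ring
      _ = g y * (R₀ x * g v) := by rw [hRv, hRv]; ring
      _ = _ := by ring
  · push Not at hv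
    rw [hv, hv, zero_mul, zero_mul]

variable [FiniteDimensional k R]

omit [FiniteDimensional k R] in
theorem finrank_span_singleton_le (x : R) :
    Module.finrank k (Submodule.span k ({x} : Set R)) ≤ 1 := by
  by_cases hx : x = 0
  · rw [hx, Submodule.span_zero_singleton, finrank_bot]; exact Nat.zero_le _
  · exact (finrank_span_singleton hx).le

theorem exists_extend {S J : Submodule k R} (h : ¬ J ≤ S) :
    ∃ x ∈ J, Module.finrank k S + 1 ≤ Module.finrank k (S ⊔ Submodule.span k {x} : Submodule k R) := by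
  obtain ⟨x, hx, hxS⟩ := SetLike.not_le_iff_exists.1 h
  exact ⟨x, hx, Submodule.finrank_lt_finrank_of_lt (lt_of_le_not_ge le_sup_left fun h' =>
    hxS ((sup_le_iff.1 (le_refl (S ⊔ Submodule.span k {x}))).2.trans h'
      (Submodule.mem_span_singleton_self x)))⟩

/-- The theorem. -/
theorem commute_of_finrank_le (J : Submodule k R) (hJJ : J * J ≤ J) {N : ℕ} (hN : J ^ N = ⊥)
    (t : R →ₗ[k] k) (hsym : ∀ a ∈ J, ∀ b ∈ J, t (a * b) = t (b * a))
    (hnd : ∀ a ∈ J, t a = 0 → (∀ b ∈ J, t (a * b) = 0) → a = 0)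
    (hdim : Module.finrank k J + 1 ≤ Module.finrank k (comm J) + 4) :
    ∀ a ∈ J, ∀ b ∈ J, a * b = b * a := by
  classical
  by_contra hcon
  push Not at hcon
  obtain ⟨a₀, ha₀, b₀, hb₀, hab⟩ := hcon
  set K := comm J with hK
  have hKne : K ≠ ⊥ := fun h => hab (sub_eq_zero.1 ((Submodule.eq_bot_iff _).1 h _
    (Submodule.subset_span ⟨a₀, ha₀, b₀, hb₀, rfl⟩)))
  have hex : ∃ n, J ^ (n + 1) = ⊥ := ⟨N, by rw [pow_succ, hN, Submodule.bot_mul]⟩
  set m := Nat.find hex with hm
  have hmbot : J ^ (m + 1) = ⊥ := Nat.find_spec hex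
  have hm2 : 2 ≤ m := by
    by_contra h
    refine hKne (eq_bot_iff.2 ((comm_le_sq J).trans ?_))
    rw [← hmbot]
    exact pow_antitone hJJ (by omega) (by omega)
  have hmne : J ^ m ≠ ⊥ := by
    have := Nat.find_min hex (m := m - 1) (by omega)
    rwa [show m - 1 + 1 = m by omega] at this
  have hJmJ : J ^ m ≤ J := (pow_antitone hJJ le_rfl (by omega)).trans (pow_one J).le
  -- the socle
  have hsoc : ∀ z ∈ J ^ m, t z = 0 → z = 0 := fun z hz htz => hnd z (hJmJ hz) htz fun b hb => by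
    have h : z * b ∈ J ^ (m + 1) := by rw [pow_succ]; exact Submodule.mul_mem_mul hz hb
    rw [hmbot, Submodule.mem_bot] at h
    rw [h, map_zero]
  have hKt : ∀ z ∈ K, t z = 0 := fun z hz => by
    induction hz using Submodule.span_induction with
    | mem z hz =>
      obtain ⟨a, ha, b, hb, rfl⟩ := hz
      rw [map_sub, hsym a ha b hb, sub_self]
    | zero => exact map_zero t
    | add x y _ _ hx hy => rw [map_add, hx, hy, add_zero]
    | smul r x _ hx => rw [map_smul, hx, smul_zero]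
  have hKS : K ⊓ J ^ m = ⊥ := (Submodule.eq_bot_iff _).2 fun z hz => hsoc z hz.2 (hKt z hz.1)
  have hKS2 : K ⊔ J ^ m ≤ J ^ 2 := sup_le (comm_le_sq J) (pow_antitone hJJ (by omega) hm2)
  have hSpos : 1 ≤ Module.finrank k (J ^ m : Submodule k R) :=
    Submodule.one_le_finrank_iff.2 hmne
  have hsum := Submodule.finrank_sup_add_finrank_inf_eq K (J ^ m)
  rw [hKS, finrank_bot, add_zero] at hsum
  have hle := Submodule.finrank_mono hKS2
  have hK3 : ∀ x ∈ J, ∀ y ∈ J, J ≤ Submodule.span k {x} ⊔ Submodule.span k {y} ⊔ J ^ 2 →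
      K ≤ Submodule.span k {x * y - y * x} ⊔ J ^ 3 := by
    intro x hx y hy hgen
    refine Submodule.span_le.2 ?_
    rintro _ ⟨a, ha, b, hb, rfl⟩
    obtain ⟨a1, ha1, s, hs, rfl⟩ := Submodule.mem_sup.1 (hgen ha)
    obtain ⟨b1, hb1, s', hs', rfl⟩ := Submodule.mem_sup.1 (hgen hb)
    obtain ⟨_, hp, _, hq, rfl⟩ := Submodule.mem_sup.1 ha1
    obtain ⟨_, hp', _, hq', rfl⟩ := Submodule.mem_sup.1 hb1
    obtain ⟨α, rfl⟩ := Submodule.mem_span_singleton.1 hp
    obtain ⟨β, rfl⟩ := Submodule.mem_span_singleton.1 hq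
    obtain ⟨α', rfl⟩ := Submodule.mem_span_singleton.1 hp'
    obtain ⟨β', rfl⟩ := Submodule.mem_span_singleton.1 hq'
    set A := α • x + β • y with hA
    set A' := α' • x + β' • y with hA'
    have hAJ : A ∈ J := add_mem (J.smul_mem _ hx) (J.smul_mem _ hy)
    have hA'J : A' ∈ J := add_mem (J.smul_mem _ hx) (J.smul_mem _ hy)
    have h21 : ∀ {p q : R}, p ∈ J ^ 2 → q ∈ J → p * q ∈ J ^ 3 := fun hp hq => by
      rw [pow_succ J 2]; exact Submodule.mul_mem_mul hp hq
    have h12 : ∀ {p q : R}, p ∈ J → q ∈ J ^ 2 → p * q ∈ J ^ 3 := fun hp hq => by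
      rw [pow_succ' J 2]; exact Submodule.mul_mem_mul hp hq
    have hbJ : s' ∈ J := (pow_antitone hJJ le_rfl one_le_two).trans (pow_one J).le hs'
    refine Submodule.mem_sup.2 ⟨(α * β' - β * α') • (x * y - y * x),
      Submodule.smul_mem _ _ (Submodule.mem_span_singleton_self _),
      A * s' - s' * A + (s * A' - A' * s) + (s * s' - s' * s), ?_, ?_⟩
    · exact add_mem (add_mem (sub_mem (h12 hAJ hs') (h21 hs' hAJ))
        (sub_mem (h21 hs hA'J) (h12 hA'J hs)))
        (sub_mem (h21 hs hbJ) (h12 hbJ hs))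
    · simp only [hA, hA', mul_add, add_mul, smul_mul_assoc, mul_smul_comm, smul_add, smul_smul,
        sub_smul, smul_sub]
      rw [mul_comm α' β, mul_comm β' α, mul_comm α' α, mul_comm β' β]
      abel
  -- two generators
  obtain ⟨x, hx, hx1⟩ := exists_extend (S := J ^ 2) (J := J) fun h => hKne <| by
    have hz : ∀ n, J ≤ J ^ (n + 1) := fun n => by
      induction n with
      | zero => rw [pow_one]
      | succ n ih =>
        refine h.trans ?_
        rw [pow_two, pow_succ' J (n + 1)]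
        exact mul_le_mul' le_rfl ih
    exact eq_bot_iff.2 ((comm_le_sq J).trans
      ((pow_antitone hJJ le_rfl one_le_two).trans ((pow_one J).le.trans ((hz m).trans hmbot.le))))
  by_cases hone : J ≤ J ^ 2 ⊔ Submodule.span k {x}
  · exact hab (commute_of_one_generator hJJ x hx (hone.trans (sup_comm _ _).le) hN a₀ ha₀ b₀ hb₀)
  obtain ⟨y, hy, hy1⟩ := exists_extend hone
  have htwo : J ^ 2 ⊔ Submodule.span k {x} ⊔ Submodule.span k {y} ≤ J :=
    sup_le (sup_le ((pow_antitone hJJ le_rfl one_le_two).trans (pow_one J).le)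
      ((Submodule.span_singleton_le_iff_mem ..).2 hx)) ((Submodule.span_singleton_le_iff_mem ..).2 hy)
  have hgen : J ≤ Submodule.span k {x} ⊔ Submodule.span k {y} ⊔ J ^ 2 := by
    refine (Submodule.eq_of_le_of_finrank_le htwo ?_).ge.trans
      (sup_le (sup_le le_sup_right (le_sup_of_le_left le_sup_left)) (le_sup_of_le_left le_sup_right))
    omega
  have hJ2 : J ^ 2 = K ⊔ J ^ m := by
    refine (Submodule.eq_of_le_of_finrank_le hKS2 ?_).symm
    have := Submodule.finrank_mono htwo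
    omega
  have hm3 : 3 ≤ m := by
    by_contra h
    have hm' : m = 2 := by omega
    refine hKne (eq_bot_iff.2 fun z hz => ?_)
    rw [← hKS]
    exact ⟨hz, hm'.symm ▸ comm_le_sq J hz⟩
  set c := x * y - y * x with hc
  have hJ2c : J ^ 2 ≤ Submodule.span k {c} ⊔ J ^ 3 := by
    rw [hJ2]
    exact sup_le (hK3 x hx y hy hgen) (le_sup_of_le_right (pow_antitone hJJ (by omega) hm3))
  have hJ34 : ¬ J ^ 3 ≤ J ^ 4 := fun h => hmne <| by
    have hz : ∀ n, J ^ 3 ≤ J ^ (n + 3) := fun n => by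
      induction n with
      | zero => exact le_rfl
      | succ n ih =>
        refine h.trans ?_
        rw [pow_succ J 3, show n + 1 + 3 = (n + 3) + 1 by omega, pow_succ J (n + 3)]
        exact mul_le_mul' ih le_rfl
    exact eq_bot_iff.2 ((pow_antitone hJJ (by omega) hm3).trans ((hz m).trans
      ((pow_antitone hJJ (by omega) (by omega : m + 1 ≤ m + 3)).trans hmbot.le)))
  obtain ⟨z₀, hz₀, hz₀4⟩ := SetLike.not_le_iff_exists.1 hJ34
  obtain ⟨φ, hφ0, hφ4⟩ := Submodule.exists_dual_map_eq_bot_of_notMem hz₀4 inferInstance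
  have hφ : ∀ z ∈ J ^ 4, φ z = 0 := fun z hz => by
    have : φ z ∈ (J ^ 4).map φ := ⟨z, hz, rfl⟩
    rwa [hφ4, Submodule.mem_bot] at this
  have hBex : ∀ u v : J, ∃ β : k, (u : R) * v - β • c ∈ J ^ 3 := fun u v => by
    obtain ⟨p, hp, q, hq, hpq⟩ := Submodule.mem_sup.1
      (hJ2c ((pow_two J).ge (Submodule.mul_mem_mul u.2 v.2)))
    obtain ⟨β, rfl⟩ := Submodule.mem_span_singleton.1 hp
    exact ⟨β, by rw [← hpq, add_sub_cancel_left]; exact hq⟩
  choose β hβ using hBex
  have hl : ∀ u v w : J, φ ((u : R) * v * w) = β u v * φ (c * w) := fun u v w => by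
    have h : φ (((u : R) * v - β u v • c) * w) = 0 :=
      hφ _ (by rw [pow_succ J 3]; exact Submodule.mul_mem_mul (hβ u v) w.2)
    rwa [sub_mul, smul_mul_assoc, map_sub, map_smul, smul_eq_mul, sub_eq_zero] at h
  have hr : ∀ u v w : J, φ ((u : R) * v * w) = β v w * φ ((u : R) * c) := fun u v w => by
    have h : φ ((u : R) * ((v : R) * w - β v w • c)) = 0 :=
      hφ _ (by rw [pow_succ' J 3]; exact Submodule.mul_mem_mul u.2 (hβ v w))
    rwa [mul_sub, mul_smul_comm, map_sub, map_smul, smul_eq_mul, sub_eq_zero, ← mul_assoc] at h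
  have hid : ∀ u v w : J, β u v * φ (c * w) = β v w * φ ((u : R) * c) := fun u v w =>
    (hl u v w).symm.trans (hr u v w)
  obtain ⟨u₀, hu₀⟩ : ∃ u : J, φ ((u : R) * c) ≠ 0 := by
    by_contra hno
    push Not at hno
    refine hφ0 ?_
    have h : J ^ 3 ≤ LinearMap.ker φ := by
      rw [pow_succ' J 2]
      refine Submodule.mul_le.2 fun u hu v hv => ?_
      obtain ⟨p, hp, q, hq, rfl⟩ := Submodule.mem_sup.1 (hJ2c hv)
      obtain ⟨r, rfl⟩ := Submodule.mem_span_singleton.1 hp
      rw [LinearMap.mem_ker, mul_add, map_add, mul_smul_comm, map_smul, hno ⟨u, hu⟩, smul_zero,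
        zero_add, hφ _ (by rw [pow_succ' J 3]; exact Submodule.mul_mem_mul hu hq)]
    exact LinearMap.mem_ker.1 (h hz₀)
  obtain ⟨w₀, hw₀⟩ : ∃ w : J, φ (c * w) ≠ 0 := by
    by_contra hno
    push Not at hno
    refine hu₀ ?_
    rw [hc, mul_sub, map_sub, ← mul_assoc, ← mul_assoc, hl u₀ ⟨x, hx⟩ ⟨y, hy⟩,
      hl u₀ ⟨y, hy⟩ ⟨x, hx⟩, hno, hno]
    ring
  have hsymB := symm_of_identity β (fun u => φ ((u : R) * c)) (fun w => φ (c * w)) hid hu₀ hw₀
    ⟨x, hx⟩ ⟨y, hy⟩
  refine hw₀ ?_
  rw [hc, sub_mul, map_sub, show φ (x * y * w₀) = _ from hl ⟨x, hx⟩ ⟨y, hy⟩ w₀,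
    show φ (y * x * w₀) = _ from hl ⟨y, hy⟩ ⟨x, hx⟩ w₀, hsymB, sub_self]

end Cfsg.Agent.H80.LocalSym
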