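import Cfsg.Agent.H80.Glauberman
import Mathlib.LinearAlgebra.Dimension.Constructions
import Mathlib.LinearAlgebra.FiniteDimensional.Lemmas
import Mathlib.LinearAlgebra.Trace
import Mathlib.LinearAlgebra.Matrix.ToLin
import Mathlib.LinearAlgebra.Matrix.Rank
import Mathlib.Data.ZMod.Basic

/-!
# Central idempotents of least rank in characteristic `p`

A central idempotent `ε` of `k[G]`, `k` a field of characteristic `p`, whose coefficients vanish
off the elements with centralizer `p`-part at most `p^d`, and which generates a summand of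
dimension at most `|P|^2 / p^d`, gives a transitive permutation module for `P × P`.  Hence any two
Brauer-visible twisted diagonals are conjugate under `P × P`: fusion is controlled by `P`.
-/

set_option linter.style.haveILetI false

open Matrix

namespace Cfsg.Agent.H80.MinimalDimension

variable {p : ℕ} [Fact p.Prime]

/-- A nonzero space of functions stable under a `p`-group contains a nonzero invariant one. -/
theorem exists_fixed {E : Type*} [Group E] [Finite E] (hE : IsPGroup p E) {K : Type*}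
    [CommRing K] [CharP K p] {X : Type*} [MulAction E X] (V : Submodule K (X → K))
    (hV : ∀ (e : E), ∀ f ∈ V, (fun x => f (e⁻¹ • x)) ∈ V) {f : X → K} (hf : f ∈ V) (hf0 : f ≠ 0) :
    ∃ v ∈ V, v ≠ 0 ∧ ∀ (e : E) (x : X), v (e • x) = v x := by
  classical
  cases nonempty_fintype E
  let φ : ZMod p →+* K := ZMod.castHom dvd_rfl K
  let Φ : (E → ZMod p) →+ (X → K) :=
    { toFun := fun c x => ∑ e : E, φ (c e) * f (e⁻¹ • x)
      map_zero' := by ext; simp
      map_add' := fun c d => by ext; simp [add_mul, Finset.sum_add_distrib] }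
  have hΦ : ∀ c x, Φ c x = ∑ e : E, φ (c e) * f (e⁻¹ • x) := fun _ _ => rfl
  have hshift : ∀ (s : E) (c : E → ZMod p),
      Φ (fun e => c (s⁻¹ * e)) = fun x => Φ c (s⁻¹ • x) := by
    intro s c
    funext x
    rw [hΦ, hΦ, ← Equiv.sum_comp (Equiv.mulLeft s)]
    refine Finset.sum_congr rfl fun e _ => ?_
    simp [mul_smul]
  let W : AddSubgroup (X → K) := Φ.range
  haveI : Finite W := Finite.of_surjective Φ.rangeRestrict Φ.rangeRestrict_surjective
  have hmem : ∀ (s : E) (w : W), (fun x => (w : X → K) (s⁻¹ • x)) ∈ W := by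
    rintro s ⟨w, c, rfl⟩
    exact ⟨_, hshift s c⟩
  letI : MulAction E W :=
    { smul := fun s w => ⟨_, hmem s w⟩
      one_smul := fun w => Subtype.ext
        (show (fun x => (w : X → K) ((1 : E)⁻¹ • x)) = (w : X → K) by simp)
      mul_smul := fun s t w => Subtype.ext
        (show (fun x => (w : X → K) ((s * t)⁻¹ • x)) =
          (fun x => (w : X → K) (t⁻¹ • s⁻¹ • x)) by simp [mul_smul]) }
  have hfW : f ∈ W := by
    refine ⟨Pi.single 1 1, ?_⟩
    funext x
    rw [hΦ, Finset.sum_eq_single (1 : E)]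
    · simp
    · intro u _ hu; simp [hu]
    · simp
  have hpW : ∀ v : X → K, p • v = 0 := by
    intro v
    rw [← Nat.cast_smul_eq_nsmul K, CharP.cast_eq_zero, zero_smul]
  have hdvd : p ∣ Nat.card W := by
    have hord : addOrderOf (⟨f, hfW⟩ : W) = p :=
      addOrderOf_eq_prime (Subtype.ext (hpW f)) fun h => hf0 (congrArg Subtype.val h)
    exact hord ▸ addOrderOf_dvd_natCard _
  have h0 : (0 : W) ∈ MulAction.fixedPoints E W := fun t => Subtype.ext rfl
  obtain ⟨⟨v, hv⟩, hfix, hv0⟩ :=
    hE.exists_fixed_point_of_prime_dvd_card_of_fixed_point W hdvd h0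
  refine ⟨v, ?_, fun h => hv0 (Subtype.ext h.symm), fun e x => ?_⟩
  · obtain ⟨c, rfl⟩ := hv
    have : Φ c = ∑ e : E, φ (c e) • fun x => f (e⁻¹ • x) := by
      funext x
      simp [hΦ, Finset.sum_apply]
    rw [this]
    exact V.sum_mem fun e _ => V.smul_mem _ (hV e f hf)
  · have h1 : (fun y => v (e⁻¹⁻¹ • y)) = v := congrArg Subtype.val (hfix e⁻¹)
    simpa using congrFun h1 x

variable {G : Type*} [Group G] {K : Type*} [Field K] [CharP K p]

/-- `P × P` acts on `G` by left and right multiplication. -/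
@[reducible] def biAction (P : Subgroup G) : MulAction (P × P) G where
  smul e g := e.1 * g * (e.2 : G)⁻¹
  one_smul g := show ((1 : P) : G) * g * ((1 : P) : G)⁻¹ = g by simp
  mul_smul e e' g := show ((e.1 * e'.1 : P) : G) * g * ((e.2 * e'.2 : P) : G)⁻¹ =
    e.1 * (e'.1 * g * (e'.2 : G)⁻¹) * (e.2 : G)⁻¹ by simp [mul_assoc]

/-- Right multiplication by `ε` on functions on `G`. -/
noncomputable def rightMul [Fintype G] (ε : G → K) : (G → K) →ₗ[K] (G → K) :=
  Matrix.mulVecLin (Matrix.of fun h y => ε (y⁻¹ * h))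

theorem rightMul_apply [Fintype G] (ε : G → K) (f : G → K) (h : G) :
    rightMul ε f h = ∑ y, f y * ε (y⁻¹ * h) := by
  simp only [rightMul, Matrix.mulVecLin_apply, Matrix.mulVec, dotProduct, Matrix.of_apply]
  exact Finset.sum_congr rfl fun y _ => mul_comm _ _

theorem rightMul_idem [Fintype G] {ε : G → K} (hidem : ∀ h, ∑ u, ε u * ε (u⁻¹ * h) = ε h)
    (f : G → K) : rightMul ε (rightMul ε f) = rightMul ε f := by
  funext h
  simp only [rightMul_apply, Finset.sum_mul]
  rw [Finset.sum_comm]
  refine Finset.sum_congr rfl fun y _ => ?_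
  rw [← hidem (y⁻¹ * h), Finset.mul_sum]
  refine Fintype.sum_equiv (Equiv.mulLeft y⁻¹) _ _ fun u => ?_
  simp [mul_assoc]

/-- Fusion of subgroups visible to an idempotent of least rank is controlled by `P`. -/
theorem exists_conj_of_minimal [Fintype G] {ε : G → K}
    (hconj : ∀ g h, ε (g * h * g⁻¹) = ε h)
    (hidem : ∀ h, ∑ u, ε u * ε (u⁻¹ * h) = ε h) {a d : ℕ} {P : Subgroup G}
    (hPa : Nat.card P = p ^ a)
    (hsupp : ∀ (R : Subgroup G) (h : G), IsPGroup p R → R ≤ Subgroup.centralizer ({h} : Set G) →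
      ε h ≠ 0 → Nat.card R ≤ p ^ d)
    (hrank : Module.finrank K (LinearMap.range (rightMul ε)) ≤ p ^ (2 * a - d))
    {D : Subgroup G} (hDP : D ≤ P) (hDd : Nat.card D = p ^ d) {g : G}
    (hgD : g ∈ Subgroup.centralizer (D : Set G)) (hg : ε g ≠ 0)
    {Q : Subgroup G} (hQP : Q ≤ P) {x : G} (hxQ : ∀ q ∈ Q, x * q * x⁻¹ ∈ P)
    {c : G} (hcQ : c ∈ Subgroup.centralizer (Q : Set G)) (hc : ε c ≠ 0) :
    ∃ w ∈ P, ∀ q ∈ Q, x * q * x⁻¹ = w * q * w⁻¹ := by
  classical
  have hp : p.Prime := Fact.out
  letI := biAction P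
  have hsmul : ∀ (e : P × P) (y : G), e • y = e.1 * y * (e.2 : G)⁻¹ := fun _ _ => rfl
  have hPp : IsPGroup p P := IsPGroup.of_card hPa
  have hE : IsPGroup p (P × P) := IsPGroup.of_card (n := a + a) (by
    rw [Nat.card_prod, hPa, pow_add])
  have hA : ∀ (e : P × P) (y h : G), ε ((e • y)⁻¹ * (e • h)) = ε (y⁻¹ * h) := by
    intro e y h
    rw [hsmul, hsmul, ← hconj (e.2 : G) (y⁻¹ * h)]
    congr 1
    group
  -- a big stabilizer kills the coefficient
  have hbig : ∀ (S : Subgroup (P × P)) (y h : G), (∀ s ∈ S, s • y = y) → (∀ s ∈ S, s • h = h) →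
      p ^ d < Nat.card S → ε (y⁻¹ * h) = 0 := by
    intro S y h hy hh hlt
    by_contra hne
    let R : Subgroup G := S.map (P.subtype.comp (MonoidHom.snd P P))
    have hinj : Function.Injective (fun s : S => ((s : P × P).2 : G)) := by
      intro s t hst
      have hb : (s : P × P).2 = (t : P × P).2 := Subtype.ext hst
      have hs := hy _ s.2
      have ht := hy _ t.2
      rw [hsmul] at hs ht
      rw [hb] at hs
      have : ((s : P × P).1 : G) = ((t : P × P).1 : G) :=
        mul_right_cancel (mul_right_cancel (hs.trans ht.symm))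
      exact Subtype.ext (Prod.ext (Subtype.ext this) hb)
    have hcard : Nat.card S ≤ Nat.card R := by
      refine Nat.card_le_card_of_injective
        (fun s : S => (⟨((s : P × P).2 : G), (s : P × P), s.2, rfl⟩ : R)) fun s t h => ?_
      exact hinj (Subtype.ext_iff.1 h :)
    have hR : IsPGroup p R := hPp.to_le (by
      rintro _ ⟨s, -, rfl⟩
      exact s.2.2)
    have hRc : R ≤ Subgroup.centralizer ({y⁻¹ * h} : Set G) := by
      rintro _ ⟨s, hs, rfl⟩
      rw [Subgroup.mem_centralizer_singleton_iff]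
      have h1 := hy s hs
      have h2 := hh s hs
      rw [hsmul, mul_inv_eq_iff_eq_mul] at h1 h2
      show (s.2 : G) * (y⁻¹ * h) = y⁻¹ * h * s.2
      have h3 : (s.1 : G) = y * s.2 * y⁻¹ := by rw [← h1, mul_inv_cancel_right]
      rw [h3] at h2
      rw [mul_assoc y⁻¹, ← h2]
      group
    exact absurd ((hcard.trans (hsupp R _ hR hRc hne))) (not_le.2 hlt)
  -- equivariance
  have hequiv : ∀ (e : P × P) (f : G → K) (h : G),
      rightMul ε (fun y => f (e • y)) h = rightMul ε f (e • h) := by
    intro e f h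
    rw [rightMul_apply, rightMul_apply]
    refine Fintype.sum_equiv (MulAction.toPerm e) _ _ fun y => ?_
    simp [hA e y h]
  set W := LinearMap.range (rightMul ε) with hW
  have hWinv : ∀ (e : P × P), ∀ f ∈ W, (fun y => f (e⁻¹ • y)) ∈ W := by
    rintro e _ ⟨f, rfl⟩
    exact ⟨fun y => f (e⁻¹ • y), funext fun h => hequiv e⁻¹ f h⟩
  have hεW : ε ∈ W := ⟨Pi.single 1 1, funext fun h => by
    rw [rightMul_apply, Finset.sum_eq_single (1 : G)]
    · simp
    · intro y _ hy; simp [hy]
    · simp⟩
  obtain ⟨v, hvW, hv0, hvinv⟩ := exists_fixed hE W hWinv hεW (fun h => hg (congrFun h g))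
  have hvπ : rightMul ε v = v := by
    obtain ⟨f, rfl⟩ := hvW
    exact rightMul_idem hidem f
  -- invariant functions vanish at the points with a big stabilizer
  have hvbig : ∀ h : G, p ^ d < Nat.card (MulAction.stabilizer (P × P) h) → v h = 0 := by
    intro h hlt
    rw [← hvπ, rightMul_apply]
    rw [sum_eq_sum_fixed (P := MulAction.stabilizer (P × P) h) (hE.to_subgroup _) _
      (fun s y => ?_)]
    · refine Finset.sum_eq_zero fun y hy => ?_
      rw [Finset.mem_filter] at hy
      rw [hbig _ y h (fun s hs => hy.2 ⟨s, hs⟩) (fun s hs => hs) hlt, mul_zero]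
    · show v ((s : P × P) • y) * ε (((s : P × P) • y)⁻¹ * h) = v y * ε (y⁻¹ * h)
      rw [hvinv]
      have hsh : (s : P × P) • h = h := s.2
      have hε := hA (s : P × P) y h
      rw [hsh] at hε
      rw [hε]
  -- an orbit with small stabilizer not killed
  obtain ⟨ω, hω⟩ : ∃ ω : G, ¬ rightMul ε ((MulAction.orbit (P × P) ω).indicator v) = 0 := by
    by_contra hall
    push Not at hall
    apply hv0
    rw [← hvπ]
    haveI : Fintype (MulAction.orbitRel.Quotient (P × P) G) := Fintype.ofFinite _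
    have hsum : v = ∑ O : MulAction.orbitRel.Quotient (P × P) G,
        (MulAction.orbit (P × P) O.out).indicator v := by
      funext y
      rw [Finset.sum_apply, Finset.sum_eq_single (Quotient.mk (MulAction.orbitRel (P × P) G) y)]
      · rw [Set.indicator_of_mem]
        exact MulAction.orbitRel_apply.1 ((MulAction.orbitRel (P × P) G).symm (Quotient.mk_out (s := MulAction.orbitRel (P × P) G) y))
      · intro O _ hO
        rw [Set.indicator_of_notMem]
        intro hy
        apply hO
        rw [← O.out_eq]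
        exact Quotient.sound ((MulAction.orbitRel (P × P) G).symm (MulAction.orbitRel_apply.2 hy))
      · simp
    rw [hsum, map_sum]
    exact Finset.sum_eq_zero fun O _ => hall _
  set O := MulAction.orbit (P × P) ω with hOdef
  have hOmem : ∀ (e : P × P) (y : G), e • y ∈ O ↔ y ∈ O := fun e y => by
    simp only [hOdef, ← MulAction.orbit_eq_iff, MulAction.orbit_smul]
  have hstabω : Nat.card (MulAction.stabilizer (P × P) ω) ≤ p ^ d := by
    by_contra hlt
    apply hω
    have hzero : O.indicator v = 0 := by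
      funext y
      by_cases hy : y ∈ O
      · rw [Set.indicator_of_mem hy]
        obtain ⟨e, rfl⟩ := hy
        rw [hvinv]
        exact hvbig ω (not_le.1 hlt)
      · exact Set.indicator_of_notMem hy _
    rw [hzero, map_zero]
  have hvO : rightMul ε (O.indicator 1) ≠ 0 := by
    intro h0
    apply hω
    have : O.indicator v = v ω • O.indicator (1 : G → K) := by
      funext y
      by_cases hy : y ∈ O
      · obtain ⟨e, rfl⟩ := hy
        simp [Set.indicator_of_mem ((hOmem e ω).2 (MulAction.mem_orbit_self ω)), hvinv]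
      · simp [Set.indicator_of_notMem hy]
    rw [this, map_smul, h0, smul_zero]
  -- the functions supported on the orbit
  let U : Submodule K (G → K) :=
    { carrier := {f | ∀ y, y ∉ O → f y = 0}
      add_mem' := fun hf hh y hy => by simp [hf y hy, hh y hy]
      zero_mem' := fun _ _ => rfl
      smul_mem' := fun k f hf y hy => by simp [hf y hy] }
  let φ : U →ₗ[K] (G → K) := (rightMul ε).comp U.subtype
  have hφinj : Function.Injective φ := by
    rw [← LinearMap.ker_eq_bot, Submodule.eq_bot_iff]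
    intro u hu
    by_contra hu0
    let V : Submodule K (G → K) := U ⊓ LinearMap.ker (rightMul ε)
    have hV : ∀ (e : P × P), ∀ f ∈ V, (fun y => f (e⁻¹ • y)) ∈ V := by
      rintro e f ⟨hf1, hf2⟩
      refine ⟨fun y hy => hf1 _ fun h => hy ((hOmem e⁻¹ y).1 h), ?_⟩
      rw [SetLike.mem_coe, LinearMap.mem_ker] at hf2 ⊢
      funext h
      rw [hequiv, hf2]
      rfl
    obtain ⟨f, ⟨hf1, hf2⟩, hf0, hfinv⟩ :=
      exists_fixed hE V hV (f := (u : G → K)) ⟨u.2, hu⟩ (fun h => hu0 (Subtype.ext h))
    have hf : f = f ω • O.indicator (1 : G → K) := by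
      funext y
      by_cases hy : y ∈ O
      · obtain ⟨e, rfl⟩ := hy
        simp [Set.indicator_of_mem ((hOmem e ω).2 (MulAction.mem_orbit_self ω)), hfinv]
      · simp [Set.indicator_of_notMem hy, hf1 y hy]
    have hfω : f ω ≠ 0 := fun h => hf0 (by rw [hf, h, zero_smul])
    apply hvO
    rw [SetLike.mem_coe, LinearMap.mem_ker, hf, map_smul, smul_eq_zero] at hf2
    exact hf2.resolve_left hfω
  let ψ : (O → K) ≃ₗ[K] U :=
    { toFun := fun f => ⟨fun y => if h : y ∈ O then f ⟨y, h⟩ else 0, fun y hy => dif_neg hy⟩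
      invFun := fun u y => (u : G → K) y
      map_add' := fun f f' => Subtype.ext (funext fun y => by
        by_cases h : y ∈ O <;> simp [h])
      map_smul' := fun k f => Subtype.ext (funext fun y => by
        by_cases h : y ∈ O <;> simp [h])
      left_inv := fun f => funext fun y => dif_pos y.2
      right_inv := fun u => Subtype.ext (funext fun y => by
        by_cases h : y ∈ O
        · simp [h]
        · simp [h, u.2 y h]) }
  have hrangeφ : LinearMap.range φ ≤ W := by
    rintro _ ⟨u, rfl⟩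
    exact ⟨_, rfl⟩
  have hfinU : Module.finrank K (LinearMap.range φ) = Nat.card O := by
    rw [LinearMap.finrank_range_of_inj hφinj, ← ψ.finrank_eq, Module.finrank_fintype_fun_eq_card,
      Nat.card_eq_fintype_card]
  have hprod : Nat.card O * Nat.card (MulAction.stabilizer (P × P) ω) = p ^ (a + a) := by
    rw [← Nat.card_prod, Nat.card_congr (MulAction.orbitProdStabilizerEquivGroup (P × P) ω),
      Nat.card_prod, hPa, pow_add]
  have hda : d ≤ a := by
    have h := Subgroup.card_dvd_of_le hDP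
    rw [hDd, hPa] at h
    exact (Nat.pow_dvd_pow_iff_le_right hp.one_lt).1 h
  have hOge : p ^ (2 * a - d) ≤ Nat.card O := by
    have h2 : p ^ (2 * a - d) * p ^ d = p ^ (a + a) := by rw [← pow_add]; congr 1; omega
    have h3 : p ^ (2 * a - d) * p ^ d ≤ Nat.card O * p ^ d :=
      (h2.trans hprod.symm).le.trans (Nat.mul_le_mul_left _ hstabω)
    exact Nat.le_of_mul_le_mul_right h3 (pow_pos hp.pos _)
  have hWeq : LinearMap.range φ = W :=
    Submodule.eq_of_le_of_finrank_le hrangeφ (hrank.trans (hOge.trans hfinU.ge))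
  have hOle : Nat.card O ≤ p ^ (2 * a - d) := by rw [← hfinU, hWeq]; exact hrank
  have hstab : Nat.card (MulAction.stabilizer (P × P) ω) = p ^ d := by
    have hO : Nat.card O = p ^ (2 * a - d) := le_antisymm hOle hOge
    rw [hO] at hprod
    have h2 : p ^ (2 * a - d) * p ^ d = p ^ (a + a) := by rw [← pow_add]; congr 1; omega
    exact Nat.eq_of_mul_eq_mul_left (pow_pos hp.pos _) (hprod.trans h2.symm)
  -- fixed points of twisted diagonals in the orbit
  have hfixed : ∀ (R : Subgroup G) (t : G) (hR : R ≤ P) (ht : ∀ q ∈ R, t * q * t⁻¹ ∈ P) (s : G),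
      s ∈ Subgroup.centralizer (R : Set G) → ε s ≠ 0 →
      ∃ y ∈ O, ∀ q : R, ((⟨t * q * t⁻¹, ht q q.2⟩, ⟨q, hR q.2⟩) : P × P) • y = y := by
    intro R t hR ht s hs hεs
    let τ : R →* P × P :=
      { toFun := fun q => (⟨t * q * t⁻¹, ht q q.2⟩, ⟨q, hR q.2⟩)
        map_one' := by ext <;> simp
        map_mul' := fun q r => by ext <;> simp [mul_assoc] }
    set w : G → K := rightMul ε (Pi.single t 1) with hw
    have hwval : ∀ h, w h = ε (t⁻¹ * h) := fun h => by
      rw [hw, rightMul_apply, Finset.sum_eq_single t]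
      · simp
      · intro y _ hy; simp [hy]
      · simp
    obtain ⟨u, hu⟩ : w ∈ LinearMap.range φ := by rw [hWeq]; exact ⟨_, rfl⟩
    have htfix : ∀ q : R, τ q • t = t := fun q => by
      rw [hsmul]
      show t * q * t⁻¹ * t * (q : G)⁻¹ = t
      group
    have hwinv : ∀ (q : R) (h : G), w (τ q • h) = w h := fun q h => by
      rw [hwval, hwval]
      conv_lhs => rw [← htfix q]
      rw [hA]
    have huinv : ∀ (q : R) (y : G), (u : G → K) (τ q • y) = (u : G → K) y := by
      intro q
      have hmem : (fun y => (u : G → K) (τ q • y)) ∈ U := fun y hy =>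
        u.2 _ fun h => hy ((hOmem _ y).1 h)
      have h1 : φ ⟨_, hmem⟩ = φ u := by
        funext h
        show rightMul ε (fun y => (u : G → K) (τ q • y)) h = φ u h
        rw [hequiv]
        show φ u (τ q • h) = φ u h
        rw [hu, hwinv]
      exact fun y => congrFun (congrArg Subtype.val (hφinj h1)) y
    have hne : w (t * s) ≠ 0 := by rwa [hwval, inv_mul_cancel_left]
    rw [← hu] at hne
    change rightMul ε (u : G → K) (t * s) ≠ 0 at hne
    rw [rightMul_apply] at hne
    letI : MulAction R G := MulAction.compHom G τ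
    rw [sum_eq_sum_fixed (hPp.to_le hR) _ (fun q y => ?_)] at hne
    · obtain ⟨y, hy, hyne⟩ := Finset.exists_ne_zero_of_sum_ne_zero hne
      rw [Finset.mem_filter] at hy
      exact ⟨y, by_contra fun h => hyne (by rw [u.2 y h, zero_mul]), hy.2⟩
    · show (u : G → K) (τ q • y) * ε ((τ q • y)⁻¹ * (t * s)) = (u : G → K) y * ε (y⁻¹ * (t * s))
      rw [huinv]
      have hts : τ q • (t * s) = t * s := by
        rw [hsmul]
        show t * q * t⁻¹ * (t * s) * (q : G)⁻¹ = t * s
        have := Subgroup.mem_centralizer_iff.1 hs q q.2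
        calc t * q * t⁻¹ * (t * s) * (q : G)⁻¹ = t * ((q : G) * s) * (q : G)⁻¹ := by group
          _ = t * s := by rw [this]; group
      conv_lhs => rw [← hts]
      rw [hA]
  -- the point fixed by the diagonal of D
  have hD1 : ∀ q ∈ D, (1 : G) * q * (1 : G)⁻¹ ∈ P := fun q hq => by simpa using hDP hq
  obtain ⟨y, hyO, hy⟩ := hfixed D 1 hDP hD1 g hgD hg
  have hstaby : ∀ e : P × P, e • y = y → (e.1 : G) = e.2 ∧ (e.2 : G) ∈ D := by
    intro e he
    have hcardy : Nat.card (MulAction.stabilizer (P × P) y) = p ^ d := by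
      obtain ⟨f, rfl⟩ := hyO
      rw [MulAction.stabilizer_smul_eq_stabilizer_map_conj]
      rw [Subgroup.card_map_of_injective (MulAut.conj f).injective, hstab]
    let δ : D → MulAction.stabilizer (P × P) y := fun q => ⟨_, hy q⟩
    have hδ : Function.Injective δ := fun q r h => by
      have := congrArg (fun z : MulAction.stabilizer (P × P) y => ((z : P × P).2 : G)) h
      exact Subtype.ext this
    have hbij : Function.Bijective δ :=
      (Nat.bijective_iff_injective_and_card δ).2 ⟨hδ, hDd.trans hcardy.symm⟩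
    obtain ⟨q, hq⟩ := hbij.2 ⟨e, he⟩
    have h1 : e = ((δ q : MulAction.stabilizer (P × P) y) : P × P) := by rw [hq]
    rw [h1]
    exact ⟨by simp [δ], q.2⟩
  obtain ⟨z, hzO, hz⟩ := hfixed Q x hQP hxQ c hcQ hc
  obtain ⟨e, he⟩ : ∃ e : P × P, e • y = z := by
    have : MulAction.orbit (P × P) y = O := MulAction.orbit_eq_iff.2 hyO
    exact MulAction.mem_orbit_iff.1 (this.symm ▸ hzO)
  refine ⟨(e.1 : G) * (e.2 : G)⁻¹, P.mul_mem e.1.2 (P.inv_mem e.2.2), fun q hq => ?_⟩
  have h1 := hstaby (e⁻¹ * (⟨x * q * x⁻¹, hxQ q hq⟩, ⟨q, hQP hq⟩) * e) (by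
    rw [mul_smul, mul_smul, he, hz ⟨q, hq⟩, ← he, inv_smul_smul])
  have h2 : ((e.1 : G))⁻¹ * (x * q * x⁻¹) * e.1 = (e.2 : G)⁻¹ * q * e.2 := by simpa using h1.1
  calc x * q * x⁻¹ = e.1 * ((e.1 : G)⁻¹ * (x * q * x⁻¹) * e.1) * (e.1 : G)⁻¹ := by group
    _ = (e.1 : G) * (e.2 : G)⁻¹ * q * ((e.1 : G) * (e.2 : G)⁻¹)⁻¹ := by rw [h2]; group

/-- The rank modulo a maximal ideal of an idempotent matrix is at most its trace. -/
theorem finrank_range_le_of_trace {R : Type*} [CommRing R] (f : R →+* ℂ)
    {I : Ideal R} [I.IsMaximal] (hunit : ∀ r : R, r ∉ I → IsUnit r) {ι : Type*} [Fintype ι]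
    [DecidableEq ι] (A : Matrix ι ι R) (hA : A * A = A) {n : ℕ} (htr : f A.trace = n) :
    Module.finrank (R ⧸ I) (LinearMap.range (A.map (Ideal.Quotient.mk I)).mulVecLin) ≤ n := by
  classical
  letI := Ideal.Quotient.field I
  set π := Ideal.Quotient.mk I with hπ
  set Ā := A.map π with hĀ
  have hĀ2 : Ā * Ā = Ā := by rw [hĀ, ← Matrix.map_mul, hA]
  set W := LinearMap.range Ā.mulVecLin
  set r := Module.finrank (R ⧸ I) W
  let b := Module.finBasis (R ⧸ I) W
  let X : Matrix ι (Fin r) (R ⧸ I) := Matrix.of fun i j => (b j : ι → R ⧸ I) i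
  let Y : Matrix (Fin r) ι (R ⧸ I) :=
    LinearMap.toMatrix' (b.equivFun.toLinearMap.comp Ā.mulVecLin.rangeRestrict)
  have hAX : Ā * X = X := by
    ext i j
    obtain ⟨v, hv⟩ := (b j).2
    rw [Matrix.mulVecLin_apply] at hv
    have h : Ā *ᵥ (b j : ι → R ⧸ I) = b j := by rw [← hv, Matrix.mulVec_mulVec, hĀ2]
    exact congrFun h i
  have hYX : Y * X = 1 := by
    ext l j
    obtain ⟨v, hv⟩ := (b j).2
    have h : Y *ᵥ (b j : ι → R ⧸ I) = Pi.single j 1 := by
      show LinearMap.toMatrix' _ *ᵥ _ = _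
      rw [LinearMap.toMatrix'_mulVec]
      have h1 : Ā.mulVecLin.rangeRestrict (b j : ι → R ⧸ I) = b j := Subtype.ext (by
        show Ā *ᵥ (b j : ι → R ⧸ I) = b j
        rw [← hv, Matrix.mulVecLin_apply, Matrix.mulVec_mulVec, hĀ2])
      rw [LinearMap.comp_apply, h1]
      funext i
      simp [Pi.single_apply, eq_comm]
    have := congrFun h l
    simpa [Matrix.mul_apply, Matrix.mulVec, dotProduct, X, Matrix.one_apply, Pi.single_apply] using this
  choose sX hsX using fun i j => Ideal.Quotient.mk_surjective (X i j)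
  choose sY hsY using fun i j => Ideal.Quotient.mk_surjective (Y i j)
  let X₀ : Matrix ι (Fin r) R := Matrix.of sX
  let Y₀ : Matrix (Fin r) ι R := Matrix.of sY
  have hX₀ : X₀.map π = X := by ext i j; exact hsX i j
  have hY₀ : Y₀.map π = Y := by ext i j; exact hsY i j
  set C := Y₀ * A * X₀ with hC
  have hC1 : C.map π = 1 := by
    rw [hC, Matrix.map_mul, Matrix.map_mul, hX₀, hY₀, Matrix.mul_assoc, ← hĀ, hAX, hYX]
  have hdet : IsUnit C.det := by
    refine hunit _ fun hmem => ?_
    have h1 : π C.det = (π.mapMatrix C).det := RingHom.map_det π C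
    rw [RingHom.mapMatrix_apply, hC1, Matrix.det_one, Ideal.Quotient.eq_zero_iff_mem.2 hmem] at h1
    exact zero_ne_one h1
  set AC := A.map f with hAC
  have hAC2 : AC * AC = AC := by rw [hAC, ← Matrix.map_mul, hA]
  have hrankC : (C.map f).rank = r := by
    rw [Matrix.rank_of_isUnit, Fintype.card_fin]
    rw [Matrix.isUnit_iff_isUnit_det, ← RingHom.mapMatrix_apply, ← RingHom.map_det]
    exact hdet.map f
  have hle : r ≤ AC.rank := by
    rw [← hrankC, hC, Matrix.map_mul, Matrix.map_mul]
    exact (Matrix.rank_mul_le_left _ _).trans (Matrix.rank_mul_le_right _ _)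
  refine hle.trans (le_of_eq ?_)
  have hproj : LinearMap.IsProj (LinearMap.range AC.mulVecLin) AC.mulVecLin :=
    ⟨fun v => ⟨v, rfl⟩, by
      rintro _ ⟨v, rfl⟩
      simp only [Matrix.mulVecLin_apply, Matrix.mulVec_mulVec, hAC2]⟩
  have htrace := hproj.trace
  rw [← Matrix.toLin'_apply', Matrix.trace_toLin'_eq] at htrace
  have : (n : ℂ) = (AC.rank : ℂ) := by
    rw [← htr, AddMonoidHom.map_trace, ← hAC]
    exact htrace
  exact (Nat.cast_injective this).symm

end Cfsg.Agent.H80.MinimalDimension
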