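import Cfsg.Agent.H35.Consequences
import Cfsg.Agent.H83.RegSum
import Cfsg.Agent.H43.Virtual
import Cfsg.Agent.H86.IrrOps

/-!
# The pairing of characters over the p-regular elements, and heights

For `F` a class function, `tilde p F` is `p^a F` on p-regular elements and `0` elsewhere. The
quotient `[tilde p F, ξ] / ξ(1)` is the value of the central character of `ξ` on an integral
central element, so it only depends on the block of `ξ` modulo `M`.
-/

set_option linter.style.haveILetI false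

open scoped ComplexConjugate
open MonoidAlgebra

namespace Cfsg.Agent.H80

open CharBasic BlockBasic

universe u

variable {G : Type u} [Group G] [Finite G] {p : ℕ} {M : Ideal AlgInt}

/-- `p^a F` on p-regular elements, zero elsewhere. -/
noncomputable def tilde (p : ℕ) (F : G → ℂ) : G → ℂ :=
  fun x => if p ∣ orderOf x then (0 : ℂ) else ((p ^ (Nat.card G).factorization p : ℕ) : ℂ) * F x

/-- The p'-part of the group order. -/
noncomputable def pCompl (p : ℕ) (G : Type u) : ℕ := Nat.card G / p ^ (Nat.card G).factorization p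

/-- The element with coefficient `F(x⁻¹)` at p-regular `x`. -/
noncomputable def regElt (p : ℕ) (F : G → ℂ) : MonoidAlgebra ℂ G :=
  ofFun fun x => if p ∣ orderOf x then (0 : ℂ) else F x⁻¹

omit [Finite G] in
theorem isClassFunction_ite {F : G → ℂ} (hF : Cfsg.IsClassFunction G F) :
    Cfsg.IsClassFunction G (fun x => if p ∣ orderOf x then (0 : ℂ) else F x) := by
  intro g h
  have e : orderOf (h * g * h⁻¹) = orderOf g := MulEquiv.orderOf_eq (MulAut.conj h) g
  simp only [e, hF g h]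

omit [Finite G] in
theorem isClassFunction_inv {F : G → ℂ} (hF : Cfsg.IsClassFunction G F) :
    Cfsg.IsClassFunction G (fun x => F x⁻¹) := by
  intro g h
  show F (h * g * h⁻¹)⁻¹ = F g⁻¹
  rw [show (h * g * h⁻¹)⁻¹ = h * g⁻¹ * h⁻¹ by group, hF]

theorem isClassFunction_tilde {F : G → ℂ} (hF : Cfsg.IsClassFunction G F) :
    Cfsg.IsClassFunction G (tilde p F) := by
  intro g h
  have e : orderOf (h * g * h⁻¹) = orderOf g := MulEquiv.orderOf_eq (MulAut.conj h) g
  simp only [tilde, e, hF g h]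

theorem isCentralElt_regElt {F : G → ℂ} (hF : Cfsg.IsClassFunction G F) :
    IsCentralElt (regElt p F) :=
  isCentralElt_ofFun (isClassFunction_ite (isClassFunction_inv hF))

theorem coeff_regElt (F : G → ℂ) (x : G) :
    (regElt p F).coeff x = if p ∣ orderOf x then (0 : ℂ) else F x⁻¹ := coeff_ofFun _ _

theorem isIntElt_regElt (hM : IsPModular p M) {F : G → ℂ} (hF : ∀ x, MemLocalRing M (F x)) :
    IsIntElt M (regElt p F) := by
  intro x
  rw [coeff_regElt]
  split_ifs
  · exact (locRing hM).zero_mem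
  · exact hF _

theorem memLocalRing_apply (hM : IsPModular p M) (χ : Cfsg.IrrCharacter G) (g : G) :
    MemLocalRing M ((χ : G → ℂ) g) := memLocalRing_of_isIntegral hM (isIntegral_apply χ g)

theorem pCompl_ne_zero [hp : Fact p.Prime] : (pCompl p G : ℂ) ≠ 0 := by
  rw [Nat.cast_ne_zero]
  exact fun h => Nat.not_dvd_ordCompl hp.out (Nat.card_pos (α := G)).ne'
    (show p ∣ pCompl p G by rw [h]; exact dvd_zero p)

theorem not_dvd_pCompl [hp : Fact p.Prime] : ¬ p ∣ pCompl p G :=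
  Nat.not_dvd_ordCompl hp.out (Nat.card_pos (α := G)).ne'

theorem card_eq_mul_pCompl [Fact p.Prime] :
    (Nat.card G : ℂ) = ((p ^ (Nat.card G).factorization p : ℕ) : ℂ) * (pCompl p G : ℂ) := by
  rw [← Nat.cast_mul, pCompl, Nat.mul_div_cancel' (Nat.ordProj_dvd _ _)]

variable [Fintype G] [hp : Fact p.Prime]

/-- The inner product as a value of a central character. -/
theorem classInner_tilde (F : G → ℂ) (ξ : Cfsg.IrrCharacter G) :
    Cfsg.classInner (tilde p F) (ξ : G → ℂ) =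
      (pCompl p G : ℂ)⁻¹ * omega (ξ : G → ℂ) (regElt p F) * (ξ : G → ℂ) 1 := by
  have hsum : ∑ g : G, tilde p F g * conj ((ξ : G → ℂ) g) =
      ((p ^ (Nat.card G).factorization p : ℕ) : ℂ) * chiLin (ξ : G → ℂ) (regElt p F) := by
    rw [chiLin, Finset.mul_sum]
    refine Fintype.sum_equiv (Equiv.inv G) _ _ fun g => ?_
    simp only [Equiv.inv_apply, coeff_regElt, orderOf_inv, inv_inv, tilde, conj_apply_eq_inv]
    split_ifs <;> ring
  rw [classInner_def, hsum, omega, card_eq_mul_pCompl (p := p)]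
  have hu := pCompl_ne_zero (p := p) (G := G)
  have h1 := irr_one_ne_zero ξ.2
  have hpa : ((p ^ (Nat.card G).factorization p : ℕ) : ℂ) ≠ 0 :=
    Nat.cast_ne_zero.2 (pow_ne_zero _ hp.out.ne_zero)
  field_simp

/-- `[tilde F, ξ] / ξ(1)`. -/
noncomputable def ratio (p : ℕ) (F : G → ℂ) (ξ : Cfsg.IrrCharacter G) : ℂ :=
  Cfsg.classInner (tilde p F) (ξ : G → ℂ) / (ξ : G → ℂ) 1

theorem ratio_eq (F : G → ℂ) (ξ : Cfsg.IrrCharacter G) :
    ratio p F ξ = (pCompl p G : ℂ)⁻¹ * omega (ξ : G → ℂ) (regElt p F) := by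
  rw [ratio, classInner_tilde, mul_div_cancel_right₀ _ (irr_one_ne_zero ξ.2)]

theorem ratio_mem (hM : IsPModular p M) {F : G → ℂ} (hF : Cfsg.IsClassFunction G F)
    (hFi : ∀ x, MemLocalRing M (F x)) (ξ : Cfsg.IrrCharacter G) :
    MemLocalRing M (ratio p F ξ) := by
  rw [ratio_eq]
  exact memLocalRing_mul hM (memLocalRing_natCast_inv hM not_dvd_pCompl)
    (memLocalRing_omega hM ξ.2 (isCentralElt_regElt hF) (isIntElt_regElt hM hFi))

/-- The ratio is constant on blocks modulo `M`. -/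
theorem ratio_congr (hM : IsPModular p M) {F : G → ℂ} (hF : Cfsg.IsClassFunction G F)
    (hFi : ∀ x, MemLocalRing M (F x)) {ξ ξ' : Cfsg.IrrCharacter G}
    (h : SameBlock M (ξ : G → ℂ) (ξ' : G → ℂ)) :
    MemLocalIdeal M (ratio p F ξ - ratio p F ξ') := by
  rw [ratio_eq, ratio_eq, ← mul_sub]
  exact memLocalIdeal_mul hM (memLocalRing_natCast_inv hM not_dvd_pCompl)
    (omega_congr hM (IsIrr.isClassFunction ξ.2) (IsIrr.isClassFunction ξ'.2) h
      (isCentralElt_regElt hF) (isIntElt_regElt hM hFi))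

/-- The ratio only depends on `F` modulo `M` on p-regular elements. -/
theorem ratio_congr_fun (hM : IsPModular p M) {F F' : G → ℂ} (hF : Cfsg.IsClassFunction G F)
    (hF' : Cfsg.IsClassFunction G F')
    (h : ∀ x, ¬ p ∣ orderOf x → MemLocalIdeal M (F x - F' x)) (ξ : Cfsg.IrrCharacter G) :
    MemLocalIdeal M (ratio p F ξ - ratio p F' ξ) := by
  haveI : Finite (ConjClasses G) := Finite.of_surjective _ ConjClasses.mk_surjective
  haveI : Fintype (ConjClasses G) := Fintype.ofFinite _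
  rw [ratio_eq, ratio_eq, ← mul_sub,
    omega_eq_sum_classes (IsIrr.isClassFunction ξ.2) (isCentralElt_regElt hF),
    omega_eq_sum_classes (IsIrr.isClassFunction ξ.2) (isCentralElt_regElt hF'),
    ← Finset.sum_sub_distrib]
  refine memLocalIdeal_mul hM (memLocalRing_natCast_inv hM not_dvd_pCompl)
    (memLocalIdeal_sum hM _ _ fun C _ => ?_)
  rw [← sub_mul, mul_comm, coeff_regElt, coeff_regElt]
  refine memLocalIdeal_mul hM (memLocalRing_centralChar hM ξ.2 _) ?_
  split_ifs with hc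
  · simpa using memLocalIdeal_zero hM
  · exact h _ (by rwa [orderOf_inv])

theorem classInner_tilde_symm (F F' : G → ℂ) :
    Cfsg.classInner F (tilde p F') = Cfsg.classInner (tilde p F) F' := by
  rw [classInner_def, classInner_def]
  congr 1
  refine Finset.sum_congr rfl fun x _ => ?_
  simp only [tilde]
  split_ifs
  · simp
  · rw [map_mul, Complex.conj_natCast]; ring

theorem exists_int_classInner_tilde (χ ξ : Cfsg.IrrCharacter G) :
    ∃ n : ℤ, Cfsg.classInner (tilde p (χ : G → ℂ)) (ξ : G → ℂ) = n := by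
  classical
  obtain ⟨n, hn⟩ := H83.sum_pRegular_dvd (p := p) (H83.isCharacter_mul (IsIrr.isCharacter χ.2)
    (IsIrr.isCharacter (H86.isIrr_conj ξ.2)))
  refine ⟨n, ?_⟩
  rw [classInner_def]
  have hsum : ∑ g : G, tilde p (χ : G → ℂ) g * conj ((ξ : G → ℂ) g) =
      ((p ^ (Nat.card G).factorization p : ℕ) : ℂ) *
        ∑ x ∈ Finset.univ.filter (fun x : G => Cfsg.IsPRegular p x),
          ((χ : G → ℂ) * fun g => conj ((ξ : G → ℂ) g)) x := by
    rw [Finset.sum_filter, Finset.mul_sum]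
    refine Finset.sum_congr rfl fun g _ => ?_
    by_cases hg : p ∣ orderOf g <;> simp [tilde, Cfsg.IsPRegular, hg, mul_assoc]
  rw [hsum, hn, card_eq_mul_pCompl (p := p)]
  have hu := pCompl_ne_zero (p := p) (G := G)
  have hpa : ((p ^ (Nat.card G).factorization p : ℕ) : ℂ) ≠ 0 :=
    Nat.cast_ne_zero.2 (pow_ne_zero _ hp.out.ne_zero)
  show (((p ^ (Nat.card G).factorization p : ℕ) : ℂ) * (pCompl p G : ℂ))⁻¹ *
    (((p ^ (Nat.card G).factorization p : ℕ) : ℂ) * ((n : ℂ) * (pCompl p G : ℂ))) = n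
  field_simp

/-- The integer `[tilde χ, ξ]`. -/
noncomputable def nn (p : ℕ) [Fact p.Prime] (χ ξ : Cfsg.IrrCharacter G) : ℤ :=
  (exists_int_classInner_tilde (p := p) χ ξ).choose

theorem nn_spec (χ ξ : Cfsg.IrrCharacter G) :
    Cfsg.classInner (tilde p (χ : G → ℂ)) (ξ : G → ℂ) = (nn p χ ξ : ℂ) :=
  (exists_int_classInner_tilde (p := p) χ ξ).choose_spec

theorem nn_comm (χ ξ : Cfsg.IrrCharacter G) : nn p χ ξ = nn p ξ χ := by
  apply Int.cast_injective (α := ℂ)
  rw [← nn_spec, ← classInner_tilde_symm, ← classInner_conj_symm, nn_spec, map_intCast]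

theorem nn_eq_zero (hM : IsPModular p M) {B : Set (Cfsg.IrrCharacter G)} (hB : IsPBlock M B)
    {χ ξ : Cfsg.IrrCharacter G} (hχ : χ ∈ B) (hξ : ξ ∉ B) : nn p χ ξ = 0 := by
  classical
  apply Int.cast_injective (α := ℂ)
  rw [← nn_spec, Int.cast_zero, classInner_def]
  have h := sum_regular_eq_zero hM hB hχ hξ
  rw [Finset.sum_filter] at h
  rw [mul_eq_zero]
  refine Or.inr ?_
  rw [← mul_zero ((p ^ (Nat.card G).factorization p : ℕ) : ℂ), ← h, Finset.mul_sum]
  refine Finset.sum_congr rfl fun g _ => ?_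
  simp only [tilde, ite_not, mul_ite, mul_zero]
  split_ifs <;> ring

theorem tilde_expansion (χ : Cfsg.IrrCharacter G) (x : G) :
    tilde p (χ : G → ℂ) x = ∑ ξ : Cfsg.IrrCharacter G, (nn p χ ξ : ℂ) * (ξ : G → ℂ) x := by
  have h := congrFun (classFunction_expansion (isClassFunction_tilde (p := p)
    (IsIrr.isClassFunction χ.2))) x
  rw [h, Finset.sum_apply]
  exact Finset.sum_congr rfl fun ξ _ => by rw [Pi.smul_apply, smul_eq_mul, nn_spec]

/-- The exponent of `p` in a degree. -/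
noncomputable def degExp (p : ℕ) (χ : Cfsg.IrrCharacter G) : ℕ :=
  (Cfsg.charDegree (χ : G → ℂ)).factorization p

omit [Finite G] [Fintype G] in
/-- Divisibility read off from local integrality of a quotient. -/
theorem pow_dvd_of_memLocalRing (hM : IsPModular p M) {n : ℤ} {d : ℕ} (hd : d ≠ 0)
    (h : MemLocalRing M ((n : ℂ) / (d : ℂ))) : (p : ℤ) ^ d.factorization p ∣ n := by
  have key : ∀ i, i ≤ d.factorization p → (p : ℤ) ^ i ∣ n := by
    intro i
    induction i with
    | zero => simp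
    | succ i ih =>
      intro hi
      obtain ⟨m, hm⟩ := ih (by omega)
      obtain ⟨e, he⟩ : p ^ (i + 1) ∣ d := (pow_dvd_pow p hi).trans (Nat.ordProj_dvd d p)
      have hmm : (m : ℂ) = ((p : ℕ) : ℂ) * ((n : ℂ) / (d : ℂ) * (e : ℂ)) := by
        have he0 : (e : ℂ) ≠ 0 := by
          rw [Nat.cast_ne_zero]; rintro rfl; exact hd (by rw [he, mul_zero])
        have hp0 : (p : ℂ) ≠ 0 := Nat.cast_ne_zero.2 hp.out.ne_zero
        rw [hm, he]
        push_cast
        field_simp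
        ring
      have hmI : MemLocalIdeal M (m : ℂ) := by
        rw [hmm, mul_comm]
        exact memLocalIdeal_mul hM (memLocalRing_mul hM h (memLocalRing_natCast hM e))
          ((memLocalIdeal_natCast_iff hM p).2 dvd_rfl)
      rw [hm, pow_succ]
      exact mul_dvd_mul_left _ ((memLocalIdeal_intCast_iff hM m).1 hmI)
  exact key _ le_rfl

omit [Finite G] [Fintype G] in
theorem memLocalIdeal_div_iff (hM : IsPModular p M) {n : ℤ} {d : ℕ} (hd : d ≠ 0)
    (hdvd : (p : ℤ) ^ d.factorization p ∣ n) :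
    MemLocalIdeal M ((n : ℂ) / (d : ℂ)) ↔ (p : ℤ) ^ (d.factorization p + 1) ∣ n := by
  obtain ⟨m, hm⟩ := hdvd
  set b := d.factorization p with hb
  set k := d / p ^ b with hk
  have hkd : d = p ^ b * k := (Nat.mul_div_cancel' (Nat.ordProj_dvd d p)).symm
  have hkp : ¬ p ∣ k := Nat.not_dvd_ordCompl hp.out hd
  have hk0 : (k : ℂ) ≠ 0 := Nat.cast_ne_zero.2 fun e => hkp (e ▸ dvd_zero p)
  have hp0 : (p : ℂ) ≠ 0 := Nat.cast_ne_zero.2 hp.out.ne_zero
  have heq : (n : ℂ) / (d : ℂ) = (m : ℂ) * (k : ℂ)⁻¹ := by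
    rw [hm, hkd]
    push_cast
    field_simp
  rw [heq, pow_succ, hm, mul_dvd_mul_iff_left (pow_ne_zero _ (by exact_mod_cast hp.out.ne_zero)),
    memLocalIdeal_mul_iff hM (show MemLocalRing M (m : ℂ) from intCast_mem (locRing hM) m)
      (memLocalRing_natCast_inv hM hkp), memLocalIdeal_intCast_iff hM, or_iff_left_iff_imp]
  intro hI
  exfalso
  have := memLocalIdeal_mul hM (memLocalRing_natCast hM k) hI
  rw [mul_inv_cancel₀ hk0] at this
  exact not_memLocalIdeal_one hM this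

theorem ratio_irr (χ ξ : Cfsg.IrrCharacter G) :
    ratio p (χ : G → ℂ) ξ = (nn p χ ξ : ℂ) / (Cfsg.charDegree (ξ : G → ℂ) : ℂ) := by
  rw [ratio, nn_spec, apply_one_eq_charDegree]

theorem ratio_mem_irr (hM : IsPModular p M) (χ ξ : Cfsg.IrrCharacter G) :
    MemLocalRing M (ratio p (χ : G → ℂ) ξ) :=
  ratio_mem hM (IsIrr.isClassFunction χ.2) (memLocalRing_apply hM χ) ξ

theorem dvd_nn_right (χ ξ : Cfsg.IrrCharacter G) : (p : ℤ) ^ degExp p ξ ∣ nn p χ ξ := by
  obtain ⟨M, hM⟩ := exists_isPModular hp.out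
  have h := ratio_mem_irr hM χ ξ
  rw [ratio_irr] at h
  exact pow_dvd_of_memLocalRing hM (charDegree_pos ξ).ne' h

theorem dvd_nn_left (χ ξ : Cfsg.IrrCharacter G) : (p : ℤ) ^ degExp p χ ∣ nn p χ ξ := by
  rw [nn_comm]; exact dvd_nn_right ξ χ

theorem ratio_mem_ideal_iff (hM : IsPModular p M) (χ ξ : Cfsg.IrrCharacter G) :
    MemLocalIdeal M (ratio p (χ : G → ℂ) ξ) ↔ (p : ℤ) ^ (degExp p ξ + 1) ∣ nn p χ ξ := by
  rw [ratio_irr]
  exact memLocalIdeal_div_iff hM (charDegree_pos ξ).ne' (dvd_nn_right χ ξ)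

theorem degExp_le (χ : Cfsg.IrrCharacter G) : degExp p χ ≤ (Nat.card G).factorization p :=
  (Nat.factorization_le_iff_dvd (charDegree_pos χ).ne' (Nat.card_pos (α := G)).ne').2
    (charDegree_dvd χ) p

/-- Some pairing value is divisible by no higher power of `p` than the degree. -/
theorem exists_not_dvd_nn (χ : Cfsg.IrrCharacter G) :
    ∃ ξ : Cfsg.IrrCharacter G, ¬ (p : ℤ) ^ (degExp p χ + 1) ∣ nn p χ ξ := by
  by_contra h
  push Not at h
  choose q hq using h
  set b := degExp p χ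
  set a := (Nat.card G).factorization p
  have hp0 : (p : ℂ) ≠ 0 := Nat.cast_ne_zero.2 hp.out.ne_zero
  have hqc : ∀ ξ, (nn p χ ξ : ℂ) = (p : ℂ) ^ (b + 1) * (q ξ : ℂ) := fun ξ => by
    rw [hq ξ]; push_cast; ring
  have hT : ∀ x, tilde p (χ : G → ℂ) x =
      (p : ℂ) ^ (b + 1) * ∑ ξ : Cfsg.IrrCharacter G, (q ξ : ℂ) * (ξ : G → ℂ) x := by
    intro x
    rw [tilde_expansion, Finset.mul_sum]
    exact Finset.sum_congr rfl fun ξ _ => by rw [hqc, mul_assoc]
  obtain ⟨r, ⟨z, rfl⟩, hr⟩ := exists_mul_of_vanish (p := p) (fun ξ => (q ξ : ℂ))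
    (Set.range (Int.cast : ℤ → ℂ)) ⟨0, Int.cast_zero⟩
    (by rintro _ ⟨i, rfl⟩ _ ⟨j, rfl⟩; exact ⟨i + j, Int.cast_add i j⟩)
    (by rintro n _ ⟨i, rfl⟩; exact ⟨i * n, by push_cast; ring⟩)
    (fun ξ => ⟨q ξ, rfl⟩)
    (fun x hx ⟨k, hk⟩ => by
      have hd : p ∣ orderOf x := by
        rcases k with _ | k
        · exact absurd (orderOf_eq_one_iff.1 (by simpa using hk)) hx
        · exact hk ▸ dvd_pow_self p k.succ_ne_zero
      have := hT x
      rw [tilde, if_pos hd, eq_comm, mul_eq_zero] at this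
      exact this.resolve_left (pow_ne_zero _ hp0))
  have h1 := hT 1
  rw [tilde, if_neg (by rw [orderOf_one, Nat.dvd_one]; exact hp.out.ne_one), hr,
    apply_one_eq_charDegree] at h1
  have h2 : ((Cfsg.charDegree (χ : G → ℂ) : ℤ)) = (p : ℤ) ^ (b + 1) * z := by
    have hpa : ((p ^ a : ℕ) : ℂ) ≠ 0 := Nat.cast_ne_zero.2 (pow_ne_zero _ hp.out.ne_zero)
    have : ((p ^ a : ℕ) : ℂ) * (Cfsg.charDegree (χ : G → ℂ) : ℂ) =
        ((p ^ a : ℕ) : ℂ) * ((p : ℂ) ^ (b + 1) * (z : ℂ)) := by rw [h1]; ring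
    have := mul_left_cancel₀ hpa this
    exact_mod_cast this
  refine Nat.pow_succ_factorization_not_dvd (charDegree_pos χ).ne' hp.out ?_
  exact Int.natCast_dvd_natCast.1 (by push_cast; exact ⟨z, h2⟩)

theorem height_zero_iff {B : Set (Cfsg.IrrCharacter G)} {χ : Cfsg.IrrCharacter G} (hχ : χ ∈ B) :
    blockHeight p B (χ : G → ℂ) = 0 ↔ ∀ ξ ∈ B, degExp p χ ≤ degExp p ξ := by
  rw [blockHeight, Nat.sub_eq_zero_iff_le]
  refine ⟨fun h ξ hξ => h.trans (Nat.sInf_le ⟨ξ, hξ, rfl⟩), fun h => ?_⟩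
  refine le_csInf ⟨_, χ, hχ, rfl⟩ ?_
  rintro _ ⟨ξ, hξ, rfl⟩
  exact h ξ hξ

/-- The pairing is a unit multiple of the degree exactly for height zero characters. -/
theorem ratio_mem_ideal_iff_height (hM : IsPModular p M) {B : Set (Cfsg.IrrCharacter G)}
    (hB : IsPBlock M B) {χ ξ : Cfsg.IrrCharacter G} (hχ : χ ∈ B) (hξ : ξ ∈ B) :
    MemLocalIdeal M (ratio p (χ : G → ℂ) ξ) ↔ blockHeight p B (χ : G → ℂ) ≠ 0 := by
  have hconst : ∀ η ∈ B, (MemLocalIdeal M (ratio p (χ : G → ℂ) η) ↔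
      MemLocalIdeal M (ratio p (χ : G → ℂ) ξ)) := by
    intro η hη
    have hc := ratio_congr (p := p) hM (IsIrr.isClassFunction χ.2) (memLocalRing_apply hM χ)
      (isPBlock_sameBlock hM hB hη hξ)
    exact ⟨fun h => by simpa using memLocalIdeal_sub hM h hc,
      fun h => by simpa using memLocalIdeal_add hM hc h⟩
  by_cases h0 : blockHeight p B (χ : G → ℂ) = 0
  · refine iff_of_false (fun hI => ?_) (not_not_intro h0)
    obtain ⟨η, hη⟩ := exists_not_dvd_nn (p := p) χ
    have hηB : η ∈ B := by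
      by_contra hn
      exact hη (by rw [nn_eq_zero hM hB hχ hn]; exact dvd_zero _)
    have h1 := (ratio_mem_ideal_iff hM χ η).1 ((hconst η hηB).2 hI)
    exact hη ((pow_dvd_pow _ (Nat.add_le_add_right ((height_zero_iff hχ).1 h0 η hηB) 1)).trans h1)
  · refine iff_of_true ?_ h0
    obtain ⟨η, hη, hη0⟩ := H35.exists_height_zero hM hB
    rw [← hconst η hη, ratio_mem_ideal_iff hM]
    have hlt : degExp p η < degExp p χ := by
      have h1 := (height_zero_iff hη).1 hη0 χ hχ
      refine lt_of_le_of_ne h1 fun e => h0 ?_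
      rw [height_zero_iff hχ]
      intro ζ hζ
      exact e ▸ (height_zero_iff hη).1 hη0 ζ hζ
    exact (pow_dvd_pow _ hlt).trans (dvd_nn_left χ η)

end Cfsg.Agent.H80
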