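import Cfsg.Agent.BlockBasic.Brauer
import Cfsg.Agent.H86.BlockInflation
import Cfsg.Agent.H80.Pairing
import Cfsg.Agent.CharBasic.Kernel

/-!
# The blocks whose defect group is a given normal `p`-subgroup

The number of these blocks is the rank of a matrix counting pairs in classes of that defect.
-/

set_option linter.style.haveILetI false

open scoped ComplexConjugate
open MonoidAlgebra

namespace Cfsg.Agent.H80

open CharBasic BlockBasic

universe u

variable {G : Type u} [Group G] [Finite G] {p : ℕ} [hp : Fact p.Prime] {M : Ideal AlgInt}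
variable {D : Subgroup G}

/-- The elements whose class has defect group `D`. -/
def InD (p : ℕ) (D : Subgroup G) (x : G) : Prop :=
  x ∈ Subgroup.centralizer (D : Set G) ∧ ¬ p ∣ orderOf x ∧
    (Nat.card (Subgroup.centralizer ({x} : Set G))).factorization p =
      (Nat.card D).factorization p

theorem card_pGroup (hD : IsPGroup p D) :
    Nat.card D = p ^ (Nat.card D).factorization p := by
  obtain ⟨k, hk⟩ := IsPGroup.iff_card.1 hD
  rw [hk, Nat.Prime.factorization_pow hp.out, Finsupp.single_eq_same]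

theorem inD_iff (hD : IsPGroup p D) (x : G) :
    (¬ p ∣ orderOf x ∧ ∃ Q : Sylow p (Subgroup.centralizer ({x} : Set G)),
      (Q : Subgroup (Subgroup.centralizer ({x} : Set G))).map
        (Subgroup.centralizer ({x} : Set G)).subtype = D) ↔ InD p D x := by
  constructor
  · rintro ⟨hx, Q, hQ⟩
    refine ⟨Subgroup.mem_centralizer_iff.2 fun d hd => ?_, hx, ?_⟩
    · have hd' : d ∈ Subgroup.centralizer ({x} : Set G) := Subgroup.map_subtype_le _ (hQ ▸ hd)
      exact Subgroup.mem_centralizer_singleton_iff.1 hd'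
    · conv_rhs => rw [← hQ, Subgroup.card_map_of_injective (Subgroup.subtype_injective _),
        Q.card_eq_multiplicity, Nat.Prime.factorization_pow hp.out, Finsupp.single_eq_same]
  · rintro ⟨hxD, hx, hc⟩
    refine ⟨hx, ?_⟩
    have hle : D ≤ Subgroup.centralizer ({x} : Set G) := fun d hd =>
      Subgroup.mem_centralizer_singleton_iff.2 (Subgroup.mem_centralizer_iff.1 hxD d hd)
    have hcard : Nat.card (D.subgroupOf (Subgroup.centralizer ({x} : Set G))) =
        p ^ (Nat.card (Subgroup.centralizer ({x} : Set G))).factorization p := by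
      rw [hc, Nat.card_congr (Subgroup.subgroupOfEquivOfLe hle).toEquiv]
      exact card_pGroup hD
    exact ⟨Sylow.ofCard _ hcard, Subgroup.map_subgroupOf_eq_of_le hle⟩

theorem InD.inv {x : G} (h : InD p D x) : InD p D x⁻¹ := by
  obtain ⟨h1, h2, h3⟩ := h
  refine ⟨inv_mem h1, by rwa [orderOf_inv], ?_⟩
  have : Subgroup.centralizer ({x⁻¹} : Set G) = Subgroup.centralizer ({x} : Set G) := by
    ext g
    rw [Subgroup.mem_centralizer_singleton_iff, Subgroup.mem_centralizer_singleton_iff]
    exact Commute.inv_right_iff (a := g) (b := x)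
  rw [this]; exact h3

theorem InD.conj [D.Normal] {x y : G} (h : InD p D x) (e : IsConj x y) : InD p D y := by
  obtain ⟨h1, h2, h3⟩ := h
  have hc := H35.card_centralizer_eq_of_isConj e
  obtain ⟨c, rfl⟩ := isConj_iff.1 e
  exact ⟨(inferInstance : (Subgroup.centralizer (D : Set G)).Normal).conj_mem _ h1 c,
    by rwa [show orderOf (c * x * c⁻¹) = orderOf x from MulEquiv.orderOf_eq (MulAut.conj c) x],
    by rw [hc]; exact h3⟩

theorem InD.factorization_index {x : G} (h : InD p D x) :
    (Subgroup.centralizer ({x} : Set G)).index.factorization p =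
      (Nat.card G).factorization p - (Nat.card D).factorization p := by
  have h1 := H35.factorization_index_add (p := p) x
  rw [h.2.2] at h1
  omega

theorem card_le_centralizer {x : G} (hx : x ∈ Subgroup.centralizer (D : Set G)) :
    (Nat.card D).factorization p ≤
      (Nat.card (Subgroup.centralizer ({x} : Set G))).factorization p := by
  refine (Nat.factorization_le_iff_dvd Nat.card_pos.ne' Nat.card_pos.ne').2 ?_ p
  exact Subgroup.card_dvd_of_le fun d hd =>
    Subgroup.mem_centralizer_singleton_iff.2 (Subgroup.mem_centralizer_iff.1 hx d hd)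

theorem degree_trivial_le [D.Normal] {χ : Cfsg.IrrCharacter G}
    (h : ∀ d ∈ D, (χ : G → ℂ) d = (χ : G → ℂ) 1) :
    (Cfsg.charDegree (χ : G → ℂ)).factorization p ≤
      (Nat.card G).factorization p - (Nat.card D).factorization p := by
  obtain ⟨ψ, -, hψ, hψi⟩ := CharInduce.IsChar.exists_deflate (IsIrr.isCharacter χ.2) D h
  haveI : Fintype (G ⧸ D) := Fintype.ofFinite _
  obtain ⟨n, hn0, hn, hdvd, -⟩ := IsIrr.degree_dvd (hψi χ.2)
  have hdeg : Cfsg.charDegree (χ : G → ℂ) = n := by
    have : (Cfsg.charDegree (χ : G → ℂ) : ℂ) = (n : ℂ) := by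
      rw [← apply_one_eq_charDegree, hψ]
      exact hn
    exact_mod_cast this
  rw [hdeg]
  have hG : Nat.card G = Nat.card (G ⧸ D) * Nat.card D := Subgroup.card_eq_card_quotient_mul_card_subgroup D
  have h1 := (Nat.factorization_le_iff_dvd hn0.ne' Nat.card_pos.ne').2 hdvd p
  rw [hG, Nat.factorization_mul Nat.card_pos.ne' Nat.card_pos.ne', Finsupp.coe_add, Pi.add_apply]
  omega

variable [Fintype G]

/-- The blocks with a unit central character on some class of defect `D`. -/
def GoodBlock (p : ℕ) (M : Ideal AlgInt) (D : Subgroup G) (B : Set (Cfsg.IrrCharacter G)) : Prop :=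
  Cfsg.IsPBlock M B ∧ ∃ x, InD p D x ∧
    ∀ χ ∈ B, ¬ MemLocalIdeal M (Cfsg.centralChar (χ : G → ℂ) x)

theorem goodBlock_of_unit (hM : IsPModular p M) {B : Set (Cfsg.IrrCharacter G)}
    (hB : IsPBlock M B) {χ : Cfsg.IrrCharacter G} (hχ : χ ∈ B) {x : G} (hx : InD p D x)
    (hu : ¬ MemLocalIdeal M (Cfsg.centralChar (χ : G → ℂ) x)) : GoodBlock p M D B := by
  refine ⟨hB, x, hx, fun ψ hψ h => hu ?_⟩
  simpa using memLocalIdeal_add hM (isPBlock_sameBlock hM hB hχ hψ x) h

theorem degree_ge (hM : IsPModular p M) {B : Set (Cfsg.IrrCharacter G)} (h : GoodBlock p M D B)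
    {χ : Cfsg.IrrCharacter G} (hχ : χ ∈ B) :
    (Nat.card G).factorization p - (Nat.card D).factorization p ≤
      (Cfsg.charDegree (χ : G → ℂ)).factorization p := by
  obtain ⟨-, x, hx, hu⟩ := h
  rw [← hx.factorization_index]
  exact H35.index_le_degree hM χ (hu χ hχ)

open scoped Classical in
/-- The coefficient of a block idempotent at a p-regular element centralizing `D`, seen in the
quotient by `D`. -/
theorem blockCoeff_eq_trivial_sum (hM : IsPModular p M) {B : Set (Cfsg.IrrCharacter G)}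
    (hB : IsPBlock M B) [D.Normal] (hD : IsPGroup p D) {x : G}
    (hx : x ∈ Subgroup.centralizer (D : Set G)) (hreg : ¬ p ∣ orderOf x) :
    Cfsg.blockCoeff B x = ((Nat.card D : ℂ) / (Nat.card G : ℂ)) * ∑ χ : Cfsg.IrrCharacter G,
      if χ ∈ B ∧ ∀ d ∈ D, (χ : G → ℂ) d = (χ : G → ℂ) 1 then
        (χ : G → ℂ) 1 * conj ((χ : G → ℂ) x) else 0 := by
  haveI := Fintype.ofFinite D
  have hsum : ∑ d : D, Cfsg.blockCoeff B (x * (d : G)) = Cfsg.blockCoeff B x := by
    rw [Finset.sum_eq_single (1 : D)]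
    · simp
    · intro d _ hd
      refine blockCoeff_eq_zero_of_singular hM hB ?_
      by_contra hn
      have hc : Commute (d : G) x := Subgroup.mem_centralizer_iff.1 hx d d.2
      have h1 := pPart_mul_of (p := p) hc (H86.pPow_orderOf hD d.2) hreg
      rw [← pPart_eq_one_iff, ← hc.eq, h1] at hn
      exact hd (Subtype.ext hn)
    · simp
  have hchar : ∀ χ : Cfsg.IrrCharacter G, ∑ d : D, conj ((χ : G → ℂ) (x * (d : G))) =
      if ∀ d ∈ D, (χ : G → ℂ) d = (χ : G → ℂ) 1 then
        (Nat.card D : ℂ) * conj ((χ : G → ℂ) x) else 0 := by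
    intro χ
    obtain ⟨n, ρ, hirr, hρ⟩ := χ.2
    haveI := hirr
    split_ifs with htr
    · rw [Finset.sum_congr rfl (g := fun _ => conj ((χ : G → ℂ) x)), Finset.sum_const,
        Finset.card_univ, nsmul_eq_mul, Nat.card_eq_fintype_card]
      intro d _
      obtain ⟨N, -, hN, hmul⟩ := IsChar.exists_kernel (IsIrr.isCharacter χ.2)
      rw [hmul x d ((hN d).2 (htr d d.2))]
    · rw [← map_sum, map_eq_zero]
      set T : Module.End ℂ (Fin n → ℂ) := ∑ d : D, ρ (d : G) with hT
      have hcomm : ∀ g : G, T * ρ g = ρ g * T := by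
        intro g
        simp only [hT, Finset.sum_mul, Finset.mul_sum, ← map_mul]
        refine Fintype.sum_equiv (MulAut.conjNormal g⁻¹ : MulAut D).toEquiv _ _ fun d => ?_
        show ρ ((d : G) * g) = ρ (g * ((MulAut.conjNormal g⁻¹ d : D) : G))
        rw [MulAut.conjNormal_apply]
        congr 1
        group
      obtain ⟨c, hc⟩ := schur_scalar ρ T hcomm
      have htr' : LinearMap.trace ℂ _ T = ∑ d : D, ρ.character (d : G) := by
        simp [hT, map_sum, Representation.character]
      have hT0 : T = 0 := by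
        have hd0 : ∑ d : D, ρ.character (d : G) = 0 := by
          by_contra hne
          exact htr fun d hd => by
            rw [← hρ]; exact H86.trivial_of_sum_ne_zero D ⟨n, ρ, hirr, rfl⟩ hne d hd
        rw [hd0, hc, map_smul, LinearMap.trace_id, smul_eq_mul, mul_eq_zero] at htr'
        rcases htr' with h0 | h0
        · rw [hc, h0, zero_smul]
        · exact absurd (hρ ▸ ρ.char_one.trans (by simpa using h0) : (χ : G → ℂ) 1 = 0)
            (irr_one_ne_zero χ.2)
      calc ∑ d : D, (χ : G → ℂ) (x * (d : G))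
          = LinearMap.trace ℂ _ (ρ x * T) := by
            rw [hT, Finset.mul_sum, map_sum]
            exact Finset.sum_congr rfl fun d _ => by rw [← hρ, Representation.character, map_mul]
        _ = 0 := by rw [hT0, mul_zero, map_zero]
  rw [← hsum]
  simp only [Cfsg.blockCoeff, finsum_mem_eq_sum_ite]
  rw [← Finset.mul_sum, Finset.sum_comm, div_eq_inv_mul, mul_assoc]
  congr 1
  rw [Finset.mul_sum]
  refine Finset.sum_congr rfl fun χ _ => ?_
  by_cases hχ : χ ∈ B
  · simp only [hχ, if_true, true_and, ← Finset.mul_sum, hchar χ]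
    split_ifs <;> ring
  · simp [hχ]

/-- The local unit `e_B(1) / p^(a-d)`, as a complex number. -/
noncomputable def dimUnit (p : ℕ) (D : Subgroup G) (B : Set (Cfsg.IrrCharacter G)) : ℂ :=
  Cfsg.blockCoeff B 1 /
    ((p ^ ((Nat.card G).factorization p - (Nat.card D).factorization p) : ℕ) : ℂ)

theorem pPow_ne_zero (k : ℕ) : ((p ^ k : ℕ) : ℂ) ≠ 0 :=
  Nat.cast_ne_zero.2 (pow_ne_zero _ hp.out.ne_zero)

theorem memLocalRing_div_pow (hM : IsPModular p M) {n k : ℕ} (h : k ≤ n.factorization p) :
    MemLocalRing M ((n : ℂ) / ((p ^ k : ℕ) : ℂ)) := by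
  obtain ⟨m, hm⟩ := ((pow_dvd_pow p h).trans (Nat.ordProj_dvd n p))
  rw [hm, Nat.cast_mul, mul_div_cancel_left₀ _ (pPow_ne_zero k)]
  exact memLocalRing_natCast hM m

open scoped Classical in
/-- The idempotent coefficient on classes centralizing `D` in terms of the central character. -/
theorem blockCoeff_congr (hM : IsPModular p M) [D.Normal] (hD : IsPGroup p D)
    {B : Set (Cfsg.IrrCharacter G)} (hg : GoodBlock p M D B) {χ₀ : Cfsg.IrrCharacter G}
    (hχ₀ : χ₀ ∈ B) {x : G} (hx : x ∈ Subgroup.centralizer (D : Set G))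
    (hreg : ¬ p ∣ orderOf x) :
    (¬ InD p D x → MemLocalIdeal M (Cfsg.blockCoeff B x)) ∧
      (InD p D x → MemLocalIdeal M (Cfsg.blockCoeff B x -
        dimUnit p D B * (((p ^ ((Nat.card G).factorization p - (Nat.card D).factorization p) : ℕ) : ℂ) /
          ((Subgroup.centralizer ({x} : Set G)).index : ℂ)) *
          Cfsg.centralChar (χ₀ : G → ℂ) x⁻¹)) := by
  set a := (Nat.card G).factorization p with ha
  set d := (Nat.card D).factorization p with hd
  set K := (Subgroup.centralizer ({x} : Set G)).index with hK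
  set S : Cfsg.IrrCharacter G → Prop :=
    fun χ => χ ∈ B ∧ ∀ z ∈ D, (χ : G → ℂ) z = (χ : G → ℂ) 1 with hS
  have hG : (Nat.card G : ℂ) ≠ 0 := Nat.cast_ne_zero.2 Nat.card_pos.ne'
  have hK0 : (K : ℂ) ≠ 0 := Nat.cast_ne_zero.2 Subgroup.index_ne_zero_of_finite
  set t : Cfsg.IrrCharacter G → ℂ := fun χ =>
    if S χ then (Nat.card D : ℂ) * ((χ : G → ℂ) 1 * (χ : G → ℂ) 1) / ((Nat.card G : ℂ) * K) else 0
    with ht
  have hxinv : (Subgroup.centralizer ({x⁻¹} : Set G)).index = K := by
    rw [hK]; congr 1; ext g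
    rw [Subgroup.mem_centralizer_singleton_iff, Subgroup.mem_centralizer_singleton_iff]
    exact Commute.inv_right_iff (a := g) (b := x)
  have hexp : Cfsg.blockCoeff B x =
      ∑ χ : Cfsg.IrrCharacter G, t χ * Cfsg.centralChar (χ : G → ℂ) x⁻¹ := by
    rw [blockCoeff_eq_trivial_sum hM hg.1 hD hx hreg, Finset.mul_sum]
    refine Finset.sum_congr rfl fun χ _ => ?_
    simp only [ht, hS]
    split_ifs
    · rw [conj_apply_eq_inv, Cfsg.centralChar, hxinv]
      have h1 := irr_one_ne_zero χ.2
      field_simp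
    · simp
  have hle : (Subgroup.centralizer ({x} : Set G)).index.factorization p ≤ a - d := by
    have h1 := H35.factorization_index_add (p := p) x
    have h2 := card_le_centralizer (p := p) hx
    omega
  have hKa : InD p D x → K.factorization p = a - d := fun h => h.factorization_index
  have hKlt : ¬ InD p D x → K.factorization p < a - d := by
    intro h
    refine lt_of_le_of_ne hle fun e => h ⟨hx, hreg, ?_⟩
    have h1 := H35.factorization_index_add (p := p) x
    have h2 := card_le_centralizer (p := p) hx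
    rw [← hK, e] at h1
    omega
  have hDle : d ≤ a := (Nat.factorization_le_iff_dvd Nat.card_pos.ne' Nat.card_pos.ne').2
    (Subgroup.card_subgroup_dvd_card D) p
  -- `|D| χ(1)² / |G|` is `p^(a-d)` times a local integer
  have hcoef : ∀ χ, S χ → MemLocalRing M ((Nat.card D : ℂ) * ((χ : G → ℂ) 1 * (χ : G → ℂ) 1) /
      ((Nat.card G : ℂ) * ((p ^ (a - d) : ℕ) : ℂ))) := by
    intro χ hχ
    have h1 := degree_ge hM hg hχ.1
    have e1 : (Nat.card D : ℂ) = ((p ^ d : ℕ) : ℂ) := by
      rw [hd]; exact_mod_cast card_pGroup hD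
    rw [e1, apply_one_eq_charDegree, card_eq_mul_pCompl (p := p) (G := G)]
    have e2 : ((p ^ d : ℕ) : ℂ) * ((Cfsg.charDegree (χ : G → ℂ) : ℂ) *
        (Cfsg.charDegree (χ : G → ℂ) : ℂ)) /
        (((p ^ a : ℕ) : ℂ) * (pCompl p G : ℂ) * ((p ^ (a - d) : ℕ) : ℂ)) =
        (pCompl p G : ℂ)⁻¹ * ((Cfsg.charDegree (χ : G → ℂ) : ℂ) / ((p ^ (a - d) : ℕ) : ℂ)) *
          ((Cfsg.charDegree (χ : G → ℂ) : ℂ) / ((p ^ (a - d) : ℕ) : ℂ)) := by
      rw [show ((p ^ a : ℕ) : ℂ) = ((p ^ d : ℕ) : ℂ) * ((p ^ (a - d) : ℕ) : ℂ) by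
        rw [← Nat.cast_mul, ← pow_add, Nat.add_sub_cancel' hDle]]
      have := pPow_ne_zero (p := p) d
      have := pPow_ne_zero (p := p) (a - d)
      have := pCompl_ne_zero (p := p) (G := G)
      field_simp
    rw [e2]
    exact memLocalRing_mul hM (memLocalRing_mul hM (memLocalRing_natCast_inv hM not_dvd_pCompl)
      (memLocalRing_div_pow hM h1)) (memLocalRing_div_pow hM h1)
  have htfac : ∀ χ, S χ → t χ = (((p ^ (a - d) : ℕ) : ℂ) / (K : ℂ)) *
      ((Nat.card D : ℂ) * ((χ : G → ℂ) 1 * (χ : G → ℂ) 1) /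
      ((Nat.card G : ℂ) * ((p ^ (a - d) : ℕ) : ℂ))) := by
    intro χ hχ
    simp only [ht, if_pos hχ]
    have := pPow_ne_zero (p := p) (a - d)
    field_simp
  refine ⟨fun hnot => ?_, fun hin => ?_⟩
  · rw [hexp]
    refine memLocalIdeal_sum hM _ _ fun χ _ => ?_
    by_cases hχ : S χ
    · rw [mul_comm, htfac χ hχ]
      refine memLocalIdeal_mul hM (memLocalRing_centralChar hM χ.2 _) ?_
      rw [mul_comm]
      refine memLocalIdeal_mul hM (hcoef χ hχ) ?_
      simpa using H35.memLocalIdeal_natCast_div hM (pow_ne_zero (a - d) hp.out.ne_zero)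
        (e := K) Subgroup.index_ne_zero_of_finite
        (by rw [Nat.Prime.factorization_pow hp.out, Finsupp.single_eq_same]; exact hKlt hnot)
        (z := 1) (by simpa using memLocalRing_natCast hM 1)
    · simp only [ht, if_neg hχ, zero_mul]
      exact memLocalIdeal_zero hM
  · have hone : Cfsg.blockCoeff B 1 = ∑ χ : Cfsg.IrrCharacter G, t χ * (K : ℂ) := by
      rw [blockCoeff_eq_trivial_sum hM hg.1 hD (one_mem _)
        (by rw [orderOf_one, Nat.dvd_one]; exact hp.out.ne_one), Finset.mul_sum]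
      refine Finset.sum_congr rfl fun χ _ => ?_
      simp only [ht, hS]
      split_ifs
      · rw [apply_one_eq_charDegree, Complex.conj_natCast]
        field_simp
      · simp
    have hkey : dimUnit p D B * (((p ^ (a - d) : ℕ) : ℂ) / (K : ℂ)) =
        ∑ χ : Cfsg.IrrCharacter G, t χ := by
      rw [dimUnit, hone, ← Finset.sum_mul]
      have := pPow_ne_zero (p := p) (a - d)
      field_simp
      ring
    rw [hexp, hkey, Finset.sum_mul, ← Finset.sum_sub_distrib]
    refine memLocalIdeal_sum hM _ _ fun χ _ => ?_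
    rw [← mul_sub]
    by_cases hχ : S χ
    · refine memLocalIdeal_mul hM ?_ (isPBlock_sameBlock hM hg.1 hχ.1 hχ₀ _)
      rw [htfac χ hχ]
      refine memLocalRing_mul hM ?_ (hcoef χ hχ)
      obtain ⟨k, hk, hKk⟩ : ∃ k, ¬ p ∣ k ∧ K = p ^ (a - d) * k := by
        refine ⟨K / p ^ (a - d), ?_, ?_⟩
        · rw [← hKa hin]; exact Nat.not_dvd_ordCompl hp.out Subgroup.index_ne_zero_of_finite
        · rw [← hKa hin, Nat.ordProj_mul_ordCompl_eq_self]
      rw [hKk, Nat.cast_mul, ← div_div, div_self (pPow_ne_zero _), one_div]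
      exact memLocalRing_natCast_inv hM hk
    · simp only [ht, if_neg hχ, zero_mul]
      exact memLocalIdeal_zero hM

theorem memLocalRing_dimUnit (hM : IsPModular p M) [D.Normal] (hD : IsPGroup p D)
    {B : Set (Cfsg.IrrCharacter G)} (hg : GoodBlock p M D B) : MemLocalRing M (dimUnit p D B) := by
  classical
  rw [dimUnit, blockCoeff_eq_trivial_sum hM hg.1 hD (one_mem _)
    (by rw [orderOf_one, Nat.dvd_one]; exact hp.out.ne_one), Finset.mul_sum, Finset.sum_div]
  refine sum_mem (S := locRing hM) fun χ _ => ?_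
  split_ifs with h
  · show MemLocalRing M _
    have h1 := degree_ge hM hg h.1
    have hDle : (Nat.card D).factorization p ≤ (Nat.card G).factorization p :=
      (Nat.factorization_le_iff_dvd Nat.card_pos.ne' Nat.card_pos.ne').2
        (Subgroup.card_subgroup_dvd_card D) p
    set a := (Nat.card G).factorization p
    set d := (Nat.card D).factorization p
    have e1 : (Nat.card D : ℂ) = ((p ^ d : ℕ) : ℂ) := by exact_mod_cast card_pGroup hD
    rw [e1, card_eq_mul_pCompl (p := p) (G := G), apply_one_eq_charDegree, Complex.conj_natCast]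
    have e2 : ((p ^ d : ℕ) : ℂ) / (((p ^ a : ℕ) : ℂ) * (pCompl p G : ℂ)) *
        ((Cfsg.charDegree (χ : G → ℂ) : ℂ) * (Cfsg.charDegree (χ : G → ℂ) : ℂ)) /
          ((p ^ (a - d) : ℕ) : ℂ) =
        (pCompl p G : ℂ)⁻¹ * ((Cfsg.charDegree (χ : G → ℂ) : ℂ) / ((p ^ (a - d) : ℕ) : ℂ)) *
          ((Cfsg.charDegree (χ : G → ℂ) : ℂ) / ((p ^ (a - d) : ℕ) : ℂ)) := by
      rw [show ((p ^ a : ℕ) : ℂ) = ((p ^ d : ℕ) : ℂ) * ((p ^ (a - d) : ℕ) : ℂ) by
        rw [← Nat.cast_mul, ← pow_add, Nat.add_sub_cancel' hDle]]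
      have := pPow_ne_zero (p := p) d
      have := pPow_ne_zero (p := p) (a - d)
      have := pCompl_ne_zero (p := p) (G := G)
      field_simp
    rw [e2]
    exact memLocalRing_mul hM (memLocalRing_mul hM (memLocalRing_natCast_inv hM not_dvd_pCompl)
      (memLocalRing_div_pow hM h1)) (memLocalRing_div_pow hM h1)
  · simp

theorem goodBlock_defect (hM : IsPModular p M) [D.Normal] (hD : IsPGroup p D)
    {B : Set (Cfsg.IrrCharacter G)} (hg : GoodBlock p M D B) :
    ∃ g, IsDefectClass M B g ∧ InD p D g := by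
  obtain ⟨g, hgc⟩ := exists_isDefectClass (p := p) hM hg.1
  refine ⟨g, hgc, ?_, H35.not_dvd_orderOf_of_isDefectClass hM hg.1 hgc, ?_⟩
  · obtain ⟨χ, hχ⟩ := isPBlock_nonempty hM hg.1
    by_contra h
    exact hgc.2.2 χ hχ (centralChar_mem_of_not_centralizer hM D hD χ h)
  · obtain ⟨χ, hχ, htr⟩ := H86.exists_trivial_on hM hg.1 D hD
    have h1 := degree_trivial_le (p := p) htr
    have h2 := H35.index_le_degree hM χ (hgc.2.2 χ hχ)
    have h3 := H35.sInf_degree_eq hM hg.1 hgc
    have h4 : (Nat.card G).factorization p - (Nat.card D).factorization p ≤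
        sInf ((fun ψ : Cfsg.IrrCharacter G => (Cfsg.charDegree (ψ : G → ℂ)).factorization p) '' B) :=
      le_csInf ⟨_, χ, hχ, rfl⟩ (by rintro _ ⟨ψ, hψ, rfl⟩; exact degree_ge hM hg hψ)
    have h5 := H35.factorization_index_add (p := p) g
    have hDle : (Nat.card D).factorization p ≤ (Nat.card G).factorization p :=
      (Nat.factorization_le_iff_dvd Nat.card_pos.ne' Nat.card_pos.ne').2
        (Subgroup.card_subgroup_dvd_card D) p
    omega

theorem goodBlock_iff (hM : IsPModular p M) [D.Normal] (hD : IsPGroup p D)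
    (B : Set (Cfsg.IrrCharacter G)) :
    GoodBlock p M D B ↔ Cfsg.IsPBlock M B ∧ Cfsg.IsDefectGroup p M B D := by
  constructor
  · intro hg
    obtain ⟨g, hgc, hin⟩ := goodBlock_defect hM hD hg
    obtain ⟨hreg, Q, hQ⟩ := (inD_iff hD g).2 hin
    exact ⟨hg.1, g, hgc, Q, hQ.symm⟩
  · rintro ⟨hB, g, hgc, Q, hQ⟩
    exact ⟨hB, g, (inD_iff hD g).1
      ⟨H35.not_dvd_orderOf_of_isDefectClass hM hB hgc, Q, hQ.symm⟩, hgc.2.2⟩

theorem not_memLocalIdeal_dimUnit (hM : IsPModular p M) [D.Normal] (hD : IsPGroup p D)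
    {B : Set (Cfsg.IrrCharacter G)} (hg : GoodBlock p M D B) :
    ¬ MemLocalIdeal M (dimUnit p D B) := by
  intro hu
  obtain ⟨g, hgc, hin⟩ := goodBlock_defect hM hD hg
  obtain ⟨χ, hχ⟩ := isPBlock_nonempty hM hg.1
  apply hgc.2.1
  have h1 := (blockCoeff_congr hM hD hg hχ hin.1 hin.2.1).2 hin
  suffices h3 : MemLocalIdeal M (dimUnit p D B *
      (((p ^ ((Nat.card G).factorization p - (Nat.card D).factorization p) : ℕ) : ℂ) /
        ((Subgroup.centralizer ({g} : Set G)).index : ℂ)) *
      Cfsg.centralChar (χ : G → ℂ) g⁻¹) by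
    have h4 := memLocalIdeal_add hM h1 h3
    rwa [sub_add_cancel] at h4
  rw [mul_comm, mul_comm (dimUnit p D B)]
  refine memLocalIdeal_mul hM (memLocalRing_centralChar hM χ.2 _) (memLocalIdeal_mul hM ?_ hu)
  obtain ⟨k, hk, hKk⟩ : ∃ k, ¬ p ∣ k ∧ (Subgroup.centralizer ({g} : Set G)).index =
      p ^ ((Nat.card G).factorization p - (Nat.card D).factorization p) * k := by
    refine ⟨_, Nat.not_dvd_ordCompl hp.out
      (Subgroup.index_ne_zero_of_finite (H := Subgroup.centralizer ({g} : Set G))), ?_⟩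
    rw [← hin.factorization_index, Nat.ordProj_mul_ordCompl_eq_self]
  rw [hKk, Nat.cast_mul, ← div_div, div_self (pPow_ne_zero _), one_div]
  exact memLocalRing_natCast_inv hM hk

open scoped Classical in
/-- Block idempotents against central characters, summed over the classes of defect `D`. -/
theorem sum_blockCoeff_omega (hM : IsPModular p M) [D.Normal] (hD : IsPGroup p D)
    [Fintype (ConjClasses G)]
    {B : Set (Cfsg.IrrCharacter G)} (hg : GoodBlock p M D B) (χ : Cfsg.IrrCharacter G) :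
    MemLocalIdeal M (∑ C ∈ Finset.univ.filter (fun C : ConjClasses G => InD p D C.out),
      Cfsg.blockCoeff B C.out * Cfsg.centralChar (χ : G → ℂ) C.out -
        (if χ ∈ B then 1 else 0)) := by
  have h1 := omega_blockElem B χ
  rw [omega_eq_sum_classes (IsIrr.isClassFunction χ.2) (isCentralElt_blockElem B)] at h1
  simp only [coeff_blockElem] at h1
  rw [← h1, ← Finset.sum_filter_add_sum_filter_not Finset.univ (fun C : ConjClasses G => InD p D C.out),
    sub_add_cancel_left]
  refine memLocalIdeal_neg (memLocalIdeal_sum hM _ _ fun C hC => ?_)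
  have hnot := (Finset.mem_filter.1 hC).2
  by_cases hreg : p ∣ orderOf C.out
  · rw [blockCoeff_eq_zero_of_singular hM hg.1 hreg, zero_mul]
    exact memLocalIdeal_zero hM
  by_cases hc : C.out ∈ Subgroup.centralizer (D : Set G)
  · obtain ⟨χ₀, hχ₀⟩ := isPBlock_nonempty hM hg.1
    rw [mul_comm]
    exact memLocalIdeal_mul hM (memLocalRing_centralChar hM χ.2 _)
      ((blockCoeff_congr hM hD hg hχ₀ hc hreg).1 hnot)
  · exact memLocalIdeal_mul hM (memLocalRing_blockCoeff hM hg.1 _)
      (centralChar_mem_of_not_centralizer hM D hD χ hc)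

end Cfsg.Agent.H80
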