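import Cfsg.Agent.H80.NormalDefect
import Cfsg.Agent.H80.TwoBlocks

/-!
# The rank of the matrix of class pairs
-/

set_option linter.style.haveILetI false

open scoped ComplexConjugate
open MonoidAlgebra

namespace Cfsg.Agent.H80

open CharBasic BlockBasic

universe u

/-- The rank of a square matrix is unchanged by extending the field. -/
theorem rank_map_ringHom {K L : Type*} [Field K] [Field L] {ι : Type*} [Fintype ι] [DecidableEq ι]
    (f : K →+* L) (A : Matrix ι ι K) : (A.map f).rank = A.rank := by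
  classical
  obtain ⟨L₁, L₂, d, hA⟩ := Matrix.Pivot.exists_list_transvec_mul_diagonal_mul_list_transvec A
  set U := (L₁.map Matrix.TransvectionStruct.toMatrix).prod with hU
  set V := (L₂.map Matrix.TransvectionStruct.toMatrix).prod with hV
  have hUd : U.det = 1 := Matrix.TransvectionStruct.det_toMatrix_prod L₁
  have hVd : V.det = 1 := Matrix.TransvectionStruct.det_toMatrix_prod L₂
  have hU' : IsUnit (U.map f).det := by
    rw [← RingHom.mapMatrix_apply, ← RingHom.map_det, hUd, map_one]; exact isUnit_one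
  have hV' : IsUnit (V.map f).det := by
    rw [← RingHom.mapMatrix_apply, ← RingHom.map_det, hVd, map_one]; exact isUnit_one
  rw [hA, Matrix.map_mul, Matrix.map_mul, Matrix.diagonal_map (map_zero f),
    Matrix.rank_mul_eq_left_of_isUnit_det _ _ hV', Matrix.rank_mul_eq_right_of_isUnit_det _ _ hU',
    Matrix.rank_mul_eq_left_of_isUnit_det _ _ (hVd ▸ isUnit_one),
    Matrix.rank_mul_eq_right_of_isUnit_det _ _ (hUd ▸ isUnit_one),
    Matrix.rank_diagonal, Matrix.rank_diagonal]
  exact Fintype.card_congr (Equiv.subtypeEquivRight fun i => by simp)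

variable {G : Type u} [Group G] [Finite G] [Fintype G] {p : ℕ} [hp : Fact p.Prime]
  {M : Ideal AlgInt} {D : Subgroup G}

open scoped Classical in
/-- Pairs in two classes with quotient in `S`, as a sum of coefficients of a product. -/
theorem pairs_eq_sum (S : Subgroup G) (x y : G) :
    (Nat.card {yz : G × G // IsConj x yz.1 ∧ IsConj y yz.2 ∧ yz.2 * yz.1⁻¹ ∈ S} : ℂ) =
      ∑ s ∈ Finset.univ.filter (fun s : G => s ∈ S), (classSum y * classSum x⁻¹).coeff s := by
  rw [Nat.card_eq_fintype_card, Fintype.card_subtype]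
  have hco : ∀ s : G, (classSum y * classSum x⁻¹).coeff s =
      ∑ z : G, (classSum y).coeff z * (classSum x⁻¹).coeff (z⁻¹ * s) := fun s => by
    rw [coeff_mul_apply_left, Finsupp.sum_fintype _ _ (by simp)]
  simp only [hco]
  rw [Finset.natCast_card_filter, Finset.sum_filter, ← Finset.univ_product_univ,
    Finset.sum_product_right]
  rw [show (∑ s : G, if s ∈ S then ∑ z : G, (classSum y).coeff z * (classSum x⁻¹).coeff (z⁻¹ * s)
      else 0) = ∑ z : G, ∑ s : G,
        if s ∈ S then (classSum y).coeff z * (classSum x⁻¹).coeff (z⁻¹ * s) else 0 from by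
    rw [Finset.sum_comm]
    exact Finset.sum_congr rfl fun s _ => by split_ifs <;> simp]
  refine Finset.sum_congr rfl fun z _ => ?_
  refine Fintype.sum_equiv ((Equiv.inv G).trans (Equiv.mulLeft z)) _ _ fun w => ?_
  simp only [Equiv.trans_apply, Equiv.inv_apply, Equiv.coe_mulLeft, inv_mul_cancel_left, classSum,
    coeff_ofFun]
  have hinv : IsConj x⁻¹ w⁻¹ ↔ IsConj x w := by
    constructor <;> intro h <;> obtain ⟨c, hc⟩ := isConj_iff.1 h <;> refine isConj_iff.2 ⟨c, ?_⟩
    · rw [← inv_inj, ← hc]; group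
    · rw [← hc]; group
  rw [hinv]
  by_cases h1 : IsConj x w <;> by_cases h2 : IsConj y z <;> by_cases h3 : z * w⁻¹ ∈ S <;>
    simp [h1, h2, h3, -isConj_iff]

theorem red_exists (hM : IsPModular p M) :
    ∃ red : {z : ℂ // MemLocalRing M z} → (locRing hM ⧸ locMax hM),
      ∀ z, red z = Ideal.Quotient.mk (locMax hM) ⟨z.1, z.2⟩ := ⟨_, fun _ => rfl⟩

open scoped Classical in
/-- The matrix formula, modulo `M`. -/
theorem pairs_congr (hM : IsPModular p M) [D.Normal] (hD : IsPGroup p D) (S : Sylow p G)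
    {ι₀ : Finset (Set (Cfsg.IrrCharacter G))} (hι₀ : ∀ B, B ∈ ι₀ ↔ GoodBlock p M D B)
    (rep : Set (Cfsg.IrrCharacter G) → Cfsg.IrrCharacter G) (hrep : ∀ B ∈ ι₀, rep B ∈ B)
    {x y : G} (hx : InD p D x) (hy : InD p D y) :
    MemLocalIdeal M
      ((Nat.card {yz : G × G // IsConj x yz.1 ∧ IsConj y yz.2 ∧
          yz.2 * yz.1⁻¹ ∈ (S : Subgroup G)} : ℂ) /
        ((p ^ ((Nat.card G).factorization p - (Nat.card D).factorization p) : ℕ) : ℂ) -
      ∑ B ∈ ι₀, Cfsg.centralChar (rep B : G → ℂ) x⁻¹ * dimUnit p D B *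
        Cfsg.centralChar (rep B : G → ℂ) y) := by
  set c : ℕ := p ^ ((Nat.card G).factorization p - (Nat.card D).factorization p) with hc
  have hc0 : (c : ℂ) ≠ 0 := pPow_ne_zero _
  haveI : Fintype (S : Subgroup G) := Fintype.ofFinite _
  -- multiplicity of the trivial character on `S`
  have hr : ∀ χ : Cfsg.IrrCharacter G, ∃ r : ℕ,
      ∑ s ∈ Finset.univ.filter (fun s : G => s ∈ (S : Subgroup G)), conj ((χ : G → ℂ) s) =
        (Nat.card (S : Subgroup G) : ℂ) * r := by
    intro χ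
    obtain ⟨k, ρ, -, hρ⟩ := χ.2
    obtain ⟨r, hr⟩ := classInner_isChar_nat
      (IsIrr.isCharacter (isIrrCharacter_one (G := (S : Subgroup G))))
      (show Cfsg.IsCharacter (S : Subgroup G) (fun s => (χ : G → ℂ) s) from
        ⟨k, ρ.comp (S : Subgroup G).subtype, by rw [← hρ]; rfl⟩)
    refine ⟨r, ?_⟩
    rw [← hr, classInner_def, ← mul_assoc,
      mul_inv_cancel₀ (Nat.cast_ne_zero.2 Nat.card_pos.ne'), one_mul]
    rw [Finset.sum_subtype (p := fun s => s ∈ (S : Subgroup G)) _ (fun s => by simp)]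
    exact Finset.sum_congr rfl fun s _ => (one_mul _).symm
  choose r hr using hr
  have hS : (Nat.card (S : Subgroup G) : ℂ) = ((p ^ (Nat.card G).factorization p : ℕ) : ℂ) := by
    exact_mod_cast S.card_eq_multiplicity
  set t : Cfsg.IrrCharacter G → ℂ := fun χ => (pCompl p G : ℂ)⁻¹ * (r χ : ℂ) *
    ((χ : G → ℂ) 1 * Cfsg.centralChar (χ : G → ℂ) x⁻¹ * Cfsg.centralChar (χ : G → ℂ) y / (c : ℂ))
    with ht
  have hN : (Nat.card {yz : G × G // IsConj x yz.1 ∧ IsConj y yz.2 ∧
      yz.2 * yz.1⁻¹ ∈ (S : Subgroup G)} : ℂ) / (c : ℂ) = ∑ χ : Cfsg.IrrCharacter G, t χ := by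
    rw [pairs_eq_sum]
    simp only [coeff_eq_sum_omega ((isCentralElt_classSum y).mul (isCentralElt_classSum x⁻¹))]
    rw [← Finset.mul_sum, Finset.sum_comm, Finset.mul_sum, Finset.sum_div]
    refine Finset.sum_congr rfl fun χ _ => ?_
    rw [← Finset.mul_sum, hr, hS, omega_mul χ.2 (isCentralElt_classSum y),
      omega_classSum (IsIrr.isClassFunction χ.2), omega_classSum (IsIrr.isClassFunction χ.2),
      card_eq_mul_pCompl (p := p) (G := G), ht]
    have := pPow_ne_zero (p := p) ((Nat.card G).factorization p)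
    have := pCompl_ne_zero (p := p) (G := G)
    field_simp
  have hval : ∀ χ : Cfsg.IrrCharacter G,
      MemLocalRing M ((χ : G → ℂ) 1 * Cfsg.centralChar (χ : G → ℂ) x⁻¹ / (c : ℂ)) := by
    intro χ
    have hx' := hx.inv
    rw [Cfsg.centralChar, mul_div_cancel₀ _ (irr_one_ne_zero χ.2), mul_comm, mul_div_assoc]
    exact memLocalRing_mul hM (memLocalRing_apply hM χ _)
      (memLocalRing_div_pow hM hx'.factorization_index.ge)
  rw [hN]
  -- characters outside the good blocks do not contribute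
  have hout : ∀ χ : Cfsg.IrrCharacter G, blockOf M (χ : G → ℂ) ∉ ι₀ → MemLocalIdeal M (t χ) := by
    intro χ hχ
    have hy0 : MemLocalIdeal M (Cfsg.centralChar (χ : G → ℂ) y) := by
      by_contra h
      exact hχ ((hι₀ _).2 (goodBlock_of_unit hM (isPBlock_blockOf M χ) (self_mem_blockOf hM χ) hy h))
    rw [ht]
    refine memLocalIdeal_mul hM (memLocalRing_mul hM
      (memLocalRing_natCast_inv hM not_dvd_pCompl) (memLocalRing_natCast hM _)) ?_
    rw [mul_div_right_comm]
    exact memLocalIdeal_mul hM (hval χ) hy0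
  have hmem : ∀ (χ : Cfsg.IrrCharacter G) (B : Set (Cfsg.IrrCharacter G)), B ∈ ι₀ →
      (χ ∈ B ↔ blockOf M (χ : G → ℂ) = B) := fun χ B hB =>
    ⟨fun h => (isPBlock_eq_blockOf hM ((hι₀ B).1 hB).1 h).symm,
      fun h => h ▸ self_mem_blockOf hM χ⟩
  rw [← Finset.sum_filter_add_sum_filter_not Finset.univ
    (fun χ : Cfsg.IrrCharacter G => blockOf M (χ : G → ℂ) ∈ ι₀), add_sub_right_comm]
  refine memLocalIdeal_add hM ?_
    (memLocalIdeal_sum hM _ _ fun χ hχ => hout χ (Finset.mem_filter.1 hχ).2)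
  rw [← Finset.sum_fiberwise_of_maps_to (g := fun χ : Cfsg.IrrCharacter G => blockOf M (χ : G → ℂ))
    (t := ι₀) (fun χ hχ => (Finset.mem_filter.1 hχ).2), ← Finset.sum_sub_distrib]
  refine memLocalIdeal_sum hM _ _ fun B hB => ?_
  have hg := (hι₀ B).1 hB
  have hsum : dimUnit p D B = ∑ χ ∈ (((Finset.univ.filter fun χ : Cfsg.IrrCharacter G =>
      blockOf M (χ : G → ℂ) ∈ ι₀).filter fun χ : Cfsg.IrrCharacter G => blockOf M (χ : G → ℂ) = B)
        : Finset (Cfsg.IrrCharacter G)),
      (pCompl p G : ℂ)⁻¹ * (r χ : ℂ) * ((χ : G → ℂ) 1 / (c : ℂ)) := by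
    have h1 : ∑ s ∈ Finset.univ.filter (fun s : G => s ∈ (S : Subgroup G)),
        Cfsg.blockCoeff B s = Cfsg.blockCoeff B 1 := by
      rw [Finset.sum_eq_single (1 : G)]
      · intro s hs hs1
        refine blockCoeff_eq_zero_of_singular hM hg.1 ?_
        by_contra hn
        exact hs1 (H86.eq_one_of_pPow (H86.pPow_orderOf S.2 (Finset.mem_filter.1 hs).2) hn)
      · simp
    rw [dimUnit, ← h1]
    simp only [Cfsg.blockCoeff, finsum_mem_eq_sum_ite]
    rw [← Finset.mul_sum, Finset.sum_comm, Finset.mul_sum, Finset.sum_div]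
    rw [show ((Finset.univ.filter fun χ : Cfsg.IrrCharacter G => blockOf M (χ : G → ℂ) ∈ ι₀).filter
      fun χ : Cfsg.IrrCharacter G => blockOf M (χ : G → ℂ) = B) =
        (Finset.univ : Finset (Cfsg.IrrCharacter G)).filter (fun χ => χ ∈ B) from by
        ext χ
        simp only [Finset.mem_filter, Finset.mem_univ, true_and, hmem χ B hB]
        exact ⟨fun h => h.2, fun h => ⟨h ▸ hB, h⟩⟩, Finset.sum_filter]
    refine Finset.sum_congr rfl fun χ _ => ?_
    split_ifs
    · rw [← Finset.mul_sum, hr, hS, card_eq_mul_pCompl (p := p) (G := G)]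
      have := pPow_ne_zero (p := p) ((Nat.card G).factorization p)
      have := pCompl_ne_zero (p := p) (G := G)
      field_simp
      rw [hc]
    · simp
  rw [hsum, mul_assoc (Cfsg.centralChar _ x⁻¹), Finset.sum_mul, Finset.mul_sum,
    ← Finset.sum_sub_distrib]
  refine memLocalIdeal_sum hM _ _ fun χ hχ => ?_
  have hχB : χ ∈ B := (hmem χ B hB).2 (Finset.mem_filter.1 hχ).2
  have hd : MemLocalRing M ((χ : G → ℂ) 1 / (c : ℂ)) := by
    rw [apply_one_eq_charDegree]
    exact memLocalRing_div_pow hM (degree_ge hM hg hχB)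
  have e : t χ - Cfsg.centralChar (rep B : G → ℂ) x⁻¹ *
      ((pCompl p G : ℂ)⁻¹ * (r χ : ℂ) * ((χ : G → ℂ) 1 / (c : ℂ)) *
        Cfsg.centralChar (rep B : G → ℂ) y) =
      ((pCompl p G : ℂ)⁻¹ * (r χ : ℂ) * ((χ : G → ℂ) 1 / (c : ℂ))) *
        ((Cfsg.centralChar (χ : G → ℂ) x⁻¹ - Cfsg.centralChar (rep B : G → ℂ) x⁻¹) *
          Cfsg.centralChar (χ : G → ℂ) y + Cfsg.centralChar (rep B : G → ℂ) x⁻¹ *
          (Cfsg.centralChar (χ : G → ℂ) y - Cfsg.centralChar (rep B : G → ℂ) y)) := by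
    rw [ht]; ring
  rw [e]
  have hs := isPBlock_sameBlock hM hg.1 hχB (hrep B hB)
  refine memLocalIdeal_mul hM (memLocalRing_mul hM (memLocalRing_mul hM
    (memLocalRing_natCast_inv hM not_dvd_pCompl) (memLocalRing_natCast hM _)) hd)
    (memLocalIdeal_add hM ?_ (memLocalIdeal_mul hM (memLocalRing_centralChar hM (rep B).2 _) (hs y)))
  rw [mul_comm]
  exact memLocalIdeal_mul hM (memLocalRing_centralChar hM χ.2 _) (hs _)

open scoped Classical in
/-- The number of blocks with defect group `D` is the rank of the matrix of class pairs. -/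
theorem card_goodBlock_eq_rank (hM : IsPModular p M) [D.Normal] (hD : IsPGroup p D)
    (S : Sylow p G) {ι : Type*} [Fintype ι] [DecidableEq ι] (x : ι → G)
    (hx : ∀ i, InD p D (x i)) (hinj : ∀ i j, IsConj (x i) (x j) → i = j)
    (hsurj : ∀ y : G, InD p D y → ∃ i, IsConj (x i) y) :
    Nat.card {B : Set (Cfsg.IrrCharacter G) // GoodBlock p M D B} =
      (Matrix.of fun i j : ι => ((Nat.card {yz : G × G // IsConj (x i) yz.1 ∧ IsConj (x j) yz.2 ∧
        yz.2 * yz.1⁻¹ ∈ (S : Subgroup G)} /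
        p ^ ((Nat.card G).factorization p - (Nat.card D).factorization p) : ℕ) : ZMod p)).rank := by
  haveI : Finite (ConjClasses G) := Finite.of_surjective _ ConjClasses.mk_surjective
  haveI : Fintype (ConjClasses G) := Fintype.ofFinite _
  haveI := Fintype.ofFinite (Set (Cfsg.IrrCharacter G))
  set δ := (Nat.card G).factorization p - (Nat.card D).factorization p with hδ
  set ι₀ : Finset (Set (Cfsg.IrrCharacter G)) :=
    Finset.univ.filter (fun B => GoodBlock p M D B) with hι₀def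
  have hι₀ : ∀ B, B ∈ ι₀ ↔ GoodBlock p M D B := fun B => by simp [hι₀def]
  haveI : Inhabited (Cfsg.IrrCharacter G) := ⟨trivialIrr⟩
  let rep : Set (Cfsg.IrrCharacter G) → Cfsg.IrrCharacter G := fun B =>
    if h : B.Nonempty then h.choose else default
  have hrep : ∀ B ∈ ι₀, rep B ∈ B := fun B hB => by
    have h : B.Nonempty := isPBlock_nonempty hM ((hι₀ B).1 hB).1
    simp only [rep, dif_pos h]
    exact h.choose_spec
  haveI := locMax_isMaximal hM
  letI : Field (locRing hM ⧸ locMax hM) := Ideal.Quotient.field _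
  haveI : CharP (locRing hM ⧸ locMax hM) p :=
    (CharP.charP_iff_prime_eq_zero hp.out).mpr (by
      rw [← map_natCast (Ideal.Quotient.mk (locMax hM)), Ideal.Quotient.eq_zero_iff_mem]
      exact natCast_p_mem_locMax hM)
  set q := Ideal.Quotient.mk (locMax hM) with hq
  have qeq : ∀ {a b : locRing hM}, MemLocalIdeal M ((a : ℂ) - (b : ℂ)) → q a = q b := fun h => by
    rw [hq, Ideal.Quotient.mk_eq_mk_iff_sub_mem, mem_locMax]
    exact h
  have hω : ∀ (χ : Cfsg.IrrCharacter G) (g : G),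
      MemLocalRing M (Cfsg.centralChar (χ : G → ℂ) g) :=
    fun χ g => memLocalRing_centralChar hM χ.2 g
  have he : ∀ (B : ι₀) (g : G), MemLocalRing M (Cfsg.blockCoeff (B : Set (Cfsg.IrrCharacter G)) g) :=
    fun B g => memLocalRing_blockCoeff hM ((hι₀ _).1 B.2).1 g
  let V : Matrix ι ι₀ (locRing hM ⧸ locMax hM) :=
    Matrix.of fun i B => q ⟨_, hω (rep B) (x i)⁻¹⟩
  let W : Matrix ι₀ ι (locRing hM ⧸ locMax hM) :=
    Matrix.of fun B j => q ⟨_, hω (rep B) (x j)⟩
  let U : ι₀ → (locRing hM ⧸ locMax hM) := fun B =>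
    q ⟨_, memLocalRing_dimUnit hM hD ((hι₀ _).1 B.2)⟩
  let E : Matrix ι₀ ι (locRing hM ⧸ locMax hM) := Matrix.of fun B i => q ⟨_, he B (x i)⁻¹⟩
  let E' : Matrix ι ι₀ (locRing hM ⧸ locMax hM) := Matrix.of fun i B => q ⟨_, he B (x i)⟩
  let f : ZMod p →+* (locRing hM ⧸ locMax hM) := ZMod.castHom dvd_rfl _
  set A : Matrix ι ι (ZMod p) := Matrix.of fun i j : ι => ((Nat.card {yz : G × G //
    IsConj (x i) yz.1 ∧ IsConj (x j) yz.2 ∧ yz.2 * yz.1⁻¹ ∈ (S : Subgroup G)} / p ^ δ : ℕ) : ZMod p)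
    with hA
  have hAmap : A.map f = V * Matrix.diagonal U * W := by
    ext i j
    set N := Nat.card {yz : G × G //
      IsConj (x i) yz.1 ∧ IsConj (x j) yz.2 ∧ yz.2 * yz.1⁻¹ ∈ (S : Subgroup G)} with hN
    have hc := pairs_congr hM hD S hι₀ rep hrep (hx i) (hx j)
    rw [← hN, ← hδ] at hc
    have hsum : MemLocalRing M (∑ B ∈ ι₀, Cfsg.centralChar (rep B : G → ℂ) (x i)⁻¹ *
        dimUnit p D B * Cfsg.centralChar (rep B : G → ℂ) (x j)) := by
      refine sum_mem (S := locRing hM) fun B hB => ?_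
      exact memLocalRing_mul hM (memLocalRing_mul hM (hω _ _)
        (memLocalRing_dimUnit hM hD ((hι₀ _).1 hB))) (hω _ _)
    have hdiv : p ^ δ ∣ N := by
      have h1 : MemLocalRing M (((N : ℤ) : ℂ) / ((p ^ δ : ℕ) : ℂ)) := by
        rw [Int.cast_natCast]
        simpa using memLocalRing_add hM (MemLocalIdeal.memLocalRing hc) hsum
      have h2 := pow_dvd_of_memLocalRing hM (pow_ne_zero δ hp.out.ne_zero) h1
      rw [Nat.Prime.factorization_pow hp.out, Finsupp.single_eq_same] at h2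
      exact_mod_cast h2
    rw [Matrix.map_apply, hA, Matrix.of_apply, map_natCast, ← map_natCast q,
      qeq (b := ⟨_, hsum⟩) (by
        rw [← (locRing hM).subtype_apply, map_natCast, Nat.cast_div hdiv (pPow_ne_zero δ)]
        exact hc)]
    rw [show (⟨_, hsum⟩ : locRing hM) = ∑ B : ι₀, (⟨_, hω (rep B) (x i)⁻¹⟩ : locRing hM) *
      ⟨_, memLocalRing_dimUnit hM hD ((hι₀ _).1 B.2)⟩ * ⟨_, hω (rep B) (x j)⟩ from Subtype.ext (by
        rw [AddSubmonoidClass.coe_finsetSum]
        exact (Finset.sum_attach ι₀ _).symm), map_sum, Matrix.mul_apply]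
    refine Finset.sum_congr rfl fun B _ => ?_
    rw [Matrix.mul_diagonal, map_mul, map_mul]
    rfl
  have hinv : ∀ C : ConjClasses G, InD p D C.out → InD p D (C.out)⁻¹ := fun C h => h.inv
  have key : ∀ (g : ι → G), (∀ i, InD p D (g i)) → (∀ i j, IsConj (g i) (g j) → i = j) →
      (∀ y : G, InD p D y → ∃ i, IsConj (g i) y) → ∀ (B B' : ι₀),
      MemLocalIdeal M (∑ i, Cfsg.blockCoeff (B : Set (Cfsg.IrrCharacter G)) (g i) *
        Cfsg.centralChar (rep B' : G → ℂ) (g i) - (if B = B' then 1 else 0)) := by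
    intro g hg hgi hgs B B'
    have hgood := (hι₀ _).1 B.2
    have hiff : rep B' ∈ (B : Set (Cfsg.IrrCharacter G)) ↔ B = B' :=
      ⟨fun h => Subtype.ext (isPBlock_eq_of_mem hM hgood.1 ((hι₀ _).1 B'.2).1 h (hrep _ B'.2)),
        fun h => h ▸ hrep _ B.2⟩
    have h1 := sum_blockCoeff_omega hM hD hgood (rep B')
    rw [if_congr hiff rfl rfl] at h1
    convert h1 using 2
    refine Finset.sum_bij (fun i _ => ConjClasses.mk (g i)) (fun i _ => ?_) (fun i _ j _ e => ?_)
      (fun C hC => ?_) (fun i _ => ?_)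
    · exact Finset.mem_filter.2 ⟨Finset.mem_univ _, (hg i).conj (isConj_out_inv (g i)).symm⟩
    · exact hgi i j (ConjClasses.mk_eq_mk_iff_isConj.1 e)
    · obtain ⟨i, hi⟩ := hgs _ (Finset.mem_filter.1 hC).2
      exact ⟨i, Finset.mem_univ _,
        (ConjClasses.mk_eq_mk_iff_isConj.2 hi).trans (Quotient.out_eq C)⟩
    · rw [H35.blockCoeff_eq_of_isConj _ (isConj_out_inv (g i)),
        H35.centralChar_eq_of_isConj (rep B') (isConj_out_inv (g i))]
  have hEV : E * V = 1 := by
    ext B B'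
    have h1 := key (fun i => (x i)⁻¹) (fun i => (hx i).inv)
      (fun i j e => hinj i j (by simpa using isConj_inv_inv e))
      (fun y hy => (hsurj _ hy.inv).imp fun i hi => by simpa using isConj_inv_inv hi) B B'
    rw [Matrix.mul_apply, Matrix.one_apply]
    simp only [E, V, Matrix.of_apply, ← map_mul, ← map_sum]
    split_ifs at h1 ⊢ with h
    · rw [← map_one q]
      exact qeq (by rw [AddSubmonoidClass.coe_finsetSum]; exact h1)
    · rw [← map_zero q]
      exact qeq (by rw [AddSubmonoidClass.coe_finsetSum]; exact h1)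
  have hWE : W * E' = 1 := by
    ext B B'
    have h1 := key x hx hinj hsurj B' B
    rw [Matrix.mul_apply, Matrix.one_apply]
    simp only [E', W, Matrix.of_apply, ← map_mul, ← map_sum]
    by_cases h : B = B'
    · subst h
      rw [if_pos rfl] at h1 ⊢
      rw [← map_one q]
      refine qeq ?_
      rw [AddSubmonoidClass.coe_finsetSum]
      simpa only [mul_comm, MulMemClass.coe_mul, OneMemClass.coe_one] using h1
    · rw [if_neg h]
      rw [if_neg (Ne.symm h)] at h1
      rw [← map_zero q]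
      refine qeq ?_
      rw [AddSubmonoidClass.coe_finsetSum]
      simpa only [mul_comm, MulMemClass.coe_mul, ZeroMemClass.coe_zero] using h1
  have hU : ∀ B, U B ≠ 0 := by
    intro B h
    rw [Ideal.Quotient.eq_zero_iff_mem, mem_locMax] at h
    exact not_memLocalIdeal_dimUnit hM hD ((hι₀ _).1 B.2) h
  have hdiag : (Matrix.diagonal U).rank = ι₀.card := by
    rw [Matrix.rank_diagonal, ← Fintype.card_coe ι₀]
    exact Fintype.card_congr (Equiv.subtypeUnivEquiv hU)
  have hrank : (A.map f).rank = ι₀.card := by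
    refine le_antisymm ?_ ?_
    · rw [hAmap, ← Fintype.card_coe ι₀]
      exact (Matrix.rank_mul_le_left _ _).trans
        ((Matrix.rank_mul_le_left _ _).trans (Matrix.rank_le_card_width _))
    · rw [← hdiag]
      have e : Matrix.diagonal U = E * (A.map f) * E' := by
        rw [hAmap, Matrix.mul_assoc V, ← Matrix.mul_assoc E, hEV, Matrix.one_mul, Matrix.mul_assoc,
          hWE, Matrix.mul_one]
      rw [e]
      exact (Matrix.rank_mul_le_left _ _).trans (Matrix.rank_mul_le_right _ _)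
  rw [← rank_map_ringHom f A, hrank, Nat.card_eq_fintype_card, Fintype.card_subtype]

end Cfsg.Agent.H80
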