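import Cfsg.Agent.H83.MajorSubsection
import Cfsg.Agent.H25.KleinDefect
import Cfsg.Agent.H82.MaxPair

/-!
Blocks with at most one more irreducible character than the p-regular rank: all nontrivial
elements of a defect group are conjugate and their subsections have rank one.
-/

open scoped ComplexConjugate

namespace Cfsg.Agent.H80

universe u

variable {G : Type u} [Group G] [Fintype G] {p : ℕ} [hp : Fact p.Prime] {M : Ideal Cfsg.AlgInt}

open scoped Classical in
/-- A p-element commuting with a defect class element has a subsection in the block. -/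
theorem exists_inducing_block (hM : Cfsg.IsPModular p M) {B : Set (Cfsg.IrrCharacter G)}
    (hB : Cfsg.IsPBlock M B) {y : G} (hy : Cfsg.IsDefectClass M B y) {z : G} {k : ℕ}
    (hz : orderOf z = p ^ k) (hzy : Commute z y) :
    ∃ b : Set (Cfsg.IrrCharacter ↥(Subgroup.centralizer ({z} : Set G))),
      Cfsg.IsInducedBlock M (Subgroup.centralizer ({z} : Set G)) b B := by
  set C := Subgroup.centralizer ({z} : Set G) with hCdef
  haveI : Fintype C := Fintype.ofFinite _
  set yC : C := ⟨y, Subgroup.mem_centralizer_singleton_iff.2 hzy.symm⟩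
  have hyreg : ¬ p ∣ orderOf yC := by
    rw [← Subgroup.orderOf_coe]
    exact H35.not_dvd_orderOf_of_isDefectClass hM hB hy
  obtain ⟨χ, hχ, h0⟩ := H83.exists_height_zero hM hB
  have hunit := H35.unit_value_mul hM hB hy ⟨k, hz⟩ hzy hχ h0
  set θ : C → ℂ := fun c => (χ : G → ℂ) (z * (c : G)) with hθ
  have hexp := congrFun (CharBasic.classFunction_expansion
    (H83.isClassFunction_shift (x := z) χ)) yC
  simp only [Finset.sum_apply, Pi.smul_apply, smul_eq_mul] at hexp
  have hfull : θ yC = ∑ b ∈ Finset.univ.filter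
      (fun b : Set (Cfsg.IrrCharacter C) => Cfsg.IsPBlock M b), Cfsg.blockPart b θ yC := by
    rw [show θ yC = _ from hexp]
    simp only [Cfsg.blockPart, Subsingleton.elim (Fintype.ofFinite C) ‹Fintype C›,
      BlockBasic.finsum_mem_eq_sum_ite]
    rw [Finset.sum_comm]
    refine Finset.sum_congr rfl fun ψ _ => ?_
    rw [Finset.sum_eq_single (Cfsg.blockOf M (ψ : C → ℂ))]
    · rw [if_pos (BlockBasic.self_mem_blockOf hM ψ)]
      congr!
    · exact fun b hb hne => if_neg fun h =>
        hne (BlockBasic.isPBlock_eq_blockOf hM (Finset.mem_filter.1 hb).2 h)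
    · exact fun h => absurd (Finset.mem_filter.2 ⟨Finset.mem_univ _, BlockBasic.isPBlock_blockOf M ψ⟩) h
  obtain ⟨b, hb, hbu⟩ : ∃ b : Set (Cfsg.IrrCharacter C), Cfsg.IsPBlock M b ∧
      ¬ Cfsg.MemLocalIdeal M (Cfsg.blockPart b θ yC) := by
    by_contra h
    push Not at h
    refine hunit ?_
    rw [show (χ : G → ℂ) (z * y) = θ yC from rfl, hfull]
    exact BlockBasic.memLocalIdeal_sum hM _ _ fun b hb => h b (Finset.mem_filter.1 hb).2
  refine ⟨b, ?_⟩
  by_contra hn
  refine hbu ?_
  rw [show Cfsg.blockPart b θ yC = 0 from Cores.second_main hM hz hB hχ hb hn yC hyreg]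
  exact BlockBasic.memLocalIdeal_zero hM

open scoped Classical in
/-- If a block has at most one more character than its p-regular rank, then the nontrivial
elements of a defect group form one class and each of their subsections has rank at most one. -/
theorem defect_conj_of_card_le (hM : Cfsg.IsPModular p M) {B : Set (Cfsg.IrrCharacter G)}
    (hB : Cfsg.IsPBlock M B) (hk : Nat.card B ≤ Cfsg.blockRank p B + 1) {D : Subgroup G}
    (hD : Cfsg.IsDefectGroup p M B D) {x : G} (hxD : x ∈ D) (hx1 : x ≠ 1) :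
    (∀ y ∈ D, y ≠ 1 → IsConj x y) ∧
      ∀ b : Set (Cfsg.IrrCharacter ↥(Subgroup.centralizer ({x} : Set G))),
        Cfsg.IsInducedBlock M (Subgroup.centralizer ({x} : Set G)) b B →
          Cfsg.blockRank p b ≤ 1 := by
  obtain ⟨g, hg, P, rfl⟩ := hD
  have hpe : ∀ y ∈ (P : Subgroup (Subgroup.centralizer ({g} : Set G))).map
      (Subgroup.centralizer ({g} : Set G)).subtype, (∃ k, orderOf y = p ^ k) ∧ Commute y g := by
    rintro _ ⟨w, hw, rfl⟩
    refine ⟨?_, Subgroup.mem_centralizer_singleton_iff.1 w.2⟩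
    obtain ⟨k, hk⟩ := IsPGroup.iff_orderOf.1 P.2 ⟨w, hw⟩
    exact ⟨k, by rw [Subgroup.coe_subtype, Subgroup.orderOf_coe, ← Subgroup.orderOf_mk w hw, hk]⟩
  haveI : Finite (ConjClasses G) := Finite.of_surjective _ ConjClasses.mk_surjective
  let _ : Fintype (ConjClasses G) := Fintype.ofFinite _
  let r : ConjClasses G → G := fun C => if C = ConjClasses.mk x then x else C.out
  have hr : ∀ C, ConjClasses.mk (r C) = C := by
    intro C
    simp only [r]
    split_ifs with h
    · exact h.symm
    · exact Quotient.out_eq C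
  let X : Finset G := (Finset.univ.image r).filter fun a => ∃ k : ℕ, orderOf a = p ^ k
  have hmemX : ∀ a, (∃ k, orderOf a = p ^ k) → r (ConjClasses.mk a) ∈ X := by
    intro a ha
    refine Finset.mem_filter.2 ⟨Finset.mem_image_of_mem _ (Finset.mem_univ _), ?_⟩
    obtain ⟨c, hc⟩ := isConj_iff.1 (ConjClasses.mk_eq_mk_iff_isConj.1 (hr (ConjClasses.mk a)).symm)
    obtain ⟨k, hk⟩ := ha
    exact ⟨k, by rw [← hc, H82.orderOf_conj, hk]⟩
  have hXrep : ∀ a : G, (∃ k : ℕ, orderOf a = p ^ k) → ∃! b, b ∈ X ∧ IsConj a b := by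
    intro a ha
    refine ⟨r (ConjClasses.mk a), ⟨hmemX a ha,
      ConjClasses.mk_eq_mk_iff_isConj.1 (hr _).symm⟩, ?_⟩
    rintro b ⟨hb, hab⟩
    obtain ⟨C, -, rfl⟩ := Finset.mem_image.1 (Finset.mem_filter.1 hb).1
    rw [ConjClasses.mk_eq_mk_iff_isConj.2 hab, hr]
  have hXp : ∀ a ∈ X, ∃ k : ℕ, orderOf a = p ^ k := fun a ha => (Finset.mem_filter.1 ha).2
  have hxX : x ∈ X := by
    have := hmemX x (hpe x hxD).1
    simpa [r] using this
  have h1X : (1 : G) ∈ X := by
    obtain ⟨a, ⟨ha, h1a⟩, -⟩ := hXrep 1 ⟨0, by simp⟩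
    obtain ⟨c, hc⟩ := isConj_iff.1 h1a
    rw [mul_one, mul_inv_cancel] at hc
    exact hc ▸ ha
  let term : G → ℕ := fun a =>
    ∑ᶠ b ∈ {b : Set (Cfsg.IrrCharacter ↥(Subgroup.centralizer ({a} : Set G))) |
      Cfsg.IsInducedBlock M (Subgroup.centralizer ({a} : Set G)) b B}, Cfsg.blockRank p b
  have hcount : Nat.card B = ∑ a ∈ X, term a :=
    H83.card_block_eq_sum_subsections hM hB X hXp hXrep
  have hle : ∀ (a : G) (b : Set (Cfsg.IrrCharacter ↥(Subgroup.centralizer ({a} : Set G)))),
      Cfsg.IsInducedBlock M (Subgroup.centralizer ({a} : Set G)) b B →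
        Cfsg.blockRank p b ≤ term a := by
    intro a b hb
    simp only [term]
    rw [finsum_mem_eq_finite_toFinset_sum _ (Set.toFinite _)]
    exact Finset.single_le_sum (fun i _ => Nat.zero_le _) ((Set.Finite.mem_toFinset _).2 hb)
  have htop : Subgroup.centralizer ({1} : Set G) = ⊤ := by
    ext g; simp [Subgroup.mem_centralizer_singleton_iff]
  have hfst : term 1 = Cfsg.blockRank p B := by
    simp only [term]
    rw [H25.KleinDefect.induced_of_eq_top hM htop hB
      ((MulEquiv.subgroupCongr htop).trans Subgroup.topEquiv) (fun h => rfl), finsum_mem_singleton,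
      H25.KleinDefect.blockRank_irrComp]
  -- every conjugate of an element of the defect group has a subsection in the block
  have hpos : ∀ a c : G, (a⁻¹ * c * a) ∈ (P : Subgroup (Subgroup.centralizer ({g} : Set G))).map
      (Subgroup.centralizer ({g} : Set G)).subtype → 1 ≤ term c := by
    intro a c hc
    obtain ⟨⟨k, hk⟩, hcg⟩ := hpe _ hc
    have hk' : orderOf c = p ^ k := by
      rw [← hk, ← H82.orderOf_conj (a⁻¹) c, inv_inv]
    have hcomm : Commute c (a * g * a⁻¹) := by
      have h := hcg.eq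
      show c * (a * g * a⁻¹) = a * g * a⁻¹ * c
      calc c * (a * g * a⁻¹) = a * ((a⁻¹ * c * a) * g) * a⁻¹ := by group
        _ = _ := by rw [h]; group
    obtain ⟨b, hb⟩ := exists_inducing_block hM hB (H82.isDefectClass_conj hg a) hk' hcomm
    haveI : Fintype (Subgroup.centralizer ({c} : Set G)) := Fintype.ofFinite _
    exact (H83.blockRank_pos hM hb.1).trans_le (hle c b hb)
  have hrest : ∀ T : Finset G, T ⊆ X.erase 1 → ∑ a ∈ T, term a ≤ 1 := by
    intro T hT
    have h1 := Finset.sum_le_sum_of_subset (f := term) hT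
    have h2 := Finset.add_sum_erase X term h1X
    omega
  refine ⟨fun y hy hy1 => ?_, fun b hb => (hle x b hb).trans ?_⟩
  · by_contra hne
    set y' := r (ConjClasses.mk y)
    have hyy : IsConj y y' := ConjClasses.mk_eq_mk_iff_isConj.1 (hr _).symm
    obtain ⟨a, ha⟩ := isConj_iff.1 hyy
    have hy'1 : y' ≠ 1 := by
      intro h
      rw [h, conj_eq_one_iff] at ha
      exact hy1 ha
    have hxy : x ≠ y' := fun h => hne (h ▸ hyy.symm)
    have h := hrest {x, y'} (Finset.insert_subset_iff.2
      ⟨Finset.mem_erase.2 ⟨hx1, hxX⟩,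
        Finset.singleton_subset_iff.2 (Finset.mem_erase.2 ⟨hy'1, hmemX y (hpe y hy).1⟩)⟩)
    rw [Finset.sum_pair hxy] at h
    have hx' := hpos 1 x (by simpa using hxD)
    have hy'' := hpos a y' (by rw [← ha]; simpa [mul_assoc] using hy)
    omega
  · simpa using hrest {x} (Finset.singleton_subset_iff.2 (Finset.mem_erase.2 ⟨hx1, hxX⟩))

end Cfsg.Agent.H80
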