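import Mathlib.GroupTheory.Sylow
import Cfsg.Prelude.Def_Transfer
import Cfsg.Agent.PGroups.Basic

/-!
An odd Sylow subgroup with all nontrivial elements conjugate and p-nilpotent element
centralizers is commutative.
-/

namespace Cfsg.Agent.H80

variable {G : Type*} [Group G] [Finite G] {p : ℕ} [hp : Fact p.Prime]

/-- In a group with a normal p-complement a p'-element centralizes the p-subgroups it
normalizes. -/
theorem eq_one_of_commutator {H : Type*} [Group H] [Finite H]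
    (hH : Cfsg.HasNormalPComplement p H) {t v : H} (ht : ¬ p ∣ orderOf t)
    (hv : ∃ k, orderOf (t * v * t⁻¹ * v⁻¹) = p ^ k) : t * v * t⁻¹ * v⁻¹ = 1 := by
  obtain ⟨P, N, hN, hc⟩ := hH
  haveI := hN
  obtain ⟨n, hn⟩ := IsPGroup.iff_card.1 P.isPGroup'
  have hidx : N.index = p ^ n := by rw [← hn]; exact hc.symm.index_eq_card
  have hNp : ¬ p ∣ Nat.card N := by
    rw [← hc.index_eq_card]; exact P.not_dvd_index
  have htN : t ∈ N := by
    rw [← QuotientGroup.eq_one_iff (N := N), ← orderOf_eq_one_iff]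
    have h1 : orderOf (t : H ⧸ N) ∣ orderOf t := orderOf_map_dvd (QuotientGroup.mk' N) t
    have h2 : orderOf (t : H ⧸ N) ∣ p ^ n := by
      rw [← hidx, Subgroup.index_eq_card]; exact orderOf_dvd_natCard _
    exact Nat.eq_one_of_dvd_coprimes
      ((hp.out.coprime_iff_not_dvd.2 ht).symm.pow_right n) h1 h2
  have hmem : t * v * t⁻¹ * v⁻¹ ∈ N := by
    have h : t * (v * t⁻¹ * v⁻¹) ∈ N := N.mul_mem htN (hN.conj_mem _ (N.inv_mem htN) v)
    simpa [mul_assoc] using h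
  obtain ⟨k, hk⟩ := hv
  have h3 := Subgroup.orderOf_dvd_natCard (s := N) hmem
  rw [hk] at h3
  cases k with
  | zero => rw [pow_zero] at hk; exact orderOf_eq_one_iff.1 hk
  | succ k => exact absurd ((dvd_pow_self p k.succ_ne_zero).trans h3) hNp

/-- A p'-element of the normalizer fixing `x` centralizes `C_P(x)`. -/
theorem commute_of_fixes (P : Sylow p G) {x y t : G}
    (hxnil : Cfsg.HasNormalPComplement p (Subgroup.centralizer ({x} : Set G)))
    (ht : t ∈ Subgroup.normalizer ((P : Subgroup G) : Set G)) (htp : ¬ p ∣ orderOf t)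
    (htx : Commute t x) (hy : y ∈ (P : Subgroup G)) (hyx : Commute y x) : Commute t y := by
  set C := Subgroup.centralizer ({x} : Set G)
  let tC : C := ⟨t, Subgroup.mem_centralizer_singleton_iff.2 htx.eq⟩
  let yC : C := ⟨y, Subgroup.mem_centralizer_singleton_iff.2 hyx.eq⟩
  have hmem : t * y * t⁻¹ * y⁻¹ ∈ (P : Subgroup G) :=
    P.mul_mem ((Subgroup.mem_normalizer_iff.1 ht y).1 hy) (P.inv_mem hy)
  obtain ⟨k, hk⟩ := IsPGroup.iff_orderOf.1 P.2 ⟨_, hmem⟩
  rw [Subgroup.orderOf_mk] at hk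
  have h := congrArg Subtype.val (eq_one_of_commutator hxnil (t := tC) (v := yC)
    (by rwa [← Subgroup.orderOf_coe])
    ⟨k, by rw [← Subgroup.orderOf_coe]; exact hk⟩)
  have h' : t * y * t⁻¹ * y⁻¹ = 1 := h
  exact mul_inv_eq_iff_eq_mul.1 (mul_inv_eq_one.1 h')

/-- The odd Sylow subgroup is commutative. -/
theorem isMulCommutative_sylow (P : Sylow p G) (hp2 : p ≠ 2)
    (hconj : ∀ x ∈ (P : Subgroup G), ∀ y ∈ (P : Subgroup G), x ≠ 1 → y ≠ 1 → IsConj x y)
    (hnil : ∀ x ∈ (P : Subgroup G), x ≠ 1 →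
      Cfsg.HasNormalPComplement p (Subgroup.centralizer ({x} : Set G))) :
    IsMulCommutative (P : Subgroup G) := by
  rcases subsingleton_or_nontrivial (P : Subgroup G) with hs | hs
  · exact ⟨⟨fun a b => Subsingleton.elim _ _⟩⟩
  haveI := P.2.center_nontrivial
  obtain ⟨⟨⟨z, hzP⟩, hzc⟩, hz1'⟩ := exists_ne (1 : Subgroup.center (P : Subgroup G))
  have hz1 : z ≠ 1 := fun h => hz1' (by subst h; rfl)
  have hzcomm : ∀ y ∈ (P : Subgroup G), Commute y z := fun y hy =>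
    congrArg Subtype.val (Subgroup.mem_center_iff.1 hzc ⟨y, hy⟩)
  have hzinv : z ≠ z⁻¹ := by
    intro h
    have h2 : z ^ 2 = 1 := by rw [pow_two]; exact mul_eq_one_iff_eq_inv.2 h
    obtain ⟨k, hk⟩ := IsPGroup.iff_orderOf.1 P.2 ⟨z, hzP⟩
    rw [Subgroup.orderOf_mk] at hk
    have h3 := orderOf_dvd_of_pow_eq_one h2
    cases k with
    | zero => rw [pow_zero] at hk; exact hz1 (orderOf_eq_one_iff.1 hk)
    | succ k =>
      rw [hk] at h3
      exact hp2 ((Nat.prime_dvd_prime_iff_eq hp.out Nat.prime_two).1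
        ((dvd_pow_self p k.succ_ne_zero).trans h3))
  have hzC : z ∈ Subgroup.centralizer ((P : Subgroup G) : Set G) :=
    Subgroup.mem_centralizer_iff.2 fun y hy => hzcomm y hy
  obtain ⟨a, ha⟩ := isConj_iff.1 (hconj z hzP z⁻¹ (P.inv_mem hzP) hz1 (by simpa using hz1))
  obtain ⟨n₀, hn₀, hn₀z⟩ := P.conj_eq_normalizer_conj_of_mem_centralizer z a⁻¹ hzC
    (by rw [inv_inv, ha]; exact (Subgroup.centralizer _).inv_mem hzC)
  rw [inv_inv, ha] at hn₀z
  set n := n₀⁻¹ with hndef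
  have hn : n ∈ Subgroup.normalizer ((P : Subgroup G) : Set G) := Subgroup.inv_mem _ hn₀
  have hnz : n * z * n⁻¹ = z⁻¹ := by rw [hndef, inv_inv]; exact hn₀z.symm
  have hn2 : Commute (n ^ 2) z := by
    show n ^ 2 * z = z * n ^ 2
    calc n ^ 2 * z = n * (n * z * n⁻¹) * n⁻¹ * n ^ 2 := by rw [pow_two]; group
      _ = n * z⁻¹ * n⁻¹ * n ^ 2 := by rw [hnz]
      _ = (n * z * n⁻¹)⁻¹ * n ^ 2 := by group
      _ = z * n ^ 2 := by rw [hnz, inv_inv]
  obtain ⟨k, m, hm, hord⟩ := Nat.exists_eq_two_pow_mul_odd (orderOf_pos n).ne'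
  obtain ⟨j, rfl⟩ := hm
  set t := n ^ (2 * j + 1) with htdef
  have htN : t ∈ Subgroup.normalizer ((P : Subgroup G) : Set G) := Subgroup.pow_mem _ hn _
  have htz : t * z * t⁻¹ = z⁻¹ := by
    rw [htdef, pow_succ', pow_mul]
    calc n * (n ^ 2) ^ j * z * (n * (n ^ 2) ^ j)⁻¹
        = n * ((n ^ 2) ^ j * z * ((n ^ 2) ^ j)⁻¹) * n⁻¹ := by group
      _ = z⁻¹ := by rw [(hn2.pow_left j).eq, mul_inv_cancel_right, hnz]
  have htp : ∀ i : ℕ, ¬ p ∣ orderOf (t ^ i) := by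
    intro i h
    have h1 : t ^ (2 ^ k) = 1 := by
      rw [htdef, ← pow_mul, mul_comm, ← hord, pow_orderOf_eq_one]
    have h2 : orderOf (t ^ i) ∣ 2 ^ k :=
      orderOf_dvd_of_pow_eq_one (by rw [← pow_mul, mul_comm, pow_mul, h1, one_pow])
    exact hp2 ((Nat.prime_dvd_prime_iff_eq hp.out Nat.prime_two).1
      (hp.out.dvd_of_dvd_pow (h.trans h2)))
  have ht1 : ¬ p ∣ orderOf t := by simpa using htp 1
  have hfix : ∀ x ∈ (P : Subgroup G), x ≠ 1 → ¬ Commute t x := by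
    intro x hx hx1 htx
    have h := commute_of_fixes P (hnil x hx hx1) htN ht1 htx hzP (hzcomm x hx).symm
    apply hzinv
    rw [← htz, h.eq, mul_inv_cancel_right]
  have ht2 : ∀ y ∈ (P : Subgroup G), t ^ 2 * y * (t ^ 2)⁻¹ = y := by
    intro y hy
    have h2z : Commute (t ^ 2) z := by
      show t ^ 2 * z = z * t ^ 2
      calc t ^ 2 * z = t * (t * z * t⁻¹) * t⁻¹ * t ^ 2 := by rw [pow_two]; group
        _ = t * z⁻¹ * t⁻¹ * t ^ 2 := by rw [htz]
        _ = (t * z * t⁻¹)⁻¹ * t ^ 2 := by group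
        _ = z * t ^ 2 := by rw [htz, inv_inv]
    rw [(commute_of_fixes P (hnil z hzP hz1) (Subgroup.pow_mem _ htN 2) (htp 2) h2z hy
      (hzcomm y hy)).eq, mul_inv_cancel_right]
  let φ : ↥(P : Subgroup G) → ↥(P : Subgroup G) := fun y =>
    ⟨(y : G)⁻¹ * (t * y * t⁻¹),
      P.mul_mem (P.inv_mem y.2) ((Subgroup.mem_normalizer_iff.1 htN y).1 y.2)⟩
  have hinj : Function.Injective φ := by
    intro y y' h
    have h' : (y : G)⁻¹ * (t * y * t⁻¹) = (y' : G)⁻¹ * (t * y' * t⁻¹) := congrArg Subtype.val h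
    by_contra hne
    apply hfix ((y' : G) * (y : G)⁻¹) (P.mul_mem y'.2 (P.inv_mem y.2))
      (fun e => hne (Subtype.ext (mul_inv_eq_one.1 e).symm))
    show t * ((y' : G) * (y : G)⁻¹) = (y' : G) * (y : G)⁻¹ * t
    have e1 : (y' : G) * (y : G)⁻¹ = (t * y' * t⁻¹) * (t * y * t⁻¹)⁻¹ :=
      calc (y' : G) * (y : G)⁻¹
          = (y' : G) * ((y : G)⁻¹ * (t * y * t⁻¹)) * (t * y * t⁻¹)⁻¹ := by group
        _ = _ := by rw [h']; group
    conv_rhs => rw [e1]
    group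
  have hinv : ∀ w ∈ (P : Subgroup G), t * w * t⁻¹ = w⁻¹ := by
    intro w hw
    obtain ⟨y, hy⟩ := Finite.surjective_of_injective hinj ⟨w, hw⟩
    have e : (y : G)⁻¹ * (t * y * t⁻¹) = w := congrArg Subtype.val hy
    rw [← e]
    calc t * ((y : G)⁻¹ * (t * y * t⁻¹)) * t⁻¹
        = (t * y * t⁻¹)⁻¹ * (t ^ 2 * y * (t ^ 2)⁻¹) := by group
      _ = _ := by rw [ht2 _ y.2]; group
  refine ⟨⟨fun a b => Subtype.ext ?_⟩⟩
  have h := hinv ((b : G) * a) (P.mul_mem b.2 a.2)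
  rw [show t * ((b : G) * a) * t⁻¹ = (t * b * t⁻¹) * (t * a * t⁻¹) by group,
    hinv _ b.2, hinv _ a.2, ← mul_inv_rev] at h
  exact inv_injective h

end Cfsg.Agent.H80
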