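import Cfsg.Agent.H80.OneMore
import Cfsg.Agent.S4435
import Cfsg.Agent.S4436
import Cfsg.Agent.S4492
import Cfsg.Agent.Cores.Constrained
import Cfsg.Agent.Cores.PSolvable
import Cfsg.Agent.H82.OverThetaLocal

/-!
p-solvable groups: a block with at most one more character than its p-regular rank has
commutative defect groups.
-/

namespace Cfsg.Agent.H80

universe u

variable {p : ℕ} [hp : Fact p.Prime] {M : Ideal Cfsg.AlgInt}

/-- Induction commutes with the restriction to the p-regular elements. -/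
theorem pRegularPart_indFun {G : Type u} [Group G] [Fintype G] (T : Subgroup G) (ψ : T → ℂ) :
    Cfsg.pRegularPart p (Cfsg.indFun T ψ) = Cfsg.indFun T (Cfsg.pRegularPart p ψ) := by
  classical
  funext g
  have hord : ∀ x : G, orderOf (x⁻¹ * g * x) = orderOf g := fun x => by
    simpa using H82.orderOf_conj x⁻¹ g
  have hterm : ∀ x : G, Cfsg.extendByZero T (Cfsg.pRegularPart p ψ) (x⁻¹ * g * x) =
      if Cfsg.IsPRegular p g then Cfsg.extendByZero T ψ (x⁻¹ * g * x) else 0 := by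
    intro x
    by_cases hx : x⁻¹ * g * x ∈ T
    · rw [CharInduce.extendByZero_of_mem _ hx, CharInduce.extendByZero_of_mem _ hx]
      simp only [Cfsg.pRegularPart, Cfsg.IsPRegular, Subgroup.orderOf_mk, hord]
      by_cases hr : p ∣ orderOf g <;> simp [hr]
    · rw [CharInduce.extendByZero_of_not_mem _ hx, CharInduce.extendByZero_of_not_mem _ hx, ite_self]
  rw [CharInduce.indFun_apply T (Cfsg.pRegularPart p ψ) g,
    Finset.sum_congr rfl fun x _ => hterm x]
  simp only [Cfsg.pRegularPart]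
  split_ifs with h
  · rw [CharInduce.indFun_apply]
  · simp

/-- The defect groups of a block of full defect with one class of nontrivial elements. -/
theorem isMulCommutative_of_sylow {G : Type u} [Group G] [Fintype G]
    (hsol : Cfsg.IsPSolvable p G) (P : Sylow p G)
    (hconj : ∀ x ∈ (P : Subgroup G), ∀ y ∈ (P : Subgroup G), x ≠ 1 → y ≠ 1 → IsConj x y) :
    IsMulCommutative (P : Subgroup G) := by
  classical
  rcases subsingleton_or_nontrivial (P : Subgroup G) with hs | hs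
  · exact ⟨⟨fun a b => Subsingleton.elim _ _⟩⟩
  set K := Cfsg.pPrimeCore p G with hKdef
  set L := Cfsg.pPrimePCore p G with hLdef
  haveI : K.Normal := by rw [hKdef]; infer_instance
  haveI hLn : L.Normal := by rw [hLdef]; infer_instance
  have hKL : K ≤ L := Cores.pPrimeCore_le_pPrimePCore
  have hKp : ¬ p ∣ Nat.card K := Cores.not_dvd_card_pPrimeCore
  obtain ⟨Q⟩ : Nonempty (Sylow p L) := inferInstance
  -- a nontrivial p-element of `L`
  obtain ⟨w, hwL, hwP, hw1⟩ : ∃ w ∈ L, w ∈ (P : Subgroup G) ∧ w ≠ 1 := by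
    by_cases hQ : (Q : Subgroup L) = ⊥
    · have h := Cores.isPConstrained_of_isPSolvable hsol Q
      rw [hQ, Subgroup.map_bot] at h
      obtain ⟨w, hw⟩ := exists_ne (1 : (P : Subgroup G))
      exact ⟨w, h (Subgroup.mem_centralizer_iff.2 fun a ha => by
          obtain rfl : a = 1 := ha
          simp), w.2, fun e => hw (Subtype.ext e)⟩
    · obtain ⟨v, hv, hv1⟩ := (Subgroup.ne_bot_iff_exists_ne_one.1 hQ |>
        fun ⟨⟨v, hv⟩, h⟩ => (⟨v, hv, fun e => h (Subtype.ext e)⟩ :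
          ∃ v, v ∈ (Q : Subgroup L) ∧ v ≠ 1))
      obtain ⟨R, hR⟩ := (Q.2.map L.subtype).exists_le_sylow
      obtain ⟨c, hc⟩ := MulAction.exists_smul_eq G R P
      refine ⟨c * (v : G) * c⁻¹, hLn.conj_mem _ v.2 c, ?_, fun e => hv1 (Subtype.ext
        (conj_eq_one_iff.1 e))⟩
      rw [← hc]
      exact ⟨(v : G), hR ⟨v, hv, rfl⟩, rfl⟩
  have hPL : (P : Subgroup G) ≤ L := by
    intro x hx
    by_cases hx1 : x = 1
    · rw [hx1]; exact L.one_mem
    obtain ⟨c, hc⟩ := isConj_iff.1 (hconj w hwP x hx hw1 hx1)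
    rw [← hc]; exact hLn.conj_mem _ hwL c
  have hinf : K ⊓ (P : Subgroup G) = ⊥ := by
    obtain ⟨n, hn⟩ := IsPGroup.iff_card.1 P.2
    exact Subgroup.inf_eq_bot_of_coprime
      (by rw [hn]; exact ((hp.out.coprime_iff_not_dvd.2 hKp).symm).pow_right n)
  have hsup : (P : Subgroup G) ⊔ K = L := by
    refine Subgroup.eq_of_le_of_card_ge (sup_le hPL hKL) ?_
    obtain ⟨k, hk⟩ := (by rw [hKdef, hLdef]; exact H82.exists_relIndex_pPrimePCore :
      ∃ k : ℕ, K.relIndex L = p ^ k)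
    have h1 : Nat.card L = Nat.card K * p ^ k := by
      rw [← (K.subgroupOf L).card_mul_index,
        Nat.card_congr (Subgroup.subgroupOfEquivOfLe hKL).toEquiv,
        show (K.subgroupOf L).index = p ^ k from hk]
    have h2 : p ^ k ∣ Nat.card (P : Subgroup G) := by
      refine P.pow_dvd_card_of_pow_dvd_card (dvd_trans ?_ (Subgroup.card_subgroup_dvd_card L))
      rw [h1]; exact dvd_mul_left _ _
    have h3 := Cores.card_sup_mul_card_inf (P : Subgroup G) K
    rw [inf_comm, hinf, Subgroup.card_bot, mul_one] at h3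
    rw [h3, h1, mul_comm (Nat.card K)]
    exact Nat.mul_le_mul_right _ (Nat.le_of_dvd Nat.card_pos h2)
  haveI := P.2.center_nontrivial
  obtain ⟨⟨⟨z, hzP⟩, hzc⟩, hz1'⟩ := exists_ne (1 : Subgroup.center (P : Subgroup G))
  have hz1 : z ≠ 1 := fun h => hz1' (by subst h; rfl)
  have hcomm : ∀ l ∈ L, z * l * z⁻¹ * l⁻¹ ∈ K := by
    intro l hl
    rw [← hsup, Subgroup.mem_sup_of_normal_right] at hl
    obtain ⟨d, hd, k, hk, rfl⟩ := hl
    have hzd : z * d = d * z :=
      (congrArg Subtype.val (Subgroup.mem_center_iff.1 hzc ⟨d, hd⟩)).symm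
    rw [show z * (d * k) * z⁻¹ * (d * k)⁻¹ = (z * d) * k * z⁻¹ * k⁻¹ * d⁻¹ by group, hzd,
      show d * z * k * z⁻¹ * k⁻¹ * d⁻¹ = d * (z * k * z⁻¹ * k⁻¹) * d⁻¹ by group]
    exact ‹K.Normal›.conj_mem _
      (K.mul_mem (‹K.Normal›.conj_mem _ hk z) (K.inv_mem hk)) d
  refine ⟨⟨fun d e => Subtype.ext ?_⟩⟩
  by_cases hd1 : (d : G) = 1
  · simp [hd1]
  obtain ⟨a, ha⟩ := isConj_iff.1 (hconj z hzP d d.2 hz1 hd1)
  have hl : a⁻¹ * (e : G) * a ∈ L := by simpa using hLn.conj_mem _ (hPL e.2) a⁻¹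
  have h1 := ‹K.Normal›.conj_mem _ (hcomm _ hl) a
  have h2 : (d : G) * e * (d : G)⁻¹ * (e : G)⁻¹ ∈ K ⊓ (P : Subgroup G) := by
    refine ⟨?_, P.mul_mem (P.mul_mem (P.mul_mem d.2 e.2) (P.inv_mem d.2)) (P.inv_mem e.2)⟩
    have e1 : (d : G) * e * (d : G)⁻¹ * (e : G)⁻¹ =
        a * (z * (a⁻¹ * (e : G) * a) * z⁻¹ * (a⁻¹ * (e : G) * a)⁻¹) * a⁻¹ := by rw [← ha]; group
    show (d : G) * e * (d : G)⁻¹ * (e : G)⁻¹ ∈ K
    rw [e1]; exact h1
  rw [hinf, Subgroup.mem_bot, mul_inv_eq_one] at h2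
  exact mul_inv_eq_iff_eq_mul.1 h2

theorem isMulCommutative_defect_aux (hM : Cfsg.IsPModular p M) :
    ∀ (n : ℕ) (G : Type u) [Group G] [Fintype G], Nat.card G ≤ n → Cfsg.IsPSolvable p G →
      ∀ B : Set (Cfsg.IrrCharacter G), Cfsg.IsPBlock M B →
        Nat.card B ≤ Cfsg.blockRank p B + 1 →
          ∀ D : Subgroup G, Cfsg.IsDefectGroup p M B D → IsMulCommutative D := by
  classical
  intro n
  induction n with
  | zero => intro G _ _ h; exact absurd h (Nat.not_le.2 Nat.card_pos)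
  | succ n ih =>
  intro G _ _ hn hsol B hB hk D hD
  set K := Cfsg.pPrimeCore p G with hKdef
  haveI : K.Normal := by rw [hKdef]; infer_instance
  haveI : Fintype K := Fintype.ofFinite _
  have hKp : ¬ p ∣ Nat.card K := Cores.not_dvd_card_pPrimeCore
  obtain ⟨χ, hχ⟩ := BlockBasic.isPBlock_nonempty hM hB
  obtain ⟨θ, hθ⟩ := CharInduce.exists_constituent
    (CharInduce.IsChar.comp (CharBasic.IsIrr.isCharacter χ.2) K.subtype)
    (fun h => CharBasic.IsIrr.one_ne_zero χ.2 (by simpa using congrFun h 1))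
  set b : Set (Cfsg.IrrCharacter K) := {θ} with hbdef
  have hb : Cfsg.IsPBlock M b := ⟨θ, ((BlockBasic.blockOf_eq_singleton_iff hM θ).2 fun h =>
    hKp (h.trans (Nat.div_dvd_of_dvd (H83.charDegree_dvd_card θ.2)))).symm⟩
  set T := CharInduce.inertia K (θ : K → ℂ) with hTdef
  haveI : Fintype T := Fintype.ofFinite _
  have hT : ∀ g : G, g ∈ T ↔ ∀ θ₁ ∈ b, ∀ θ' : Cfsg.IrrCharacter K,
      (∀ k : K, (θ' : K → ℂ) k = (θ₁ : K → ℂ) ⟨g * k * g⁻¹, ‹K.Normal›.conj_mem k k.2 g⟩) →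
        θ' ∈ b := by
    intro g
    rw [hTdef, CharInduce.mem_inertia]
    constructor
    · intro hg θ₁ hθ₁ θ' hθ'
      rw [Set.mem_singleton_iff.1 hθ₁] at hθ'
      exact Subtype.ext (funext fun k => (hθ' k).trans (congrFun hg k))
    · intro h
      exact congrArg Subtype.val (show (H1.conjIrr K θ g) = θ from h θ rfl _ fun k => rfl)
  have hKT : K ≤ T := CharInduce.le_inertia K (CharBasic.IsIrr.isClassFunction θ.2)
  by_cases hTtop : T = ⊤
  · -- the constituent is invariant: full defect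
    obtain ⟨B₀, hB₀, hmem, -, hdef⟩ := S4492.result p M hM hsol K hKdef θ fun g k =>
      congrFun (CharInduce.mem_inertia K |>.1 (hTtop ▸ Subgroup.mem_top g : g ∈ T)) k
    have hB0 : B₀ = B := by
      have h1 : χ ∈ B₀ := (hmem χ).2 hθ
      rw [BlockBasic.isPBlock_eq_blockOf hM hB₀ h1, BlockBasic.isPBlock_eq_blockOf hM hB hχ]
    obtain ⟨P, rfl⟩ := hdef D (hB0 ▸ hD)
    exact isMulCommutative_of_sylow hsol P fun x hx y hy hx1 hy1 =>
      (defect_conj_of_card_le hM hB hk hD hx hx1).1 y hy hy1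
  · -- Fong-Reynolds
    have hs := H1.isBlockStab_of K T b hM hb hT
    obtain ⟨hi, -, hiii⟩ := S4435.result p M hM K b hb T hT hKT
    obtain ⟨B', hB', hcov, hind⟩ := hiii B hB ⟨χ, hχ, θ, rfl, hθ⟩
    obtain ⟨B₁, hind₁, -, hirr, hmem⟩ := hi B' hB' hcov
    obtain rfl : B = B₁ := BlockBasic.isInducedBlock_unique hM hind hind₁
    have hcov' : ∀ ψ ∈ B', H1.Covers K hKT (b := b) ((ψ : Cfsg.IrrCharacter T) : T → ℂ) := by
      obtain ⟨ψ₀, h₀, hc₀⟩ := hcov
      intro ψ hψ
      exact H1.covers_of_sameBlock hs hKT hM hb (show H1.Covers K hKT (b := b) _ from hc₀)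
        (BlockBasic.isPBlock_sameBlock hM hB' h₀ hψ)
    have hcard : Nat.card B' ≤ Nat.card B := by
      refine Nat.card_le_card_of_injective
        (fun ψ : B' => (⟨⟨_, hirr ψ.1 ψ.2⟩, (hmem _).2 ⟨ψ.1, ψ.2, rfl⟩⟩ : B)) ?_
      intro ψ ψ' h
      have h' : Cfsg.indFun T ((ψ.1 : Cfsg.IrrCharacter T) : T → ℂ) =
          Cfsg.indFun T ((ψ'.1 : Cfsg.IrrCharacter T) : T → ℂ) :=
        congrArg (fun a : B => ((a.1 : Cfsg.IrrCharacter G) : G → ℂ)) h
      by_contra hne
      have h1 := H1.classInner_indFun K hs hKT (hcov' _ ψ.2) (hcov' _ ψ'.2)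
      have h2 := H1.classInner_indFun K hs hKT (hcov' _ ψ.2) (hcov' _ ψ.2)
      rw [← h', h2, CharBasic.classInner_irr_self ψ.1.2,
        CharBasic.classInner_irr_of_ne ψ.1.2 ψ'.1.2
          (fun e => hne (Subtype.ext (Subtype.ext e)))] at h1
      exact one_ne_zero h1
    have hrank : Cfsg.blockRank p B ≤ Cfsg.blockRank p B' := by
      let L : (T → ℂ) →ₗ[ℂ] (G → ℂ) :=
        { toFun := Cfsg.indFun T
          map_add' := CharInduce.indFun_add T
          map_smul' := CharInduce.indFun_smul T }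
      refine le_trans (Submodule.finrank_mono (Submodule.span_le.2 ?_)) (Submodule.finrank_map_le L _)
      rintro _ ⟨χ', hχ', rfl⟩
      obtain ⟨ψ, hψ, he⟩ := (hmem χ').1 hχ'
      refine ⟨_, Submodule.subset_span ⟨ψ, hψ, rfl⟩, ?_⟩
      show Cfsg.indFun T _ = Cfsg.pRegularPart p (χ' : G → ℂ)
      rw [he, pRegularPart_indFun]
    obtain ⟨g, hg⟩ := BlockBasic.exists_isDefectClass hM hB'
    set D' := H35.sylImage (default : Sylow p (Subgroup.centralizer ({g} : Set T)))
    have hD' : Cfsg.IsDefectGroup p M B' D' := ⟨g, hg, default, rfl⟩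
    have hlt : Nat.card T < Nat.card G := by
      refine lt_of_le_of_ne (Nat.le_of_dvd Nat.card_pos T.card_subgroup_dvd_card) fun e => ?_
      exact hTtop (Subgroup.eq_top_of_card_eq T e)
    have hcomm : IsMulCommutative D' := ih T (by omega) (Cores.isPSolvable_subgroup hsol T) B' hB'
      (by omega) D' hD'
    have hE := (S4436.result p M hM K b hb T hT hKT B' hB' hcov B hind).1 D' hD'
    obtain ⟨c, hc⟩ := H35.defectGroup_le_conj hM hB hE hD
    refine ⟨⟨fun d e => Subtype.ext ?_⟩⟩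
    obtain ⟨_, ⟨d', hd', rfl⟩, hd⟩ := hc d.2
    obtain ⟨_, ⟨e', he', rfl⟩, he⟩ := hc e.2
    have h := congrArg (fun a : D' => ((a : T) : G)) (hcomm.is_comm.comm ⟨d', hd'⟩ ⟨e', he'⟩)
    simp only [Subgroup.coe_mul] at h
    show (d : G) * e = e * d
    rw [← hd, ← he]
    simp only [← map_mul, Subgroup.coe_subtype]
    exact congrArg _ h

/-- In a p-solvable group a block with at most one more character than its p-regular rank has
commutative defect groups. -/
theorem isMulCommutative_defect_of_isPSolvable {G : Type u} [Group G] [Fintype G]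
    (hM : Cfsg.IsPModular p M) (hsol : Cfsg.IsPSolvable p G) {B : Set (Cfsg.IrrCharacter G)}
    (hB : Cfsg.IsPBlock M B) (hk : Nat.card B ≤ Cfsg.blockRank p B + 1) {D : Subgroup G}
    (hD : Cfsg.IsDefectGroup p M B D) : IsMulCommutative D :=
  isMulCommutative_defect_aux hM _ G le_rfl hsol B hB hk D hD

end Cfsg.Agent.H80
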