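import Cfsg.Agent.H80.Pairing
import Cfsg.Agent.CharInduce.Function

/-!
# The pairing and induced blocks
-/

set_option linter.style.haveILetI false

open scoped ComplexConjugate
open MonoidAlgebra

namespace Cfsg.Agent.H80

open CharBasic BlockBasic

universe u

variable {G : Type u} [Group G] [Fintype G] {p : ℕ} {M : Ideal AlgInt}

/-- A central element evaluated on `H` through the induced central character. -/
theorem sum_coeff_mul_eq (H : Subgroup G) [Fintype H] (ψ : H → ℂ) {z : MonoidAlgebra ℂ G}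
    (hz : IsCentralElt z) [Fintype (ConjClasses G)] :
    (∑ h : H, z.coeff (h : G) * ψ h) / ψ 1 =
      ∑ C : ConjClasses G, z.coeff C.out * inducedCentralChar H ψ C.out := by
  classical
  have hind : ∀ g : G, inducedCentralChar H ψ g =
      ∑ h : H, if IsConj g (h : G) then ψ h / ψ 1 else 0 := by
    intro g
    rw [inducedCentralChar, finsum_mem_def, finsum_eq_sum_of_fintype]
    exact Finset.sum_congr rfl fun h _ => by simp [Set.indicator_apply]
  simp only [hind, Finset.mul_sum, Finset.sum_div]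
  rw [Finset.sum_comm]
  refine Finset.sum_congr rfl fun h _ => ?_
  rw [Finset.sum_eq_single (ConjClasses.mk (h : G))]
  · have hc : IsConj (ConjClasses.mk (h : G)).out (h : G) :=
      ConjClasses.mk_eq_mk_iff_isConj.1 (Quotient.out_eq _)
    obtain ⟨c, hc'⟩ := isConj_iff.1 hc
    rw [if_pos hc, show z.coeff (h : G) = z.coeff (ConjClasses.mk (h : G)).out from
      (congrArg z.coeff hc'.symm).trans (hz _ c), mul_div_assoc]
  · intro C _ hne
    rw [if_neg, mul_zero]
    intro hc
    exact hne ((Quotient.out_eq C).symm.trans (ConjClasses.mk_eq_mk_iff_isConj.2 hc))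
  · simp

/-- Sums over a subgroup against a member of an inducing block agree with central characters of
the induced block. -/
theorem sum_coeff_congr (hM : IsPModular p M) {H : Subgroup G} [Fintype H]
    {b : Set (Cfsg.IrrCharacter H)} {B : Set (Cfsg.IrrCharacter G)}
    (hind : Cfsg.IsInducedBlock M H b B) {ψ : Cfsg.IrrCharacter H} (hψ : ψ ∈ b)
    {ξ : Cfsg.IrrCharacter G} (hξ : ξ ∈ B) {z : MonoidAlgebra ℂ G} (hz : IsCentralElt z)
    (hzi : IsIntElt M z) :
    MemLocalIdeal M ((∑ h : H, z.coeff (h : G) * (ψ : H → ℂ) h) / (ψ : H → ℂ) 1 -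
      omega (ξ : G → ℂ) z) := by
  haveI : Finite (ConjClasses G) := Finite.of_surjective _ ConjClasses.mk_surjective
  haveI : Fintype (ConjClasses G) := Fintype.ofFinite _
  rw [sum_coeff_mul_eq H (ψ : H → ℂ) hz, omega_eq_sum_classes (IsIrr.isClassFunction ξ.2) hz,
    ← Finset.sum_sub_distrib]
  refine memLocalIdeal_sum hM _ _ fun C _ => ?_
  rw [← mul_sub]
  exact memLocalIdeal_mul hM (hzi _) (hind.2.2 ψ hψ ξ hξ _)

omit [Fintype G] in
theorem isClassFunction_res {F : G → ℂ} (hF : Cfsg.IsClassFunction G F) (H : Subgroup G) :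
    Cfsg.IsClassFunction H (fun h : H => F h) := fun g h => hF (g : G) (h : G)

variable [hp : Fact p.Prime]

/-- The ratio of a restriction against the ratio in `G`. -/
theorem ratio_res_congr (hM : IsPModular p M) {H : Subgroup G} [Fintype H]
    {b : Set (Cfsg.IrrCharacter H)} {B : Set (Cfsg.IrrCharacter G)}
    (hind : Cfsg.IsInducedBlock M H b B) {ψ : Cfsg.IrrCharacter H} (hψ : ψ ∈ b)
    {ξ : Cfsg.IrrCharacter G} (hξ : ξ ∈ B) {F : G → ℂ} (hF : Cfsg.IsClassFunction G F)
    (hFi : ∀ x, MemLocalRing M (F x)) :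
    MemLocalIdeal M (ratio p (fun h : H => F h) ψ -
      (pCompl p H : ℂ)⁻¹ * ((pCompl p G : ℂ) * ratio p F ξ)) := by
  rw [ratio_eq, ratio_eq, ← mul_assoc (pCompl p G : ℂ), mul_inv_cancel₀ pCompl_ne_zero, one_mul,
    ← mul_sub]
  refine memLocalIdeal_mul hM (memLocalRing_natCast_inv hM not_dvd_pCompl) ?_
  have h := sum_coeff_congr hM hind hψ hξ (isCentralElt_regElt (p := p) hF)
    (isIntElt_regElt hM hFi)
  convert h using 2
  rw [omega, chiLin]
  congr 1
  refine Finset.sum_congr rfl fun x _ => ?_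
  simp only [coeff_regElt, Subgroup.orderOf_coe, Subgroup.coe_inv]

/-- Sign of the ratio of a restriction for a character outside, or of height zero in, the block. -/
theorem ratio_res_mem_ideal (hM : IsPModular p M) {H : Subgroup G} [Fintype H]
    {b : Set (Cfsg.IrrCharacter H)} {B : Set (Cfsg.IrrCharacter G)}
    (hind : Cfsg.IsInducedBlock M H b B) {ψ : Cfsg.IrrCharacter H} (hψ : ψ ∈ b)
    (χ : Cfsg.IrrCharacter G) :
    (χ ∉ B → MemLocalIdeal M (ratio p (fun h : H => (χ : G → ℂ) h) ψ)) ∧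
      (χ ∈ B → blockHeight p B (χ : G → ℂ) = 0 →
        ¬ MemLocalIdeal M (ratio p (fun h : H => (χ : G → ℂ) h) ψ)) := by
  obtain ⟨ξ, hξ⟩ := isPBlock_nonempty hM hind.2.1
  constructor
  · intro hχ
    have h := ratio_res_congr (p := p) hM hind hψ hξ (IsIrr.isClassFunction χ.2)
      (memLocalRing_apply hM χ)
    have h0 : ratio p (χ : G → ℂ) ξ = 0 := by
      rw [ratio_irr, nn_comm, nn_eq_zero hM hind.2.1 hξ hχ, Int.cast_zero, zero_div]
    simpa [h0] using h
  · intro hχ h0 hI
    have h := ratio_res_congr (p := p) hM hind hψ hχ (IsIrr.isClassFunction χ.2)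
      (memLocalRing_apply hM χ)
    have h2 := memLocalIdeal_sub hM hI h
    rw [sub_sub_cancel] at h2
    apply (ratio_mem_ideal_iff_height hM hind.2.1 hχ hχ).1 ?_ h0
    have h3 := memLocalIdeal_mul hM (memLocalRing_mul hM (memLocalRing_natCast hM (pCompl p H))
      (memLocalRing_natCast_inv hM (not_dvd_pCompl (p := p) (G := G)))) h2
    convert h3 using 1
    have e1 := pCompl_ne_zero (p := p) (G := G)
    have e2 := pCompl_ne_zero (p := p) (G := H)
    field_simp

/-- Restricting to p-regular elements commutes with taking block parts. -/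
theorem classInner_tilde_blockPart (hM : IsPModular p M) {B : Set (Cfsg.IrrCharacter G)}
    (hB : IsPBlock M B) {F : G → ℂ} (hF : Cfsg.IsClassFunction G F) {ψ : Cfsg.IrrCharacter G}
    (hψ : ψ ∈ B) :
    Cfsg.classInner (tilde p F) (ψ : G → ℂ) =
      Cfsg.classInner (tilde p (Cfsg.blockPart B F)) (ψ : G → ℂ) := by
  classical
  have hbp : Cfsg.blockPart B F = fun g => ∑ φ : Cfsg.IrrCharacter G,
      (if φ ∈ B then Cfsg.classInner F (φ : G → ℂ) else 0) * (φ : G → ℂ) g := by
    funext g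
    rw [Cfsg.blockPart]
    simp only [finsum_mem_eq_sum_ite, ite_mul, zero_mul]
    refine Finset.sum_congr rfl fun φ _ => ?_
    congr 2
    exact congrArg (fun i => @Cfsg.classInner G _ i F (φ : G → ℂ)) (Subsingleton.elim _ _)
  have hbp' : Cfsg.blockPart B F = ∑ φ : Cfsg.IrrCharacter G,
      (if φ ∈ B then Cfsg.classInner F (φ : G → ℂ) else 0) • (φ : G → ℂ) := by
    rw [hbp]; funext g
    rw [Finset.sum_apply]
    exact Finset.sum_congr rfl fun φ _ => rfl
  have hcoef : ∀ φ : Cfsg.IrrCharacter G,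
      Cfsg.classInner (φ : G → ℂ) (tilde p (ψ : G → ℂ)) = (nn p φ ψ : ℂ) := by
    intro φ
    rw [classInner_tilde_symm, nn_spec]
  rw [← classInner_tilde_symm F, ← classInner_tilde_symm (Cfsg.blockPart B F)]
  conv_lhs => rw [classFunction_expansion hF]
  rw [hbp', classInner_sum_left, classInner_sum_left]
  refine Finset.sum_congr rfl fun φ _ => ?_
  rw [classInner_smul_left, classInner_smul_left, hcoef]
  split_ifs with hφ
  · rfl
  · rw [nn_comm, nn_eq_zero hM hB hψ hφ]; simp

/-- The degree of a block part of an induced character. -/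
theorem blockPart_indFun_one (hM : IsPModular p M) {H : Subgroup G} [Fintype H]
    {b : Set (Cfsg.IrrCharacter H)} {B₀ : Set (Cfsg.IrrCharacter G)}
    (hind : Cfsg.IsInducedBlock M H b B₀) {ξ : Cfsg.IrrCharacter H} (hξ : ξ ∈ b)
    (B : Set (Cfsg.IrrCharacter G)) (hB : Cfsg.IsPBlock M B) :
    ∃ n : ℕ, Cfsg.blockPart B (Cfsg.indFun H (ξ : H → ℂ)) 1 = (n : ℂ) ∧
      MemLocalIdeal M ((n : ℂ) / ((H.index * Cfsg.charDegree (ξ : H → ℂ) : ℕ) : ℂ) -
        (if B = B₀ then 1 else 0 : ℂ)) := by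
  classical
  have hterm : ∀ χ : Cfsg.IrrCharacter G,
      Cfsg.classInner (Cfsg.indFun H (ξ : H → ℂ)) (χ : G → ℂ) =
        Cfsg.classInner (ξ : H → ℂ) (fun h : H => (χ : G → ℂ) h) :=
    fun χ => CharInduce.classInner_indFun_left H _ _ (IsIrr.isClassFunction χ.2)
  have hres : ∀ χ : Cfsg.IrrCharacter G, Cfsg.IsCharacter H (fun h : H => (χ : G → ℂ) h) := by
    intro χ
    obtain ⟨k, ρ, -, hρ⟩ := χ.2
    exact ⟨k, ρ.comp H.subtype, by rw [← hρ]; rfl⟩
  choose m hm using fun χ : Cfsg.IrrCharacter G =>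
    classInner_isChar_nat (IsIrr.isCharacter ξ.2) (hres χ)
  have hval : Cfsg.blockPart B (Cfsg.indFun H (ξ : H → ℂ)) 1 =
      ∑ χ : Cfsg.IrrCharacter G, if χ ∈ B then (m χ : ℂ) * (χ : G → ℂ) 1 else 0 := by
    rw [Cfsg.blockPart]
    simp only [finsum_mem_eq_sum_ite]
    refine Finset.sum_congr rfl fun χ _ => ?_
    split_ifs
    · rw [← hm, ← hterm]
      congr 1
      exact congrArg (fun i => @Cfsg.classInner G _ i _ (χ : G → ℂ)) (Subsingleton.elim _ _)
    · rfl
  refine ⟨∑ χ : Cfsg.IrrCharacter G, if χ ∈ B then m χ * Cfsg.charDegree (χ : G → ℂ) else 0,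
    ?_, ?_⟩
  · rw [hval, Nat.cast_sum]
    refine Finset.sum_congr rfl fun χ _ => ?_
    split_ifs <;> simp [apply_one_eq_charDegree]
  · obtain ⟨η, hη⟩ := isPBlock_nonempty hM hind.2.1
    have hz : IsIntElt M (blockElem B) := isIntElt_blockElem hM hB
    have h := sum_coeff_congr hM hind hξ hη (isCentralElt_blockElem B) hz
    rw [omega_blockElem] at h
    have hiff : η ∈ B ↔ B = B₀ :=
      ⟨fun h' => isPBlock_eq_of_mem hM hB hind.2.1 h' hη, fun e => e ▸ hη⟩
    rw [if_congr hiff rfl rfl] at h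
    convert h using 2
    have hn : ((∑ χ : Cfsg.IrrCharacter G,
        if χ ∈ B then m χ * Cfsg.charDegree (χ : G → ℂ) else 0 : ℕ) : ℂ) =
        (H.index : ℂ) * ∑ h : H, (blockElem B).coeff (h : G) * (ξ : H → ℂ) h := by
      have hG : (Nat.card G : ℂ) ≠ 0 := Nat.cast_ne_zero.2 Nat.card_pos.ne'
      have hidx : (H.index : ℂ) * (Nat.card H : ℂ) = (Nat.card G : ℂ) := by
        exact_mod_cast H.index_mul_card
      simp only [coeff_blockElem, blockCoeff, finsum_mem_eq_sum_ite, Finset.mul_sum,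
        Finset.sum_mul]
      rw [Finset.sum_comm, Nat.cast_sum]
      refine Finset.sum_congr rfl fun χ _ => ?_
      split_ifs
      · rw [Nat.cast_mul, ← hm, classInner_def, Finset.mul_sum, Finset.sum_mul]
        refine Finset.sum_congr rfl fun h _ => ?_
        rw [← apply_one_eq_charDegree]
        have hH : (Nat.card H : ℂ) ≠ 0 := Nat.cast_ne_zero.2 Nat.card_pos.ne'
        rw [← hidx]
        have hi : (H.index : ℂ) ≠ 0 := Nat.cast_ne_zero.2 Subgroup.index_ne_zero_of_finite
        field_simp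
      · simp
    rw [hn, Nat.cast_mul, apply_one_eq_charDegree, mul_div_mul_left _ _
      (Nat.cast_ne_zero.2 Subgroup.index_ne_zero_of_finite)]

end Cfsg.Agent.H80
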