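import Cfsg.Agent.H80.RealOddMain

/-!
# Solvable groups all of whose odd-degree characters are real
-/

set_option linter.style.haveILetI false

open scoped ComplexConjugate

namespace Cfsg.Agent.H80.RealOdd

open CharBasic

universe u

/-- A surjection maps the commutator subgroup onto the commutator subgroup. -/
theorem map_commutator_top {A B : Type*} [Group A] [Group B] (g : A →* B) (hg : Function.Surjective g) :
    (commutator A).map g = commutator B := by
  rw [commutator_def, commutator_def, Subgroup.map_commutator, Subgroup.map_top_of_surjective g hg]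

/-- All irreducible characters of odd degree are real. -/
def AllReal (G : Type*) [Group G] : Prop :=
  ∀ χ : Cfsg.IrrCharacter G, Odd (Cfsg.charDegree (χ : G → ℂ)) → RealFun (χ : G → ℂ)

theorem allReal_quotient {G : Type u} [Group G] [Finite G] (h : AllReal G) {X : Type u} [Group X]
    [Finite X] (f : G →* X) (hf : Function.Surjective f) : AllReal X := fun φ hφ => by
  have := h ⟨_, CharInduce.IsIrr.comp φ.2 f hf⟩ (by rw [show (((⟨_, CharInduce.IsIrr.comp φ.2 f hf⟩ :
    Cfsg.IrrCharacter G)) : G → ℂ) = fun g => (φ : X → ℂ) (f g) from rfl, charDegree_comp f]; exact hφ)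
  exact (realFun_comp f hf _).1 this

/-- If every odd-degree character is real, a Sylow 2-subgroup is its own normaliser. -/
theorem normalizer_le_of_allReal (G : Type u) [Group G] [Finite G] [Group.IsSolvable G]
    (P : Sylow 2 G) (h : AllReal G) :
    Subgroup.normalizer ((P : Subgroup G) : Set G) ≤ (P : Subgroup G) := by
  classical
  induction hn : Nat.card G using Nat.strong_induction_on generalizing G with
  | _ n ih =>
    subst hn
    cases nonempty_fintype G
    set N := Subgroup.normalizer ((P : Subgroup G) : Set G) with hN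
    -- the step through a normal subgroup meeting the normaliser inside `P`
    have step : ∀ L : Subgroup G, L.Normal → L ≠ ⊥ → L ⊓ N ≤ (P : Subgroup G) →
        N ≤ (P : Subgroup G) := by
      intro L hLn hL1 hLN x hx
      let f := QuotientGroup.mk' L
      have hf : Function.Surjective f := QuotientGroup.mk'_surjective L
      have h2 := ih _ (card_quotient_lt L hL1) (G ⧸ L) (P.mapSurjective hf)
        (allReal_quotient h f hf) rfl
      obtain ⟨p, hp, hpx⟩ : f x ∈ (P : Subgroup G).map f := by
        apply h2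
        show f x ∈ Subgroup.normalizer (((P : Subgroup G).map f : Subgroup _) : Set _)
        rw [← map_normalizer_sylow f hf P]
        exact Subgroup.mem_map_of_mem f hx
      have hpL : p⁻¹ * x ∈ L := QuotientGroup.eq.1 hpx
      have := P.1.mul_mem hp (hLN ⟨hpL, N.mul_mem (N.inv_mem (Subgroup.le_normalizer hp)) hx⟩)
      simpa using this
    by_cases hK : Cfsg.pPrimeCore 2 G = ⊥
    · set W := Cfsg.pCore 2 G with hWdef
      haveI : W.Normal := by rw [hWdef]; infer_instance
      by_cases hW1 : W = ⊥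
      · obtain ⟨-, hP⟩ := eq_top_of_le_center hK (le_of_eq_of_le hW1 bot_le) P
        rw [hP]
        exact le_top
      · exact step W inferInstance hW1
          (inf_le_left.trans (le_sylow P Cores.pCore_isPGroup))
    set K := Cfsg.pPrimeCore 2 G
    haveI : K.Normal := by show (Cfsg.pPrimeCore 2 G).Normal; infer_instance
    have hKodd : Odd (Nat.card K) := odd_pPrimeCore
    refine step K inferInstance hK fun k hk => ?_
    haveI : Fintype N := Fintype.ofFinite _
    haveI : ((P : Subgroup G).subgroupOf N).Normal := Subgroup.normal_in_normalizer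
    set Q := (P : Subgroup G).subgroupOf N
    haveI : Fintype (N ⧸ Q) := Fintype.ofFinite _
    by_contra hkP
    have hk1 : (QuotientGroup.mk (⟨k, hk.2⟩ : N) : N ⧸ Q) ≠ 1 := fun e =>
      hkP ((QuotientGroup.eq_one_iff (N := Q) (⟨k, hk.2⟩ : N)).1 e)
    obtain ⟨φ, hφ⟩ := exists_irr_ne_of_ne_one hk1
    have hodd : Odd (Cfsg.charDegree (φ : N ⧸ Q → ℂ)) := by
      refine Odd.of_dvd_nat ?_ (BlockBasic.charDegree_dvd φ)
      refine Nat.not_even_iff_odd.1 fun he => ?_
      exact (P.subtype (show (P : Subgroup G) ≤ N from Subgroup.le_normalizer)).not_dvd_index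
        (even_iff_two_dvd.1 he)
    let η : Cfsg.IrrCharacter N :=
      ⟨fun n => (φ : N ⧸ Q → ℂ) (QuotientGroup.mk' Q n),
        CharInduce.IsIrr.comp φ.2 (QuotientGroup.mk' Q) (QuotientGroup.mk'_surjective Q)⟩
    have hη : Odd (Cfsg.charDegree (η : N → ℂ)) := by
      rw [show (η : N → ℂ) = fun n => (φ : N ⧸ Q → ℂ) (QuotientGroup.mk' Q n) from rfl,
        charDegree_comp (QuotientGroup.mk' Q)]
      exact hodd
    obtain ⟨χ, hχodd, hne⟩ := exists_odd_over N
      (odd_index_of_le (P := P) Subgroup.le_normalizer) η hη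
    have hker := trivial_on_odd K hKodd χ (h χ hχodd) hχodd k hk.1
    -- a constituent is trivial where the character is
    obtain ⟨r, hr, hsum⟩ := CharInduce.IsChar.exists_eq_add
      (CharInduce.IsChar.res (IsIrr.isCharacter χ.2) N) η.2 hne
    obtain ⟨d, hd⟩ := IsChar.exists_degree hr
    have e1 := congrFun hsum ⟨k, hk.2⟩
    have e2 := congrFun hsum 1
    simp only [Pi.add_apply, OneMemClass.coe_one] at e1 e2
    rw [hker, e2] at e1
    have hb1 : ‖(η : N → ℂ) ⟨k, hk.2⟩‖ ≤ ‖(η : N → ℂ) 1‖ := IsChar.norm_le (IsIrr.isCharacter η.2) _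
    have hb2 : ‖r ⟨k, hk.2⟩‖ ≤ ‖r 1‖ := IsChar.norm_le hr _
    rw [BlockBasic.apply_one_eq_charDegree η, Complex.norm_natCast] at hb1
    rw [hd, Complex.norm_natCast] at hb2
    rw [BlockBasic.apply_one_eq_charDegree η, hd] at e1
    have hre := congrArg Complex.re e1
    simp only [Complex.add_re, Complex.natCast_re] at hre
    have h1 := Complex.re_le_norm ((η : N → ℂ) ⟨k, hk.2⟩)
    have h2 := Complex.re_le_norm (r ⟨k, hk.2⟩)
    have hre' : ((η : N → ℂ) ⟨k, hk.2⟩).re = Cfsg.charDegree (η : N → ℂ) := by linarith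
    have him : ((η : N → ℂ) ⟨k, hk.2⟩).im = 0 := by
      have h3 : ‖(η : N → ℂ) ⟨k, hk.2⟩‖ = ((η : N → ℂ) ⟨k, hk.2⟩).re := le_antisymm (by linarith) h1
      exact Complex.nonneg_iff.1 (Complex.re_eq_norm.1 h3.symm) |>.2.symm
    apply hφ
    have : (η : N → ℂ) ⟨k, hk.2⟩ = (η : N → ℂ) 1 := by
      rw [BlockBasic.apply_one_eq_charDegree η]
      exact Complex.ext (by rw [hre', Complex.natCast_re]) (by rw [him, Complex.natCast_im])
    simpa [η] using this

/-- If the odd-degree characters with a given sign at a central involution are real, then so are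
the linear characters of a Sylow 2-subgroup with that sign. -/
theorem hom_sq_of_real (G : Type u) [Group G] [Finite G] [Group.IsSolvable G] (P : Sylow 2 G)
    {z : G} (hz : z ∈ Subgroup.center G) (hz2 : z * z = 1) (hzP : z ∈ (P : Subgroup G)) {ε : ℂ}
    (hε : conj ε = ε)
    (h : ∀ χ : Cfsg.IrrCharacter G, Odd (Cfsg.charDegree (χ : G → ℂ)) →
      (χ : G → ℂ) z = ε * (χ : G → ℂ) 1 → RealFun (χ : G → ℂ))
    (l : (P : Subgroup G) →* ℂˣ) (hl : (l ⟨z, hzP⟩ : ℂ) = ε) (y : (P : Subgroup G)) :
    l y * l y = 1 := by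
  classical
  induction hn : Nat.card G using Nat.strong_induction_on generalizing G ε with
  | _ n ih =>
    subst hn
    cases nonempty_fintype G
    haveI : Fintype (P : Subgroup G) := Fintype.ofFinite _
    -- passage to a quotient of a section
    have step : ∀ (H L : Subgroup G) (hPH : (P : Subgroup G) ≤ H) (hLH : L ≤ H),
        H ≤ Subgroup.normalizer (L : Set G) → L ≠ ⊥ →
        (∀ q : (P : Subgroup G), (q : G) ∈ L → l q = 1) → ∀ (w : (P : Subgroup G)),
        (∀ t ∈ H, t * w * t⁻¹ * (w : G)⁻¹ ∈ L) → (w : G) * w ∈ L → conj (l w : ℂ) = l w →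
        (∀ ψ : Cfsg.IrrCharacter H, Odd (Cfsg.charDegree (ψ : H → ℂ)) →
          (∀ t : H, (t : G) ∈ L → (ψ : H → ℂ) t = (ψ : H → ℂ) 1) →
          (ψ : H → ℂ) ⟨w, hPH w.2⟩ = (l w : ℂ) * (ψ : H → ℂ) 1 → RealFun (ψ : H → ℂ)) →
        l y * l y = 1 := by
      intro H L hPH hLH hHL hL1 hlL w hwc hw2 hwr hreal
      haveI : (L.subgroupOf H).Normal := (Subgroup.normal_subgroupOf_iff_le_normalizer hLH).2 hHL
      let f := QuotientGroup.mk' (L.subgroupOf H)
      have hf : Function.Surjective f := QuotientGroup.mk'_surjective _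
      let Q := (P.subtype hPH).mapSurjective hf
      let g : (P : Subgroup G) →* (Q : Subgroup (H ⧸ L.subgroupOf H)) :=
        MonoidHom.codRestrict (f.comp (Subgroup.inclusion hPH)) _ fun q =>
          Subgroup.mem_map_of_mem f (show Subgroup.inclusion hPH q ∈ (P.subtype hPH : Subgroup H) from q.2)
      have hg : Function.Surjective g := by
        rintro ⟨_, h, hh, rfl⟩
        exact ⟨⟨h, hh⟩, Subtype.ext rfl⟩
      have hker : g.ker ≤ l.ker := by
        intro q hq
        refine hlL q ?_
        have := congrArg Subtype.val (MonoidHom.mem_ker.1 hq)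
        exact (QuotientGroup.eq_one_iff (N := L.subgroupOf H) (Subgroup.inclusion hPH q)).1 this
      let lb := g.liftOfSurjective hg ⟨l, hker⟩
      have hlb : ∀ q, lb (g q) = l q := fun q =>
        MonoidHom.liftOfRightInverse_comp_apply _ _ _ _ q
      have hcard : Nat.card (H ⧸ L.subgroupOf H) < Nat.card G :=
        lt_of_lt_of_le (card_quotient_lt _ fun h0 => hL1 (by
          rw [Subgroup.subgroupOf_eq_bot, disjoint_iff, inf_eq_left.2 hLH] at h0; exact h0))
          (Subgroup.card_le_card_group H)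
      rw [← hlb y]
      refine ih _ hcard (H ⧸ L.subgroupOf H) Q (z := f ⟨w, hPH w.2⟩) ?_ ?_ (g w).2 (ε := (l w : ℂ))
        hwr (fun φ hφ hφw => ?_) lb ?_ (g y) rfl
      · rw [Subgroup.mem_center_iff]
        intro t
        obtain ⟨t, rfl⟩ := hf t
        rw [← map_mul, ← map_mul, QuotientGroup.mk'_apply, QuotientGroup.mk'_apply, QuotientGroup.eq,
          Subgroup.mem_subgroupOf]
        have h1 := hwc (t : G) t.2
        have h2 := (Subgroup.mem_normalizer_iff.1 (inv_mem (hHL (hPH w.2))) _).1
          ((Subgroup.mem_normalizer_iff.1 (inv_mem (hHL t.2)) _).1 (L.inv_mem h1))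
        simpa [mul_assoc] using h2
      · rw [← map_mul, QuotientGroup.mk'_apply, QuotientGroup.eq_one_iff]
        exact hw2
      · refine (realFun_comp f hf _).1 (hreal ⟨_, CharInduce.IsIrr.comp φ.2 f hf⟩
          (by show Odd (Cfsg.charDegree fun t => (φ : _ → ℂ) (f t)); rw [charDegree_comp f]; exact hφ)
          (fun t ht => ?_) ?_)
        · show (φ : _ → ℂ) (f t) = (φ : _ → ℂ) (f 1)
          rw [show f t = 1 from (QuotientGroup.eq_one_iff t).2 ht, map_one]
        · show (φ : _ → ℂ) (f ⟨w, hPH w.2⟩) = _ * (φ : _ → ℂ) (f 1)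
          rw [map_one]
          exact hφw
      · exact congrArg Units.val (hlb w)
    by_cases hK : Cfsg.pPrimeCore 2 G = ⊥
    swap
    · set K := Cfsg.pPrimeCore 2 G
      haveI : K.Normal := by show (Cfsg.pPrimeCore 2 G).Normal; infer_instance
      refine step ⊤ K le_top le_top (le_top.trans (Subgroup.normalizer_eq_top (H := K)).ge) hK
        (fun q hq => ?_) ⟨z, hzP⟩ (fun t _ => ?_) (hz2 ▸ K.one_mem) (by rw [hl]; exact hε)
        fun ψ hψ _ hψz => ?_
      · have h1 : orderOf (q : G) ∣ Nat.card K := by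
          simpa using orderOf_dvd_natCard (⟨(q : G), hq⟩ : K)
        have h2 : orderOf (q : G) ∣ Nat.card (P : Subgroup G) := by
          simpa using orderOf_dvd_natCard q
        have hcop : (Nat.card K).Coprime (Nat.card (P : Subgroup G)) := by
          rw [P.card_eq_multiplicity]
          exact Nat.Coprime.pow_right _ (odd_pPrimeCore (G := G)).coprime_two_right
        have : q = 1 := Subtype.ext (orderOf_eq_one_iff.1 (Nat.eq_one_of_dvd_coprimes hcop h1 h2))
        rw [this, map_one]
      · show t * z * t⁻¹ * z⁻¹ ∈ K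
        rw [Subgroup.mem_center_iff.1 hz t]
        simp
      · let χ : Cfsg.IrrCharacter G :=
          ⟨fun x => (ψ : (⊤ : Subgroup G) → ℂ) ((Subgroup.topEquiv (G := G)).symm x),
            CharInduce.IsIrr.comp ψ.2 (Subgroup.topEquiv (G := G)).symm.toMonoidHom
              (Subgroup.topEquiv (G := G)).symm.surjective⟩
        have h1 := h χ (by
          show Odd (Cfsg.charDegree fun x => (ψ : (⊤ : Subgroup G) → ℂ) ((Subgroup.topEquiv (G := G)).symm.toMonoidHom x))
          rw [charDegree_comp]; exact hψ) (by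
          show (ψ : (⊤ : Subgroup G) → ℂ) ((Subgroup.topEquiv (G := G)).symm z) = ε * (ψ : (⊤ : Subgroup G) → ℂ) ((Subgroup.topEquiv (G := G)).symm 1)
          rw [← hl, map_one]
          exact hψz)
        exact fun t => h1 (t : G)
    set W := Cfsg.pCore 2 G with hWdef
    haveI : W.Normal := by rw [hWdef]; infer_instance
    have hW2 : IsPGroup 2 W := Cores.pCore_isPGroup
    haveI : Fintype W := Fintype.ofFinite _
    have hWP : W ≤ (P : Subgroup G) := le_sylow P hW2
    have hzW : z ∈ W := by
      haveI hn : (Subgroup.zpowers z).Normal := ⟨fun a ha g => by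
        obtain ⟨i, rfl⟩ := Subgroup.mem_zpowers_iff.1 ha
        rw [Subgroup.mem_center_iff.1 (zpow_mem hz i) g, mul_inv_cancel_right]
        exact zpow_mem (Subgroup.mem_zpowers z) i⟩
      have hp : IsPGroup 2 (Subgroup.zpowers z) :=
        P.isPGroup'.to_le (Subgroup.zpowers_le.2 hzP)
      exact (le_sSup ⟨hn, hp⟩ : Subgroup.zpowers z ≤ W) (Subgroup.mem_zpowers z)
    -- an odd-degree character over `l`
    let lc : Cfsg.IrrCharacter (P : Subgroup G) := ⟨fun q => (l q : ℂ), CharInduce.isIrrCharacter_hom l⟩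
    have hlc : Odd (Cfsg.charDegree (lc : ↥(P : Subgroup G) → ℂ)) := by
      simp [Cfsg.charDegree, lc]
    obtain ⟨χ, hχodd, hne⟩ := exists_odd_over (P : Subgroup G) (odd_index_of_le le_rfl) lc hlc
    obtain ⟨k, ρ, hρirr, hρ⟩ := χ.2
    obtain ⟨ω, -, -, hω⟩ := @exists_central_scalar _ _ _ _ _ _ _ ρ hρirr _ hz
    rw [hρ] at hω
    have hχz : (χ : G → ℂ) z = ω * (χ : G → ℂ) 1 := by simpa using hω 1
    have hωε : ω = ε := by
      set S := Cfsg.classInner (fun q : (P : Subgroup G) => (χ : G → ℂ) q)
        (lc : ↥(P : Subgroup G) → ℂ) with hS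
      have h2 : S = ω * conj ε * S := by
        conv_lhs => rw [hS, classInner_def,
          ← Equiv.sum_comp (Equiv.mulRight (⟨z, hzP⟩ : (P : Subgroup G)))]
        rw [hS, classInner_def, mul_left_comm (ω * conj ε)]
        congr 1
        rw [Finset.mul_sum]
        refine Finset.sum_congr rfl fun q _ => ?_
        simp only [Equiv.coe_mulRight, Subgroup.coe_mul, hω, lc, map_mul, Units.val_mul, hl]
        ring
      have h3 : ω * conj ε = 1 := mul_right_cancel₀ hne (by rw [one_mul]; exact h2.symm)
      have h4 : ε * conj ε = 1 := by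
        have hsq : (l ⟨z, hzP⟩ : ℂ) * l ⟨z, hzP⟩ = 1 := by
          rw [← Units.val_mul, ← map_mul, show (⟨z, hzP⟩ * ⟨z, hzP⟩ : (P : Subgroup G)) = 1 from
            Subtype.ext hz2, map_one, Units.val_one]
        rw [hε, ← hl]
        exact hsq
      have hc : conj ε ≠ 0 := fun h0 => one_ne_zero (α := ℂ) (by rw [← h4, h0, mul_zero])
      exact mul_right_cancel₀ hc (h3.trans h4.symm)
    have hχreal : RealFun (χ : G → ℂ) := h χ hχodd (hωε ▸ hχz)
    -- the restriction of `l` to `W`
    let lW : W →* ℂˣ := l.comp (Subgroup.inclusion hWP)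
    let θ0 : Cfsg.IrrCharacter W := ⟨fun w => (lW w : ℂ), CharInduce.isIrrCharacter_hom lW⟩
    have hθ0 : Cfsg.classInner (fun w : W => (χ : G → ℂ) w) (θ0 : W → ℂ) ≠ 0 := by
      obtain ⟨r, hr, hsum⟩ := CharInduce.IsChar.exists_eq_add
        (CharInduce.IsChar.res (IsIrr.isCharacter χ.2) (P : Subgroup G)) lc.2 hne
      obtain ⟨m, hm⟩ := classInner_isChar_nat
        (CharInduce.IsChar.comp hr (Subgroup.inclusion hWP)) (IsIrr.isCharacter θ0.2)
      have e : (fun w : W => (χ : G → ℂ) w) =
          (θ0 : W → ℂ) + fun w => r (Subgroup.inclusion hWP w) :=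
        funext fun w => congrFun hsum (Subgroup.inclusion hWP w)
      rw [e, classInner_add_left, classInner_irr_self θ0.2, hm]
      exact_mod_cast (by omega : 1 + m ≠ 0)
    have hlW : ∀ w : W, (lW w : ℂ) = 1 ∨ (lW w : ℂ) = -1 := fun w => by
      obtain ⟨θ, hθ, hθr⟩ := exists_real_constituent W hχodd hχreal
      obtain ⟨x, hx⟩ := CharInduce.exists_conjFun_eq_of_constituent W χ.2 θ.2 θ0.2 hθ hθ0
      have h1 : conj ((θ0 : W → ℂ) w) = (θ0 : W → ℂ) w := by
        rw [hx]; exact (realFun_iff _).1 hθr _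
      rw [← IsChar.inv_apply (IsIrr.isCharacter θ0.2)] at h1
      change (lW w⁻¹ : ℂ) = lW w at h1
      rw [map_inv, Units.val_inv_eq_inv_val] at h1
      refine mul_self_eq_one_iff.1 ?_
      conv_lhs => arg 1; rw [← h1]
      exact inv_mul_cancel₀ (Units.ne_zero _)
    have hfix : ∀ (q : (P : Subgroup G)) (w : W) (hc : (q : G) * w * (q : G)⁻¹ ∈ W),
        lW ⟨(q : G) * w * (q : G)⁻¹, hc⟩ = lW w := fun q w hc => by
      show l _ = l _
      rw [show Subgroup.inclusion hWP ⟨(q : G) * w * (q : G)⁻¹, hc⟩ =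
        q * Subgroup.inclusion hWP w * q⁻¹ from rfl, map_mul, map_mul, map_inv]
      exact mul_inv_cancel_comm _ _
    set U := lW.ker.map W.subtype with hUdef
    have hU : ∀ w : W, (w : G) ∈ U ↔ lW w = 1 := fun w =>
      ⟨fun ⟨v, hv, e⟩ => W.subtype_injective e ▸ hv, fun hw => ⟨w, hw, rfl⟩⟩
    have hUW : U ≤ W := Subgroup.map_subtype_le _
    have hsgn : sgn W U = (θ0 : W → ℂ) := by
      funext w
      show sgn W U w = (lW w : ℂ)
      unfold sgn
      by_cases hw : lW w = 1
      · rw [if_pos ((hU w).2 hw), hw, Units.val_one]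
      · rw [if_neg fun hc => hw ((hU w).1 hc),
          (hlW w).resolve_left fun h1 => hw (Units.ext h1)]
    have hsub : Sub2 W U := ⟨hUW, fun a ha b hb hau hbu => by
      refine (hU ⟨a * b, W.mul_mem ha hb⟩).2 (Units.ext ?_)
      rw [show (⟨a * b, W.mul_mem ha hb⟩ : W) = ⟨a, ha⟩ * ⟨b, hb⟩ from rfl, map_mul, Units.val_mul,
        (hlW _).resolve_left fun h1 => hau ((hU ⟨a, ha⟩).2 (Units.ext h1)),
        (hlW _).resolve_left fun h1 => hbu ((hU ⟨b, hb⟩).2 (Units.ext h1))]
      norm_num⟩
    have hPT : (P : Subgroup G) ≤ Subgroup.normalizer (U : Set G) := by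
      intro q hq
      rw [← inertia_sgn hUW, hsgn, CharInduce.mem_inertia]
      funext w
      exact congrArg Units.val (hfix ⟨q, hq⟩ w _)
    by_cases hU1 : U = ⊥
    · have hcen : W ≤ Subgroup.center G := le_center_of_sub2_bot (hU1 ▸ hsub)
      obtain ⟨hWtop, -⟩ := eq_top_of_le_center hK hcen P
      have hy : (y : G) ∈ W := (show W = ⊤ from hWtop) ▸ Subgroup.mem_top _
      have e : l y = lW ⟨y, hy⟩ := rfl
      rw [e]
      refine Units.ext ?_
      rcases hlW ⟨y, hy⟩ with h1 | h1 <;> simp [Units.val_mul, h1]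
    set T := Subgroup.normalizer (U : Set G) with hT
    have hWT : W ≤ T := hWP.trans hPT
    -- choose a representative of the nontrivial coset
    obtain ⟨w0, hw0, hw0U⟩ : ∃ w0 : W, (U = W → w0 = 1) ∧ (U ≠ W → (w0 : G) ∉ U) := by
      by_cases hUW' : U = W
      · exact ⟨1, fun _ => rfl, fun h0 => absurd hUW' h0⟩
      · obtain ⟨a, ha, haU⟩ := SetLike.exists_of_lt (lt_of_le_of_ne hUW hUW')
        exact ⟨⟨a, ha⟩, fun h0 => absurd h0 hUW', fun _ => haU⟩
    refine step T U hPT (hUW.trans hWT) le_rfl hU1 (fun q hq => ?_)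
      (Subgroup.inclusion hWP w0) (fun t ht => ?_) ?_ ?_ fun ψ hψ hψU hψw => ?_
    · exact (hU ⟨q, hUW hq⟩).1 hq
    · show t * (w0 : G) * t⁻¹ * (w0 : G)⁻¹ ∈ U
      have hc : t * (w0 : G) * t⁻¹ ∈ W := ‹W.Normal›.conj_mem _ w0.2 t
      rw [hsub.mul_mem_iff hc (inv_mem w0.2), inv_mem_iff]
      exact ((Subgroup.mem_normalizer_iff.1 ht) _).symm
    · show (w0 : G) * w0 ∈ U
      rw [hsub.mul_mem_iff w0.2 w0.2]
    · show conj (lW w0 : ℂ) = lW w0
      rcases hlW w0 with h1 | h1 <;> simp [h1]
    -- transfer the hypothesis through induction from the inertia group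
    have hTI : T = CharInduce.inertia W (sgn W U) := (inertia_sgn hUW).symm
    have hval : ∀ w : W, (ψ : T → ℂ) (Subgroup.inclusion hWT w) = (ψ : T → ℂ) 1 * sgn W U w := by
      haveI : (U.subgroupOf T).Normal :=
        (Subgroup.normal_subgroupOf_iff_le_normalizer (hUW.trans hWT)).2 le_rfl
      obtain ⟨k, -, hkr, -⟩ := CharInduce.IsChar.exists_deflate (IsIrr.isCharacter ψ.2)
        (U.subgroupOf T) fun t ht => hψU t ht
      intro w
      unfold sgn
      by_cases hw : (w : G) ∈ U
      · rw [if_pos hw, mul_one]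
        exact hψU _ hw
      · rw [if_neg hw]
        have hUW' : U ≠ W := fun h0 => hw (h0.symm ▸ w.2)
        have hu : (w0 : G)⁻¹ * w ∈ U := by
          rw [hsub.mul_mem_iff (inv_mem w0.2) w.2, inv_mem_iff]
          exact iff_of_false (hw0U hUW') hw
        have h1 : (ψ : T → ℂ) (Subgroup.inclusion hWT w) =
            (ψ : T → ℂ) (Subgroup.inclusion hWT w0) := by
          rw [hkr, hkr]
          congr 1
          rw [eq_comm, QuotientGroup.eq, Subgroup.mem_subgroupOf]
          exact hu
        have h2 : (ψ : T → ℂ) (Subgroup.inclusion hWT w0) = (lW w0 : ℂ) * (ψ : T → ℂ) 1 := hψw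
        rw [h1, h2, (hlW w0).resolve_left fun h3 => hw0U hUW' ((hU w0).2 (Units.ext h3))]
        ring
    clear hψw hψU
    revert ψ
    clear_value T
    subst hTI
    intro ψ hψ hval
    have hne' : ∀ φ : Cfsg.IrrCharacter (CharInduce.inertia W (sgn W U)),
        (∀ w : W, (φ : CharInduce.inertia W (sgn W U) → ℂ) (Subgroup.inclusion hWT w) =
          (φ : CharInduce.inertia W (sgn W U) → ℂ) 1 * sgn W U w) →
        Cfsg.classInner (CharInduce.resTo W hWT (φ : CharInduce.inertia W (sgn W U) → ℂ))
          (sgn W U) ≠ 0 := fun φ hφ => by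
      rw [show CharInduce.resTo W hWT (φ : CharInduce.inertia W (sgn W U) → ℂ) =
        (φ : CharInduce.inertia W (sgn W U) → ℂ) 1 • sgn W U from funext hφ, classInner_smul_left,
        classInner_irr_self (isIrr_sgn hsub), mul_one]
      exact IsIrr.one_ne_zero φ.2
    obtain ⟨hirr, -, huniq⟩ := CharInduce.clifford_correspondence W (isIrr_sgn hsub) hWT ψ.2
      (hne' ψ hval)
    let χ' : Cfsg.IrrCharacter G := ⟨_, hirr⟩
    have hψz : (ψ : CharInduce.inertia W (sgn W U) → ℂ) (Subgroup.inclusion hWT ⟨z, hzW⟩) =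
        ε * (ψ : CharInduce.inertia W (sgn W U) → ℂ) 1 := by
      rw [hval, show sgn W U ⟨z, hzW⟩ = ε from (congrFun hsgn _).trans hl, mul_comm]
    have hz' : (χ' : G → ℂ) z = ε * (χ' : G → ℂ) 1 := by
      show Cfsg.indFun _ _ z = ε * Cfsg.indFun _ _ 1
      simp only [CharInduce.indFun_apply]
      rw [mul_left_comm ε, Finset.mul_sum Finset.univ _ ε]
      congr 1
      refine Finset.sum_congr rfl fun x _ => ?_
      have hx : x⁻¹ * z * x = z := by
        rw [mul_assoc, ← Subgroup.mem_center_iff.1 hz x, inv_mul_cancel_left]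
      rw [hx, CharInduce.extendByZero_of_mem _ (hWT hzW), show x⁻¹ * 1 * x = 1 by group,
        CharInduce.extendByZero_of_mem _ (one_mem _)]
      exact hψz
    have hodd : Odd (Cfsg.charDegree (χ' : G → ℂ)) := by
      show Odd (Cfsg.charDegree (Cfsg.indFun _ _))
      rw [Cfsg.charDegree, CharInduce.indFun_one, BlockBasic.apply_one_eq_charDegree,
        ← Nat.cast_mul, Complex.natCast_re, Nat.floor_natCast]
      exact (odd_index_of_le (P := P) hPT).mul hψ
    have hreal := (realFun_iff _).1 (h χ' hodd hz')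
    refine (realFun_iff _).2 (congrFun (huniq _ (CharInduce.IsIrr.conj ψ.2)
      (hne' ⟨_, CharInduce.IsIrr.conj ψ.2⟩ fun w => ?_) ?_))
    · show conj _ = conj _ * _
      rw [hval, map_mul, (realFun_iff _).1 (realFun_sgn W U)]
    · funext g
      rw [← CharInduce.conj_indFun]
      exact hreal g

/-- A self-normalising Sylow 2-subgroup with elementary abelianisation makes all real. -/
theorem allReal_of_normalizer (G : Type u) [Group G] [Finite G] [Group.IsSolvable G]
    (P : Sylow 2 G) (hN : Subgroup.normalizer ((P : Subgroup G) : Set G) = (P : Subgroup G))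
    (hsq : ∀ y : (P : Subgroup G), y * y ∈ commutator (P : Subgroup G)) : AllReal G := by
  classical
  induction hn : Nat.card G using Nat.strong_induction_on generalizing G with
  | _ n ih =>
    subst hn
    cases nonempty_fintype G
    -- characters trivial on a nontrivial normal subgroup
    have step : ∀ (L : Subgroup G) (hL : L.Normal), L ≠ ⊥ → ∀ χ : Cfsg.IrrCharacter G,
        Odd (Cfsg.charDegree (χ : G → ℂ)) → (∀ x ∈ L, (χ : G → ℂ) x = (χ : G → ℂ) 1) →
        RealFun (χ : G → ℂ) := by
      intro L hL hne χ hodd hker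
      let f := QuotientGroup.mk' L
      have hf : Function.Surjective f := QuotientGroup.mk'_surjective L
      obtain ⟨φ, hφ⟩ := exists_inflate f hf χ fun x hx => hker x ((QuotientGroup.eq_one_iff x).1 hx)
      let g : (P : Subgroup G) →* (P.mapSurjective hf : Subgroup (G ⧸ L)) :=
        MonoidHom.codRestrict (f.comp (P : Subgroup G).subtype) _ fun q => Subgroup.mem_map_of_mem f q.2
      have hg : Function.Surjective g := by
        rintro ⟨_, x, hx, rfl⟩
        exact ⟨⟨x, hx⟩, Subtype.ext rfl⟩
      have h1 := ih _ (card_quotient_lt L hne) (G ⧸ L) (P.mapSurjective hf) (by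
          show Subgroup.normalizer (((P : Subgroup G).map f : Subgroup (G ⧸ L)) : Set (G ⧸ L)) = _
          rw [← map_normalizer_sylow f hf P, hN]
          rfl) (fun y => by
          obtain ⟨y, rfl⟩ := hg y
          rw [← map_mul, ← map_commutator_top g hg]
          exact Subgroup.mem_map_of_mem g (hsq y)) rfl φ (by
          rw [hφ, charDegree_comp f] at hodd; exact hodd)
      rw [hφ]
      exact (realFun_comp f hf _).2 h1
    intro χ hodd
    by_cases hK : Cfsg.pPrimeCore 2 G = ⊥
    swap
    · set K := Cfsg.pPrimeCore 2 G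
      haveI : K.Normal := by show (Cfsg.pPrimeCore 2 G).Normal; infer_instance
      haveI : Fintype K := Fintype.ofFinite _
      obtain ⟨θ, hθ⟩ := exists_constituent_res K χ
      obtain ⟨x, hx, hx'⟩ := exists_fixed_conj K hodd hθ P
      let θx : Cfsg.IrrCharacter K :=
        ⟨CharInduce.conjFun K (θ : K → ℂ) x, CharInduce.isIrrCharacter_conjFun K θ.2 x⟩
      refine step K inferInstance hK χ hodd ((CharInduce.constituent_one_iff K χ.2).1 ?_)
      have h1 : (θx : K → ℂ) = fun _ => 1 := by
        by_contra hne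
        refine (exists_fixed_iff K P odd_pPrimeCore).1 ⟨θx, hne, hx⟩ ?_
        refine eq_bot_iff.2 fun c hc => Subgroup.mem_bot.2 ?_
        have hcP : c ∈ (P : Subgroup G) :=
          hN ▸ (Subgroup.centralizer_le_normalizer _ hc.2)
        have h1 : orderOf c ∣ Nat.card K := by simpa using orderOf_dvd_natCard (⟨c, hc.1⟩ : K)
        have h2 : orderOf c ∣ Nat.card (P : Subgroup G) := by
          simpa using orderOf_dvd_natCard (⟨c, hcP⟩ : (P : Subgroup G))
        have hcop : (Nat.card K).Coprime (Nat.card (P : Subgroup G)) := by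
          rw [P.card_eq_multiplicity]
          exact Nat.Coprime.pow_right _ (odd_pPrimeCore (G := G)).coprime_two_right
        exact orderOf_eq_one_iff.1 (Nat.eq_one_of_dvd_coprimes hcop h1 h2)
      rw [← h1]
      exact hx'
    set W := Cfsg.pCore 2 G with hWdef
    haveI : W.Normal := by rw [hWdef]; infer_instance
    have hW2 : IsPGroup 2 W := Cores.pCore_isPGroup
    haveI : Fintype W := Fintype.ofFinite _
    have hcase : (P : Subgroup G) = ⊤ → RealFun (χ : G → ℂ) := fun hP => by
      have hG2 : IsPGroup 2 G := by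
        intro g
        obtain ⟨j, hj⟩ := P.isPGroup' ⟨g, hP ▸ Subgroup.mem_top g⟩
        exact ⟨j, congrArg Subtype.val hj⟩
      obtain ⟨l, hl⟩ := exists_hom hG2 χ hodd
      intro x
      rw [hl]
      have h2 : ∀ c ∈ commutator (P : Subgroup G), (l.comp (P : Subgroup G).subtype) c = 1 :=
        fun c hc => Abelianization.commutator_subset_ker _ hc
      have h3 := h2 _ (hsq ⟨x, hP ▸ Subgroup.mem_top x⟩)
      rw [map_mul] at h3
      have h4 : (l x : ℂ) * l x = 1 := by rw [← Units.val_mul]; exact congrArg Units.val h3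
      rcases mul_self_eq_one_iff.1 h4 with h5 | h5 <;> simp [h5]
    obtain ⟨θ, hθ⟩ := exists_constituent_res W χ
    obtain ⟨x, hx, hx'⟩ := exists_fixed_conj W hodd hθ P
    let θx : Cfsg.IrrCharacter W :=
      ⟨CharInduce.conjFun W (θ : W → ℂ) x, CharInduce.isIrrCharacter_conjFun W θ.2 x⟩
    obtain ⟨l, hl⟩ := exists_hom hW2 θx (odd_data W hodd (θ := θx) hx').2
    set T := CharInduce.inertia W (θx : W → ℂ) with hTdef
    obtain ⟨φ, hφ, hind, f, hf, hres⟩ : ∃ φ : T → ℂ, Cfsg.IsIrrCharacter T φ ∧
        Cfsg.indFun T φ = (χ : G → ℂ) ∧ ∃ f : ℕ, 0 < f ∧ ∀ n : W,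
          φ ⟨n, CharInduce.le_inertia W (IsIrr.isClassFunction θx.2) n.2⟩ = (f : ℂ) * (θx : W → ℂ) n :=
      CharInduce.exists_clifford_correspondent W χ.2 θx.2 hx'
    by_cases hT : T = ⊤
    · by_cases hU : l.ker = ⊥
      · have hinj : Function.Injective l := (MonoidHom.ker_eq_bot_iff l).1 hU
        refine hcase (eq_top_of_le_center hK ?_ P).2
        intro w hw
        rw [Subgroup.mem_center_iff]
        intro g
        have hg : CharInduce.conjFun W (θx : W → ℂ) g = θx :=
          (CharInduce.mem_inertia W).1 (show g ∈ T from hT ▸ Subgroup.mem_top g)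
        have := congrFun hg ⟨w, hw⟩
        rw [hl, conjFun_mk] at this
        have e := congrArg Subtype.val (hinj (Units.ext this))
        exact mul_inv_eq_iff_eq_mul.1 e
      · have hinv : ∀ g : G, CharInduce.conjFun W (θx : W → ℂ) g = θx := fun g =>
          (CharInduce.mem_inertia W).1 (show g ∈ T from hT ▸ Subgroup.mem_top g)
        have hUn : (l.ker.map W.subtype).Normal := ⟨by
          rintro _ ⟨a, ha, rfl⟩ g
          refine ⟨⟨g * a * g⁻¹, ‹W.Normal›.conj_mem _ a.2 g⟩, ?_, rfl⟩
          have := congrFun (hinv g) a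
          rw [hl, conjFun_mk] at this
          exact MonoidHom.mem_ker.2 ((Units.ext this).trans (MonoidHom.mem_ker.1 ha))⟩
        refine step _ hUn (fun h0 => hU ?_) χ hodd ?_
        · exact (Subgroup.map_eq_bot_iff_of_injective _ W.subtype_injective).1 h0
        · rintro _ ⟨a, ha, rfl⟩
          have hr := congrFun (CharInduce.res_eq_smul_of_invariant W χ.2 θx.2 hinv hx')
          have ha' := hr a
          have h1' := hr 1
          simp only [Pi.smul_apply, smul_eq_mul, hl, map_one, Units.val_one,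
            OneMemClass.coe_one] at ha' h1'
          rw [show (W.subtype a : G) = (a : G) from rfl, ha', MonoidHom.mem_ker.1 ha, Units.val_one,
            ← h1']
    · have hlt : Nat.card T < Nat.card G :=
        lt_of_le_of_ne (Subgroup.card_le_card_group T) fun he => hT (Subgroup.eq_top_of_card_eq T he)
      have hPT : (P : Subgroup G) ≤ T := hx
      let e := Subgroup.subgroupOfEquivOfLe hPT
      have hφodd : Odd (Cfsg.charDegree φ) := by
        have h2 : Cfsg.charDegree (χ : G → ℂ) = T.index * Cfsg.charDegree φ := by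
          rw [← hind, Cfsg.charDegree, CharInduce.indFun_one,
            show φ 1 = (Cfsg.charDegree φ : ℂ) from
              BlockBasic.apply_one_eq_charDegree (⟨φ, hφ⟩ : Cfsg.IrrCharacter T),
            ← Nat.cast_mul, Complex.natCast_re, Nat.floor_natCast]
        rw [h2, Nat.odd_mul] at hodd
        exact hodd.2
      have hψ := ih _ hlt T (P.subtype hPT) (by
          ext t
          constructor
          · intro ht
            show (t : G) ∈ (P : Subgroup G)
            rw [← hN]
            refine Subgroup.mem_normalizer_iff.2 fun a => ⟨fun ha => ?_, fun ha => ?_⟩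
            · exact (Subgroup.mem_normalizer_iff.1 ht ⟨a, hPT ha⟩).1 ha
            · have haT : a ∈ T := by
                have := T.mul_mem (T.mul_mem (T.inv_mem t.2) (hPT ha)) t.2
                simpa [mul_assoc] using this
              exact (Subgroup.mem_normalizer_iff.1 ht ⟨a, haT⟩).2 ha
          · exact fun ht => Subgroup.le_normalizer ht) (fun y => by
          have h2 : e y * e y ∈ commutator (P : Subgroup G) := hsq (e y)
          rw [← map_commutator_top e.toMonoidHom e.surjective] at h2
          obtain ⟨c, hc, hce⟩ := h2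
          have hcy : c = y * y := e.injective (hce.trans (map_mul e y y).symm)
          exact hcy ▸ hc) rfl ⟨φ, hφ⟩ hφodd
      intro g
      rw [← hind, ← Complex.conj_eq_iff_im, CharInduce.conj_indFun]
      congr 1
      exact funext ((realFun_iff _).1 hψ)

end Cfsg.Agent.H80.RealOdd
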