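import Cfsg.Agent.H80.RealOddTools

/-!
# Real characters of odd degree of a solvable group and of the normaliser of a Sylow 2-subgroup
-/

set_option linter.style.haveILetI false

open scoped ComplexConjugate

namespace Cfsg.Agent.H80.RealOdd

open CharBasic

universe u

variable {G : Type u} [Group G]

/-- A subgroup of index at most two of `W`. -/
def Sub2 (W U : Subgroup G) : Prop :=
  U ≤ W ∧ ∀ a ∈ W, ∀ b ∈ W, a ∉ U → b ∉ U → a * b ∈ U

theorem Sub2.mul_mem_iff {W U : Subgroup G} (h : Sub2 W U) {a b : G} (ha : a ∈ W) (hb : b ∈ W) :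
    a * b ∈ U ↔ (a ∈ U ↔ b ∈ U) := by
  by_cases hau : a ∈ U
  · rw [U.mul_mem_cancel_left hau]; tauto
  by_cases hbu : b ∈ U
  · rw [U.mul_mem_cancel_right hbu]; tauto
  · have := h.2 a ha b hb hau hbu; tauto

open scoped Classical in
/-- The sign character of `W` with kernel `U`. -/
noncomputable def sgn (W U : Subgroup G) : W → ℂ := fun w => if (w : G) ∈ U then 1 else -1

theorem realFun_sgn (W U : Subgroup G) : RealFun (sgn W U) := fun w => by
  unfold sgn; split_ifs <;> simp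

theorem isIrr_sgn [Finite G] {W U : Subgroup G} (h : Sub2 W U) :
    Cfsg.IsIrrCharacter W (sgn W U) := by
  classical
  cases nonempty_fintype W
  let l : W →* ℂˣ := MonoidHom.mk' (fun w => if (w : G) ∈ U then 1 else -1) fun a b => by
    have := h.mul_mem_iff a.2 b.2
    by_cases ha : (a : G) ∈ U <;> by_cases hb : (b : G) ∈ U <;> simp [this, ha, hb]
  have e : sgn W U = fun w => (l w : ℂ) := by
    funext w
    simp only [sgn, l, MonoidHom.mk'_apply]
    split_ifs <;> simp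
  rw [e]
  exact CharInduce.isIrrCharacter_hom l

theorem sgn_inj {W U U' : Subgroup G} (h : U ≤ W) (h' : U' ≤ W) (e : sgn W U = sgn W U') :
    U = U' := by
  classical
  ext g
  refine ⟨fun hg => ?_, fun hg => ?_⟩
  · have := congrFun e ⟨g, h hg⟩
    simp only [sgn, if_pos hg] at this
    by_contra hg'
    rw [if_neg hg'] at this
    norm_num at this
  · have := congrFun e ⟨g, h' hg⟩
    simp only [sgn, if_pos hg] at this
    by_contra hg'
    rw [if_neg hg'] at this
    norm_num at this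

/-- Conjugate of a subgroup: the elements sent into it by `n`. -/
def pull (U : Subgroup G) (n : G) : Subgroup G := U.comap (MulAut.conj n).toMonoidHom

theorem mem_pull {U : Subgroup G} {n g : G} : g ∈ pull U n ↔ n * g * n⁻¹ ∈ U := Iff.rfl

theorem conjFun_sgn (W U : Subgroup G) [W.Normal] (n : G) :
    CharInduce.conjFun W (sgn W U) n = sgn W (pull U n) := by
  funext w
  rfl

theorem sub2_pull {W U : Subgroup G} [hW : W.Normal] (h : Sub2 W U) (n : G) :
    Sub2 W (pull U n) := by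
  refine ⟨fun g hg => ?_, fun a ha b hb hau hbu => ?_⟩
  · have := hW.conj_mem _ (h.1 hg) n⁻¹
    simpa [mul_assoc] using this
  · rw [mem_pull] at hau hbu ⊢
    have := h.2 _ (hW.conj_mem a ha n) _ (hW.conj_mem b hb n) hau hbu
    simpa [mul_assoc] using this

theorem inertia_sgn [Finite G] {W U : Subgroup G} [hW : W.Normal] (h : U ≤ W) :
    CharInduce.inertia W (sgn W U) = Subgroup.normalizer (U : Set G) := by
  ext x
  rw [CharInduce.mem_inertia, conjFun_sgn]
  have hle : pull U x ≤ W := fun g hg => by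
    have := hW.conj_mem _ (h hg) x⁻¹
    simpa [mul_assoc] using this
  refine ⟨fun e => ?_, fun hx => ?_⟩
  · have e' := sgn_inj hle h e
    refine Subgroup.mem_normalizer_iff.2 fun g => ?_
    conv_lhs => rw [← e']
    exact mem_pull
  · congr 1
    ext g
    exact ((Subgroup.mem_normalizer_iff.1 hx) g).symm

/-- The real odd-degree characters of the inertia group over the sign character of `U`. -/
noncomputable def aU [Finite G] (W U : Subgroup G) [W.Normal] (T : Subgroup G) (hWT : W ≤ T) : ℕ :=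
  Nat.card {ψ : Cfsg.IrrCharacter T // (RealFun (ψ : T → ℂ) ∧ Odd (Cfsg.charDegree (ψ : T → ℂ))) ∧
    ∀ w : W, (ψ : T → ℂ) (Subgroup.inclusion hWT w) = (ψ : T → ℂ) 1 * sgn W U w}

/-- Characters trivial on `U` split by their restriction to `W`. -/
theorem roK_split [Finite G] {W U : Subgroup G} [W.Normal] (h : Sub2 W U) (T : Subgroup G)
    (hWT : W ≤ T) (hT : T ≤ Subgroup.normalizer (U : Set G)) :
    (U = W → aU W U T hWT = roK T W) ∧ (U ≠ W → roK T U = aU W U T hWT + roK T W) := by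
  classical
  constructor
  · rintro rfl
    refine Nat.card_congr (Equiv.subtypeEquivRight fun ψ => and_congr_right fun _ =>
      ⟨fun hψ t ht => ?_, fun hψ w => ?_⟩)
    · have := hψ ⟨t, ht⟩
      simp only [sgn, if_pos ht, mul_one] at this
      rw [← this]
      rfl
    · simp only [sgn, if_pos w.2, mul_one]
      exact hψ _ w.2
  · intro hne
    obtain ⟨w0, hw0, hw0U⟩ : ∃ w0 ∈ W, w0 ∉ U :=
      SetLike.exists_of_lt (lt_of_le_of_ne h.1 hne)
    let UT := U.subgroupOf T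
    haveI : UT.Normal := Subgroup.normal_subgroupOf_iff_le_normalizer (h.1.trans hWT) |>.2 hT
    -- a character trivial on `U` is either trivial on `W` or a multiple of the sign
    have key : ∀ ψ : Cfsg.IrrCharacter T, (∀ t : T, (t : G) ∈ U → (ψ : T → ℂ) t = (ψ : T → ℂ) 1) →
        (∀ w : W, (ψ : T → ℂ) (Subgroup.inclusion hWT w) = (ψ : T → ℂ) 1 * sgn W U w) ∨
          ∀ t : T, (t : G) ∈ W → (ψ : T → ℂ) t = (ψ : T → ℂ) 1 := by
      intro ψ hψ
      obtain ⟨φ, -, hφ, hirr⟩ := CharInduce.IsChar.exists_deflate (IsIrr.isCharacter ψ.2) UT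
        fun t ht => hψ t ht
      obtain ⟨k, ρ, hρ, hρφ⟩ := hirr ψ.2
      let t0 : T := ⟨w0, hWT hw0⟩
      have hz : (QuotientGroup.mk t0 : T ⧸ UT) ∈ Subgroup.center (T ⧸ UT) := by
        rw [Subgroup.mem_center_iff]
        intro q
        obtain ⟨t, rfl⟩ := QuotientGroup.mk_surjective q
        rw [← QuotientGroup.mk_mul, ← QuotientGroup.mk_mul, QuotientGroup.eq,
          Subgroup.mem_subgroupOf]
        have hn : (t : G) * w0 * (t : G)⁻¹ ∈ W := ‹W.Normal›.conj_mem _ hw0 _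
        have hnU : (t : G) * w0 * (t : G)⁻¹ ∉ U := fun hc =>
          hw0U (((Subgroup.mem_normalizer_iff.1 (hT t.2)) w0).2 hc)
        have h4 := h.2 _ (W.inv_mem hn) _ hw0 (fun hc => hnU ((inv_mem_iff).1 hc)) hw0U
        have h5 := ((Subgroup.mem_normalizer_iff.1 (inv_mem (hT t.2))) _).1 h4
        simpa [mul_assoc, t0] using h5
      obtain ⟨ω, -, -, hω⟩ := @exists_central_scalar _ _ _ _ _ _ _ ρ hρ _ hz
      have hmul : ∀ t : T, (ψ : T → ℂ) (t * t0) = ω * (ψ : T → ℂ) t := fun t => by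
        rw [hφ, hφ, ← hρφ, QuotientGroup.mk_mul]
        exact hω _
      have h1 := IsIrr.one_ne_zero ψ.2
      have hsq : ω * ω = 1 := by
        have h2 := hmul t0
        have h3 := hmul 1
        rw [one_mul] at h3
        have h4 : (ψ : T → ℂ) (t0 * t0) = (ψ : T → ℂ) 1 :=
          hψ _ (h.2 w0 hw0 w0 hw0 hw0U hw0U)
        rw [h4, h3, ← mul_assoc] at h2
        exact (mul_right_cancel₀ h1 (by rw [one_mul]; exact h2)).symm
      have hval : ∀ t : T, (t : G) ∈ W → (t : G) ∉ U → (ψ : T → ℂ) t = ω * (ψ : T → ℂ) 1 := by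
        intro t ht htU
        have hu : (((t * t0⁻¹ : T)) : G) ∈ U := by
          refine h.2 _ ht _ (inv_mem hw0) htU fun hc => hw0U ?_
          simpa using inv_mem hc
        have := hmul (t * t0⁻¹)
        rw [inv_mul_cancel_right, hψ _ hu] at this
        exact this
      rcases mul_self_eq_one_iff.1 hsq with hone | hone
      · refine Or.inr fun t ht => ?_
        by_cases htU : (t : G) ∈ U
        · exact hψ t htU
        · rw [hval t ht htU, hone, one_mul]
      · refine Or.inl fun w => ?_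
        unfold sgn
        by_cases hwU : (w : G) ∈ U
        · rw [if_pos hwU, mul_one]; exact hψ _ hwU
        · rw [if_neg hwU, hval _ (by exact w.2) hwU, hone]; ring
    have hdis : ∀ ψ : Cfsg.IrrCharacter T,
        (∀ w : W, (ψ : T → ℂ) (Subgroup.inclusion hWT w) = (ψ : T → ℂ) 1 * sgn W U w) →
        ¬ ∀ t : T, (t : G) ∈ W → (ψ : T → ℂ) t = (ψ : T → ℂ) 1 := fun ψ hs hW1 => by
      have h2 := hs ⟨w0, hw0⟩
      rw [hW1 _ hw0, sgn, if_neg hw0U, mul_neg, mul_one] at h2
      exact IsIrr.one_ne_zero ψ.2 (by linear_combination h2 / 2)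
    have hsub : ∀ ψ : Cfsg.IrrCharacter T,
        (∀ w : W, (ψ : T → ℂ) (Subgroup.inclusion hWT w) = (ψ : T → ℂ) 1 * sgn W U w) →
        ∀ t : T, (t : G) ∈ U → (ψ : T → ℂ) t = (ψ : T → ℂ) 1 := fun ψ hs t ht => by
      have h2 := hs ⟨t, h.1 ht⟩
      rw [sgn, if_pos ht, mul_one] at h2
      rw [← h2]
      rfl
    rw [roK, aU, roK, ← Nat.card_sum]
    refine (Nat.card_eq_of_bijective (Sum.elim (fun ψ => ⟨ψ.1, ψ.2.1, hsub ψ.1 ψ.2.2⟩)
      (fun ψ => ⟨ψ.1, ψ.2.1, fun t ht => ψ.2.2 t (h.1 ht)⟩)) ⟨?_, ?_⟩).symm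
    · rintro (⟨ψ, hψ⟩ | ⟨ψ, hψ⟩) (⟨φ, hφ⟩ | ⟨φ, hφ⟩) e
      · simp only [Sum.elim_inl, Subtype.mk.injEq] at e; subst e; rfl
      · simp only [Sum.elim_inl, Sum.elim_inr, Subtype.mk.injEq] at e; subst e
        exact absurd hφ.2 (hdis _ hψ.2)
      · simp only [Sum.elim_inl, Sum.elim_inr, Subtype.mk.injEq] at e; subst e
        exact absurd hψ.2 (hdis _ hφ.2)
      · simp only [Sum.elim_inr, Subtype.mk.injEq] at e; subst e; rfl
    · rintro ⟨ψ, hψ1, hψ2⟩
      rcases key ψ hψ2 with hs | hs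
      · exact ⟨Sum.inl ⟨ψ, hψ1, hs⟩, rfl⟩
      · exact ⟨Sum.inr ⟨ψ, hψ1, hs⟩, rfl⟩

variable [Fintype G] (P : Sylow 2 G) (W : Subgroup G) [hW : W.Normal]

/-- Sign kernels fixed by `P`. -/
abbrev SignSet : Type u :=
  {U : Subgroup G // Sub2 W U ∧ (P : Subgroup G) ≤ Subgroup.normalizer (U : Set G)}

/-- `χ` lies over the sign character of `U`. -/
def Over [Fintype W] (U : Subgroup G) (χ : Cfsg.IrrCharacter G) : Prop :=
  Cfsg.classInner (fun w : W => (χ : G → ℂ) w) (sgn W U) ≠ 0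

variable [Fintype W]

theorem exists_over (hW2 : IsPGroup 2 W) {χ : Cfsg.IrrCharacter G}
    (hreal : RealFun (χ : G → ℂ)) (hodd : Odd (Cfsg.charDegree (χ : G → ℂ))) :
    ∃ U : SignSet P W, Over W U.1 χ := by
  classical
  obtain ⟨θ, hθ, hθr⟩ := exists_real_constituent W hodd hreal
  obtain ⟨x, hx, hx'⟩ := exists_fixed_conj W hodd hθ P
  let θx : Cfsg.IrrCharacter W :=
    ⟨CharInduce.conjFun W (θ : W → ℂ) x, CharInduce.isIrrCharacter_conjFun W θ.2 x⟩
  obtain ⟨-, hθodd⟩ := odd_data W hodd (θ := θx) hx'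
  obtain ⟨l, hl⟩ := exists_hom hW2 θx hθodd
  have hl2 : ∀ w : W, (l w : ℂ) = 1 ∨ (l w : ℂ) = -1 := fun w => by
    have h1 : conj ((θx : W → ℂ) w) = (θx : W → ℂ) w := ((realFun_iff _).1 hθr) _
    rw [← IsChar.inv_apply (IsIrr.isCharacter θx.2), hl] at h1
    simp only [map_inv, Units.val_inv_eq_inv_val] at h1
    refine mul_self_eq_one_iff.1 ?_
    conv_lhs => arg 1; rw [← h1]
    exact inv_mul_cancel₀ (Units.ne_zero _)
  let U : Subgroup G := l.ker.map W.subtype
  have hU : ∀ w : W, (w : G) ∈ U ↔ (l w : ℂ) = 1 := fun w => by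
    rw [Units.val_eq_one]
    constructor
    · rintro ⟨v, hv, e⟩
      rwa [← W.subtype_injective e]
    · exact fun h => ⟨w, h, rfl⟩
  have hUW : U ≤ W := Subgroup.map_subtype_le _
  have hsgn : sgn W U = (θx : W → ℂ) := by
    funext w
    rw [hl]
    show _ = (l w : ℂ)
    unfold sgn
    by_cases h : (l w : ℂ) = 1
    · rw [if_pos ((hU w).2 h), h]
    · rw [if_neg (fun hc => h ((hU w).1 hc)), (hl2 w).resolve_left h]
  refine ⟨⟨U, ⟨hUW, fun a ha b hb hau hbu => ?_⟩, ?_⟩, ?_⟩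
  · have h1 : (l ⟨a, ha⟩ : ℂ) = -1 := (hl2 _).resolve_left fun h => hau ((hU _).2 h)
    have h2 : (l ⟨b, hb⟩ : ℂ) = -1 := (hl2 _).resolve_left fun h => hbu ((hU _).2 h)
    refine (hU ⟨a * b, W.mul_mem ha hb⟩).2 ?_
    rw [show (⟨a * b, W.mul_mem ha hb⟩ : W) = ⟨a, ha⟩ * ⟨b, hb⟩ from rfl, map_mul, Units.val_mul,
      h1, h2]
    norm_num
  · rw [← inertia_sgn hUW, hsgn]
    exact hx
  · show Cfsg.classInner _ (sgn W U) ≠ 0
    rw [hsgn]
    exact hx'

/-- The correspondence over a sign character. -/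
theorem card_over (U : SignSet P W) (hWT : W ≤ CharInduce.inertia W (sgn W U.1)) :
    Nat.card {χ : Cfsg.IrrCharacter G // (RealFun (χ : G → ℂ) ∧
      Odd (Cfsg.charDegree (χ : G → ℂ))) ∧ Over W U.1 χ} =
      aU W U.1 (CharInduce.inertia W (sgn W U.1)) hWT := by
  classical
  have hθ := isIrr_sgn U.2.1
  have hidx : Odd (CharInduce.inertia W (sgn W U.1)).index :=
    odd_index_of_le (P := P) (by rw [inertia_sgn U.2.1.1]; exact U.2.2)
  have hne : ∀ ψ : Cfsg.IrrCharacter (CharInduce.inertia W (sgn W U.1)),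
      (∀ w : W, (ψ : CharInduce.inertia W (sgn W U.1) → ℂ) (Subgroup.inclusion hWT w) = (ψ : CharInduce.inertia W (sgn W U.1) → ℂ) 1 * sgn W U.1 w) →
      Cfsg.classInner (CharInduce.resTo W hWT (ψ : CharInduce.inertia W (sgn W U.1) → ℂ)) (sgn W U.1) ≠ 0 := fun ψ hψ => by
    have e : CharInduce.resTo W hWT (ψ : CharInduce.inertia W (sgn W U.1) → ℂ) = (ψ : CharInduce.inertia W (sgn W U.1) → ℂ) 1 • sgn W U.1 := funext hψ
    rw [e, classInner_smul_left, classInner_irr_self hθ, mul_one]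
    exact IsIrr.one_ne_zero ψ.2
  have hdeg : ∀ ψ : Cfsg.IrrCharacter (CharInduce.inertia W (sgn W U.1)),
      Cfsg.charDegree (Cfsg.indFun (CharInduce.inertia W (sgn W U.1)) (ψ : CharInduce.inertia W (sgn W U.1) → ℂ)) =
        (CharInduce.inertia W (sgn W U.1)).index * Cfsg.charDegree (ψ : CharInduce.inertia W (sgn W U.1) → ℂ) := fun ψ => by
    rw [Cfsg.charDegree, CharInduce.indFun_one, BlockBasic.apply_one_eq_charDegree,
      ← Nat.cast_mul, Complex.natCast_re, Nat.floor_natCast]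
  symm
  refine Nat.card_eq_of_bijective (fun ψ => ⟨⟨Cfsg.indFun (CharInduce.inertia W (sgn W U.1))
    (ψ.1 : CharInduce.inertia W (sgn W U.1) → ℂ),
    (CharInduce.clifford_correspondence W hθ hWT ψ.1.2 (hne _ ψ.2.2)).1⟩, ⟨fun g => ?_, ?_⟩, ?_⟩)
    ⟨?_, ?_⟩
  · rw [← Complex.conj_eq_iff_im, CharInduce.conj_indFun]
    congr 1
    exact funext ((realFun_iff _).1 ψ.2.1.1)
  · exact (hdeg ψ.1).symm ▸ hidx.mul ψ.2.1.2
  · exact ((CharInduce.clifford_correspondence W hθ hWT ψ.1.2 (hne _ ψ.2.2)).2.1).trans_ne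
      (hne _ ψ.2.2)
  · intro ψ φ e
    have e' : Cfsg.indFun (CharInduce.inertia W (sgn W U.1))
        (ψ.1 : CharInduce.inertia W (sgn W U.1) → ℂ) =
        Cfsg.indFun (CharInduce.inertia W (sgn W U.1)) (φ.1 : CharInduce.inertia W (sgn W U.1) → ℂ) :=
      congrArg (fun c => (c.1 : G → ℂ)) e
    exact Subtype.ext (Subtype.ext ((CharInduce.clifford_correspondence W hθ hWT φ.1.2
      (hne _ φ.2.2)).2.2 _ ψ.1.2 (hne _ ψ.2.2) e'))
  · rintro ⟨χ, ⟨hreal, hodd⟩, hov⟩
    obtain ⟨φ, hφ, hind, f, hf, hres⟩ :=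
      CharInduce.exists_clifford_correspondent W χ.2 hθ hov
    have hφ1 : φ 1 = (f : ℂ) := by
      have := hres 1
      rw [show sgn W U.1 1 = 1 by simp [sgn], mul_one] at this
      rw [← this]; rfl
    have hψW : ∀ w : W, φ (Subgroup.inclusion hWT w) = φ 1 * sgn W U.1 w := fun w => by
      rw [hφ1]; exact hres w
    have hφc : Cfsg.IsIrrCharacter _ (fun t => conj (φ t)) := CharInduce.IsIrr.conj hφ
    have hψc : ∀ w : W, conj (φ (Subgroup.inclusion hWT w)) = conj (φ 1) * sgn W U.1 w :=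
      fun w => by rw [hψW, map_mul, (realFun_iff _).1 (realFun_sgn W U.1)]
    have heq : (fun t => conj (φ t)) = φ := by
      refine (CharInduce.clifford_correspondence W hθ hWT hφ (hne ⟨φ, hφ⟩ hψW)).2.2 _ hφc
        (hne ⟨_, hφc⟩ hψc) ?_
      funext g
      rw [← CharInduce.conj_indFun, hind]
      exact (realFun_iff _).1 hreal g
    refine ⟨⟨⟨φ, hφ⟩, ⟨(realFun_iff _).2 (congrFun heq), ?_⟩, hψW⟩,
      Subtype.ext (Subtype.ext hind)⟩
    have h2 := hdeg ⟨φ, hφ⟩
    rw [show Cfsg.indFun _ φ = (χ : G → ℂ) from hind] at h2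
    rw [h2] at hodd
    exact (Nat.odd_mul.1 hodd).2

/-- Counting real odd-degree characters by their sign constituents fixed by `P`. -/
theorem card_normalizer_mul_ro [Fintype (SignSet P W)] (hW2 : IsPGroup 2 W)
    (hWT : ∀ U : SignSet P W, W ≤ CharInduce.inertia W (sgn W U.1)) :
    Nat.card (Subgroup.normalizer ((P : Subgroup G) : Set G)) * ro G =
      ∑ U : SignSet P W, Nat.card (Subgroup.normalizer ((P : Subgroup G) : Set G) ⊓
        Subgroup.normalizer (U.1 : Set G) : Subgroup G) *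
          aU W U.1 (CharInduce.inertia W (sgn W U.1)) (hWT U) := by
  classical
  set N := Subgroup.normalizer ((P : Subgroup G) : Set G) with hN
  haveI : Fintype N := Fintype.ofFinite _
  have hA : ∀ U : SignSet P W, aU W U.1 (CharInduce.inertia W (sgn W U.1)) (hWT U) =
      ∑ χ : {χ : Cfsg.IrrCharacter G // RealFun (χ : G → ℂ) ∧ Odd (Cfsg.charDegree (χ : G → ℂ))},
        if Over W U.1 χ.1 then 1 else 0 := fun U => by
    rw [← card_over P W U (hWT U), Finset.sum_boole, Nat.cast_id, ← Fintype.card_subtype,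
      ← Nat.card_eq_fintype_card]
    exact Nat.card_congr (Equiv.subtypeSubtypeEquivSubtypeInter _
      (fun χ => Over W U.1 χ)).symm
  simp only [hA, Finset.mul_sum]
  rw [Finset.sum_comm, ro, Nat.card_eq_fintype_card
    (α := {χ : Cfsg.IrrCharacter G // RealFun (χ : G → ℂ) ∧ Odd (Cfsg.charDegree (χ : G → ℂ))}),
    ← Finset.card_univ, mul_comm, ← smul_eq_mul, ← Finset.sum_const]
  refine Finset.sum_congr rfl fun χ _ => ?_
  simp only [mul_ite, mul_one, mul_zero]
  rw [← Finset.sum_filter]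
  obtain ⟨U0, hU0⟩ := exists_over P W hW2 χ.2.1 χ.2.2
  -- the sign kernels under `χ` are the conjugates of one of them under the normaliser
  have hin : ∀ U : SignSet P W, (P : Subgroup G) ≤ CharInduce.inertia W (sgn W U.1) := fun U => by
    rw [inertia_sgn U.2.1.1]; exact U.2.2
  let F : N → SignSet P W := fun n => ⟨pull U0.1 n, sub2_pull U0.2.1 n, fun p hp => by
    rw [← inertia_sgn (sub2_pull U0.2.1 (n : G)).1, ← conjFun_sgn, mem_inertia_conjFun]
    exact hin U0 ((Subgroup.mem_normalizer_iff.1 n.2 p).1 hp)⟩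
  have hFover : ∀ n : N, Over W (F n).1 χ.1 := fun n => by
    show Cfsg.classInner _ (sgn W (pull U0.1 n)) ≠ 0
    rw [← conjFun_sgn, CharInduce.classInner_res_conjFun W (IsIrr.isClassFunction χ.1.2)]
    exact hU0
  rw [Nat.card_eq_fintype_card (α := N), ← Finset.card_univ,
    Finset.card_eq_sum_card_fiberwise (f := F)
      (t := Finset.univ.filter fun U : SignSet P W => Over W U.1 χ.1)
      (fun n _ => Finset.mem_coe.2 (Finset.mem_filter.2 ⟨Finset.mem_univ _, hFover n⟩))]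
  refine Finset.sum_congr rfl fun U hU => ?_
  rw [Finset.mem_filter] at hU
  obtain ⟨x, hx⟩ := CharInduce.exists_conjFun_eq_of_constituent W χ.1.2 (isIrr_sgn U0.2.1)
    (isIrr_sgn U.2.1) hU0 hU.2
  obtain ⟨n0, hn0, hn0'⟩ := exists_normalizer_conj W P (hin U0) (x := x) (by rw [← hx]; exact hin U)
  have hn0U : pull U0.1 n0 = U.1 := by
    refine sgn_inj (sub2_pull U0.2.1 n0).1 U.2.1.1 ?_
    rw [← conjFun_sgn, hn0', ← hx]
  rw [← Fintype.card_subtype, ← Nat.card_eq_fintype_card]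
  symm
  refine Nat.card_eq_of_bijective (fun m => ⟨⟨n0 * m.1, N.mul_mem hn0 m.2.1⟩, ?_⟩) ⟨?_, ?_⟩
  · refine Subtype.ext ?_
    show pull U0.1 (n0 * m.1) = U.1
    ext g
    refine Iff.trans ?_ ((Subgroup.mem_normalizer_iff.1 m.2.2) g).symm
    refine Iff.trans ?_ (SetLike.ext_iff.1 hn0U _)
    simp only [mem_pull, mul_inv_rev, mul_assoc]
  · intro m m' e
    have := congrArg (fun c => (c.1 : G)) e
    exact Subtype.ext (mul_left_cancel this)
  · rintro ⟨n, hn⟩
    have hn' : pull U0.1 (n : G) = U.1 := congrArg Subtype.val hn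
    refine ⟨⟨n0⁻¹ * n, N.mul_mem (N.inv_mem hn0) n.2,
      Subgroup.mem_normalizer_iff.2 fun g => ?_⟩, Subtype.ext (Subtype.ext (by simp))⟩
    refine Iff.trans (SetLike.ext_iff.1 hn' g).symm ?_
    refine Iff.trans ?_ (SetLike.ext_iff.1 hn0U _)
    simp only [mem_pull, mul_inv_rev, inv_inv, mul_assoc, mul_inv_cancel, mul_inv_cancel_left, mul_one]

end Cfsg.Agent.H80.RealOdd
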