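import Cfsg.Agent.H80.RealOddCount

/-!
# The two inductions behind the real odd-degree count in solvable groups
-/

set_option linter.style.haveILetI false

open scoped ComplexConjugate

namespace Cfsg.Agent.H80.RealOdd

open CharBasic

universe u

/-- Transport of `roK` along the inclusion of a subgroup. -/
theorem roK_map {G : Type u} [Group G] [Finite G] {N : Subgroup G} (H L : Subgroup N) :
    roK H L = roK (H.map N.subtype) (L.map N.subtype) := by
  let e := H.equivMapOfInjective N.subtype N.subtype_injective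
  have he : ∀ h : H, ((e h : H.map N.subtype) : G) = ((h : N) : G) := fun h => rfl
  rw [roK, roK, ← card_inflate e.toMonoidHom e.surjective
    (fun χ : H → ℂ => (RealFun χ ∧ Odd (Cfsg.charDegree χ)) ∧ ∀ h : H, (h : N) ∈ L → χ h = χ 1)
    (fun (χ : ↥(H.map N.subtype) → ℂ) => (RealFun χ ∧ Odd (Cfsg.charDegree χ)) ∧
      ∀ h : ↥(H.map N.subtype), (h : G) ∈ L.map N.subtype → χ h = χ 1) fun φ => by
    rw [realFun_comp e.toMonoidHom e.surjective, charDegree_comp e.toMonoidHom]
    refine and_congr_right fun _ => ⟨fun hh h hm => ?_, fun hh h hm => ?_⟩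
    · obtain ⟨a, rfl⟩ := e.surjective h
      rw [he] at hm
      have := hh a ((Subgroup.mem_map_iff_mem N.subtype_injective).1 hm)
      simpa using this
    · have := hh (e h) (by rw [he]; exact Subgroup.mem_map_of_mem _ hm)
      simpa using this]
  refine Nat.card_congr (Equiv.subtypeEquivRight fun χ => ⟨fun h => ⟨h, fun a ha => ?_⟩, And.left⟩)
  rw [show a = 1 from e.injective ((show e a = 1 from ha).trans (map_one e).symm)]

/-- A real character of odd degree is trivial on normal subgroups of odd order. -/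
theorem trivial_on_odd {G : Type u} [Group G] [Finite G] (K : Subgroup G) [K.Normal]
    (hK : Odd (Nat.card K)) (χ : Cfsg.IrrCharacter G) (hreal : RealFun (χ : G → ℂ))
    (hodd : Odd (Cfsg.charDegree (χ : G → ℂ))) : ∀ k ∈ K, (χ : G → ℂ) k = (χ : G → ℂ) 1 := by
  cases nonempty_fintype G
  cases nonempty_fintype K
  obtain ⟨θ, hθ, hθr⟩ := exists_real_constituent K hodd hreal
  rw [CharInduce.eq_one_of_real_of_odd hK θ.2 ((realFun_iff _).1 hθr)] at hθ
  exact (CharInduce.constituent_one_iff K χ.2).1 hθ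

theorem le_sylow {G : Type u} [Group G] [Finite G] (P : Sylow 2 G) {W : Subgroup G} [W.Normal]
    (hW : IsPGroup 2 W) : W ≤ (P : Subgroup G) := by
  obtain ⟨Q, hQ⟩ := hW.exists_le_sylow
  obtain ⟨g, hg⟩ := MulAction.exists_smul_eq G Q P
  intro w hw
  rw [← hg, Sylow.coe_subgroup_smul, Subgroup.mem_pointwise_smul_iff_inv_smul_mem]
  refine hQ ?_
  have := ‹W.Normal›.conj_mem w hw g⁻¹
  simpa [MulAut.conj_apply] using this

/-- A central 2-core of a solvable group with trivial odd core is the whole group. -/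
theorem eq_top_of_le_center {G : Type u} [Group G] [Finite G] [Group.IsSolvable G]
    (hK : Cfsg.pPrimeCore 2 G = ⊥) (hc : Cfsg.pCore 2 G ≤ Subgroup.center G) (P : Sylow 2 G) :
    Cfsg.pCore 2 G = ⊤ ∧ (P : Subgroup G) = ⊤ := by
  have hC := Cores.centralizer_pCore_le (p := 2) Cores.isPSolvable_of_isSolvable hK
  have h : Subgroup.centralizer (Cfsg.pCore 2 G : Set G) = ⊤ :=
    Subgroup.centralizer_eq_top_iff_subset.2 hc
  rw [h, top_le_iff] at hC
  refine ⟨hC, top_le_iff.1 ?_⟩
  rw [← hC]
  exact le_sylow P Cores.pCore_isPGroup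

theorem odd_pPrimeCore {G : Type u} [Group G] [Finite G] :
    Odd (Nat.card (Cfsg.pPrimeCore 2 G)) :=
  Nat.coprime_two_right.1 Cores.coprime_card_pPrimeCore

/-- A normal subgroup which has the trivial subgroup with index at most two is central. -/
theorem le_center_of_sub2_bot {G : Type u} [Group G] {W : Subgroup G} [hW : W.Normal]
    (h : Sub2 W ⊥) : W ≤ Subgroup.center G := by
  intro w hw
  rw [Subgroup.mem_center_iff]
  intro g
  by_cases hw1 : w = 1
  · simp [hw1]
  have hnb : ∀ {a : G}, a ≠ 1 → a ∉ (⊥ : Subgroup G) := fun ha hc => ha (Subgroup.mem_bot.1 hc)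
  have hg1 : g * w * g⁻¹ ≠ 1 := fun hc => hw1 (conj_eq_one_iff.1 hc)
  have h1 := Subgroup.mem_bot.1 (h.2 w hw w hw (hnb hw1) (hnb hw1))
  have h2 := Subgroup.mem_bot.1 (h.2 _ (hW.conj_mem w hw g) w hw (hnb hg1) (hnb hw1))
  exact mul_inv_eq_iff_eq_mul.1 (mul_right_cancel (h2.trans h1.symm))

theorem card_quotient_lt {G : Type u} [Group G] [Finite G] (L : Subgroup G) (hne : L ≠ ⊥) :
    Nat.card (G ⧸ L) < Nat.card G := by
  rw [L.card_eq_card_quotient_mul_card_subgroup]
  refine lt_mul_of_one_lt_right Nat.card_pos ?_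
  exact Subgroup.one_lt_card_iff_ne_bot _ |>.2 hne

section Count

variable {G : Type u} [Group G] [Finite G] [Group.IsSolvable G] (P : Sylow 2 G)

open scoped Classical in
/-- The count over a sign character in terms of kernels. -/
noncomputable def av (W U T : Subgroup G) : ℕ :=
  if U = W then roK T W else roK T U - roK T W

theorem aU_eq_av {W U : Subgroup G} [W.Normal] (h : Sub2 W U) (T : Subgroup G) (hWT : W ≤ T)
    (hT : T ≤ Subgroup.normalizer (U : Set G)) : aU W U T hWT = av W U T := by
  classical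
  obtain ⟨h1, h2⟩ := roK_split h T hWT hT
  by_cases hU : U = W
  · rw [av, if_pos hU]; exact h1 hU
  · rw [av, if_neg hU, h2 hU, Nat.add_sub_cancel]

/-- The inductive hypothesis, applied to a section containing the Sylow subgroup. -/
theorem roK_inf_eq
    (IH : ∀ (X : Type u) [Group X] [Finite X] [Group.IsSolvable X], Nat.card X < Nat.card G →
      ∀ Q : Sylow 2 X, ro X = ro (Subgroup.normalizer ((Q : Subgroup X) : Set X)))
    {H L : Subgroup G} (hPH : (P : Subgroup G) ≤ H) (hLH : L ≤ H)
    (hHL : H ≤ Subgroup.normalizer (L : Set G)) (hne : L ≠ ⊥) :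
    roK H L = roK (Subgroup.normalizer ((P : Subgroup G) : Set G) ⊓ H) L := by
  set N := Subgroup.normalizer ((P : Subgroup G) : Set G)
  haveI : (L.subgroupOf H).Normal := (Subgroup.normal_subgroupOf_iff_le_normalizer hLH).2 hHL
  let f := QuotientGroup.mk' (L.subgroupOf H)
  have hf : Function.Surjective f := QuotientGroup.mk'_surjective _
  let Q := (P.subtype hPH).mapSurjective hf
  have hcard : Nat.card (H ⧸ L.subgroupOf H) < Nat.card G :=
    lt_of_lt_of_le (card_quotient_lt _ fun h => hne (by
      rw [Subgroup.subgroupOf_eq_bot, disjoint_iff, inf_eq_left.2 hLH] at h; exact h))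
      (Subgroup.card_le_card_group H)
  rw [roK_eq_ro f hf fun h => by
      rw [QuotientGroup.mk'_apply, QuotientGroup.eq_one_iff, Subgroup.mem_subgroupOf],
    IH _ hcard Q]
  have hmap := map_normalizer_sylow f hf (P.subtype hPH)
  let g : (N ⊓ H : Subgroup G) →* Subgroup.normalizer ((Q : Subgroup (H ⧸ L.subgroupOf H)) :
      Set (H ⧸ L.subgroupOf H)) :=
    MonoidHom.codRestrict (f.comp (Subgroup.inclusion inf_le_right)) _ fun x => by
      show f _ ∈ Subgroup.normalizer (((P.subtype hPH : Subgroup H).map f : Subgroup _) : Set _)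
      rw [← hmap]
      refine Subgroup.mem_map_of_mem f (Subgroup.mem_normalizer_iff.2 fun h => ?_)
      exact (Subgroup.mem_normalizer_iff.1 x.2.1) (h : G)
  refine (roK_eq_ro g ?_ fun x => ?_).symm
  · rintro ⟨y, hy⟩
    have hy' : y ∈ (Subgroup.normalizer ((P.subtype hPH : Subgroup H) : Set H)).map f := by
      rw [hmap]; exact hy
    obtain ⟨h, hh, rfl⟩ := hy'
    refine ⟨⟨h, Subgroup.mem_normalizer_iff.2 fun a => ⟨fun ha => ?_, fun ha => ?_⟩, h.2⟩,
      Subtype.ext rfl⟩
    · exact (Subgroup.mem_normalizer_iff.1 hh ⟨a, hPH ha⟩).1 ha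
    · have haH : a ∈ H := by
        have := H.mul_mem (H.mul_mem (H.inv_mem h.2) (hPH ha)) h.2
        simpa [mul_assoc] using this
      exact (Subgroup.mem_normalizer_iff.1 hh ⟨a, haH⟩).2 ha
  · rw [Subtype.ext_iff]
    show f (Subgroup.inclusion _ x) = 1 ↔ _
    rw [QuotientGroup.mk'_apply, QuotientGroup.eq_one_iff, Subgroup.mem_subgroupOf]
    rfl

/-- The inductive step when the odd core is trivial. -/
theorem ro_eq_of_core
    (IH : ∀ (X : Type u) [Group X] [Finite X] [Group.IsSolvable X], Nat.card X < Nat.card G →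
      ∀ Q : Sylow 2 X, ro X = ro (Subgroup.normalizer ((Q : Subgroup X) : Set X)))
    (hK : Cfsg.pPrimeCore 2 G = ⊥)
    (hN : Subgroup.normalizer ((P : Subgroup G) : Set G) ≠ ⊤) :
    ro G = ro (Subgroup.normalizer ((P : Subgroup G) : Set G)) := by
  classical
  cases nonempty_fintype G
  set N := Subgroup.normalizer ((P : Subgroup G) : Set G) with hNdef
  set W := Cfsg.pCore 2 G with hWdef
  haveI : W.Normal := by rw [hWdef]; infer_instance
  have hW2 : IsPGroup 2 W := Cores.pCore_isPGroup
  haveI : Fintype W := Fintype.ofFinite _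
  have hWP : W ≤ (P : Subgroup G) := le_sylow P hW2
  have hWN : W ≤ N := hWP.trans Subgroup.le_normalizer
  have htop : ¬ W ≤ Subgroup.center G := fun hc => hN (by
    rw [hNdef, (eq_top_of_le_center hK hc P).2]
    exact top_le_iff.1 Subgroup.le_normalizer)
  have hU : ∀ U : Subgroup G, Sub2 W U → U ≠ ⊥ := by
    rintro U h rfl
    exact htop (le_center_of_sub2_bot h)
  have hW1 : W ≠ ⊥ := fun h => htop (h ▸ bot_le)
  haveI : Fintype (SignSet P W) := Fintype.ofFinite _
  have hWT : ∀ U : SignSet P W, W ≤ CharInduce.inertia W (sgn W U.1) := fun U =>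
    CharInduce.le_inertia W (IsIrr.isClassFunction (isIrr_sgn U.2.1))
  have hG := card_normalizer_mul_ro P W hW2 hWT
  -- the same count inside the normaliser
  set W' := W.subgroupOf N
  haveI : Fintype W' := Fintype.ofFinite _
  let P' : Sylow 2 N := P.subtype Subgroup.le_normalizer
  have hP'top : Subgroup.normalizer ((P' : Subgroup N) : Set N) = ⊤ := by
    refine Subgroup.eq_top_iff' _ |>.2 fun n => Subgroup.mem_normalizer_iff.2 fun h => ?_
    exact (Subgroup.mem_normalizer_iff.1 n.2) (h : G)
  have hW'2 : IsPGroup 2 W' := hW2.comap_subtype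
  haveI : Fintype (SignSet P' W') := Fintype.ofFinite _
  have hWT' : ∀ U : SignSet P' W', W' ≤ CharInduce.inertia W' (sgn W' U.1) := fun U =>
    CharInduce.le_inertia W' (IsIrr.isClassFunction (isIrr_sgn U.2.1))
  have hN' := card_normalizer_mul_ro P' W' hW'2 hWT'
  let e : SignSet P W ≃ SignSet P' W' :=
    { toFun := fun U => ⟨U.1.subgroupOf N, ⟨fun a ha => U.2.1.1 ha,
        fun a ha b hb hau hbu => U.2.1.2 a ha b hb hau hbu⟩, fun p hp =>
          Subgroup.mem_normalizer_iff.2 fun h => (Subgroup.mem_normalizer_iff.1 (U.2.2 hp)) h⟩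
      invFun := fun U => ⟨U.1.map N.subtype, ⟨by
          rintro _ ⟨a, ha, rfl⟩
          exact U.2.1.1 ha, fun a ha b hb hau hbu => by
          have h := U.2.1.2 ⟨a, hWN ha⟩ ha ⟨b, hWN hb⟩ hb (fun hc => hau ⟨_, hc, rfl⟩)
            fun hc => hbu ⟨_, hc, rfl⟩
          exact ⟨_, h, rfl⟩⟩, fun p hp => Subgroup.mem_normalizer_iff.2 fun h => by
          have hpN : p ∈ N := Subgroup.le_normalizer hp
          have key := Subgroup.mem_normalizer_iff.1 (U.2.2 (show ⟨p, hpN⟩ ∈ (P' : Subgroup N) from hp))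
          constructor
          · rintro ⟨a, ha, rfl⟩
            exact ⟨_, (key a).1 ha, rfl⟩
          · rintro ⟨a, ha, e⟩
            have hN_h : h ∈ N := by
              have : h = p⁻¹ * (a : G) * p := by rw [show (a : G) = p * h * p⁻¹ from e]; group
              rw [this]
              exact N.mul_mem (N.mul_mem (N.inv_mem hpN) a.2) hpN
            refine ⟨⟨h, hN_h⟩, (key _).2 ?_, rfl⟩
            rwa [show (⟨p, hpN⟩ : N) * ⟨h, hN_h⟩ * (⟨p, hpN⟩ : N)⁻¹ = a from Subtype.ext e.symm]⟩
      left_inv := fun U => Subtype.ext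
        (Subgroup.map_subgroupOf_eq_of_le (U.2.1.1.trans hWN))
      right_inv := fun U => Subtype.ext (Subgroup.comap_map_eq_self_of_injective
        N.subtype_injective _) }
  rw [hP'top, Subgroup.card_top, ← e.sum_comp] at hN'
  have key : ∀ U : SignSet P W,
      Nat.card (N ⊓ Subgroup.normalizer (U.1 : Set G) : Subgroup G) *
        aU W U.1 (CharInduce.inertia W (sgn W U.1)) (hWT U) =
      Nat.card (⊤ ⊓ Subgroup.normalizer ((e U).1 : Set N) : Subgroup N) *
        aU W' (e U).1 (CharInduce.inertia W' (sgn W' (e U).1)) (hWT' (e U)) := by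
    intro U
    have hT : CharInduce.inertia W (sgn W U.1) = Subgroup.normalizer (U.1 : Set G) :=
      inertia_sgn U.2.1.1
    have hT' : CharInduce.inertia W' (sgn W' (e U).1) =
        Subgroup.normalizer (((e U).1 : Subgroup N) : Set N) := inertia_sgn (e U).2.1.1
    rw [aU_eq_av U.2.1 _ (hWT U) hT.le, aU_eq_av (e U).2.1 _ (hWT' _) hT'.le, hT, hT', top_inf_eq]
    have hUN : U.1 ≤ N := U.2.1.1.trans hWN
    have hmapU : (e U).1.map N.subtype = U.1 := Subgroup.map_subgroupOf_eq_of_le hUN
    have hmapW : W'.map N.subtype = W := Subgroup.map_subgroupOf_eq_of_le hWN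
    have hmapT : (Subgroup.normalizer (((e U).1 : Subgroup N) : Set N)).map N.subtype =
        N ⊓ Subgroup.normalizer (U.1 : Set G) := by
      ext g
      constructor
      · rintro ⟨n, hn, rfl⟩
        refine ⟨n.2, Subgroup.mem_normalizer_iff.2 fun a => ⟨fun ha => ?_, fun ha => ?_⟩⟩
        · exact ((Subgroup.mem_normalizer_iff.1 hn) ⟨a, hUN ha⟩).1 ha
        · have haN : a ∈ N := by
            have := N.mul_mem (N.mul_mem (N.inv_mem n.2) (hUN ha)) n.2
            simpa [mul_assoc] using this
          exact ((Subgroup.mem_normalizer_iff.1 hn) ⟨a, haN⟩).2 ha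
      · rintro ⟨hgN, hg⟩
        exact ⟨⟨g, hgN⟩, Subgroup.mem_normalizer_iff.2 fun a =>
          (Subgroup.mem_normalizer_iff.1 hg) (a : G), rfl⟩
    have hcardT : Nat.card (Subgroup.normalizer (((e U).1 : Subgroup N) : Set N)) =
        Nat.card (N ⊓ Subgroup.normalizer (U.1 : Set G) : Subgroup G) := by
      rw [← hmapT, Subgroup.card_map_of_injective N.subtype_injective]
    rw [hcardT]
    congr 1
    have hPT : (P : Subgroup G) ≤ Subgroup.normalizer (U.1 : Set G) := U.2.2
    have hWT0 : W ≤ Subgroup.normalizer (U.1 : Set G) := hWP.trans hPT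
    have hTW : Subgroup.normalizer (U.1 : Set G) ≤ Subgroup.normalizer (W : Set G) := by
      exact le_top.trans (Subgroup.normalizer_eq_top (H := W)).ge
    have hiff : (e U).1 = W' ↔ U.1 = W := by
      constructor
      · intro h; rw [← hmapU, h, hmapW]
      · intro h; show U.1.subgroupOf N = W'; rw [h]
    unfold av
    rw [roK_map (Subgroup.normalizer (((e U).1 : Subgroup N) : Set N)) W',
      roK_map (Subgroup.normalizer (((e U).1 : Subgroup N) : Set N)) (e U).1, hmapT, hmapU, hmapW,
      ← roK_inf_eq P IH hPT hWT0 hTW hW1,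
      ← roK_inf_eq P IH hPT (U.2.1.1.trans hWT0) le_rfl (hU _ U.2.1)]
    simp only [hiff]
  rw [Finset.sum_congr rfl fun U _ => key U, ← hN'] at hG
  exact Nat.eq_of_mul_eq_mul_left Nat.card_pos hG

end Count

/-- Solvable groups and Sylow 2-normalisers have the same number of real odd-degree characters. -/
theorem ro_eq (G : Type u) [Group G] [Finite G] [Group.IsSolvable G] (P : Sylow 2 G) :
    ro G = ro (Subgroup.normalizer ((P : Subgroup G) : Set G)) := by
  induction hn : Nat.card G using Nat.strong_induction_on generalizing G with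
  | _ n ih =>
    subst hn
    have IH : ∀ (X : Type u) [Group X] [Finite X] [Group.IsSolvable X], Nat.card X < Nat.card G →
        ∀ Q : Sylow 2 X, ro X = ro (Subgroup.normalizer ((Q : Subgroup X) : Set X)) :=
      fun X _ _ _ hlt Q => ih _ hlt X Q rfl
    set N := Subgroup.normalizer ((P : Subgroup G) : Set G)
    by_cases hN : N = ⊤
    · rw [ro_eq_roK_top, ro_eq_roK, hN]
    by_cases hK : Cfsg.pPrimeCore 2 G = ⊥
    · exact ro_eq_of_core P IH hK hN
    set K := Cfsg.pPrimeCore 2 G
    haveI : K.Normal := by show (Cfsg.pPrimeCore 2 G).Normal; infer_instance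
    have hKodd : Odd (Nat.card K) := odd_pPrimeCore
    have h1 : roK (⊤ : Subgroup G) ⊥ = roK (⊤ : Subgroup G) K := by
      refine Nat.card_congr (Equiv.subtypeEquivRight fun χ => and_congr_right fun hχ =>
        ⟨fun _ h hh => ?_, fun _ h hh => ?_⟩)
      · have : (K.subgroupOf ⊤).Normal := inferInstance
        exact trivial_on_odd (K.subgroupOf (⊤ : Subgroup G)) (by
          rwa [Nat.card_congr (Subgroup.subgroupOfEquivOfLe (le_top : K ≤ ⊤)).toEquiv])
          χ hχ.1 hχ.2 h hh
      · rw [Subgroup.mem_bot] at hh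
        rw [show h = 1 from Subtype.ext hh]
    have h2 : roK N K = roK N ⊥ := by
      refine Nat.card_congr (Equiv.subtypeEquivRight fun χ => and_congr_right fun hχ =>
        ⟨fun _ h hh => ?_, fun _ h hh => ?_⟩)
      · rw [Subgroup.mem_bot] at hh
        rw [show h = 1 from Subtype.ext hh]
      · refine trivial_on_odd (K.subgroupOf N) (Odd.of_dvd_nat hKodd ?_) χ hχ.1 hχ.2 h hh
        rw [← Subgroup.card_map_of_injective N.subtype_injective, Subgroup.subgroupOf_map_subtype]
        exact Subgroup.card_dvd_of_le inf_le_left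
    rw [ro_eq_roK_top, h1, roK_inf_eq P IH le_top le_top
      (by rw [Subgroup.normalizer_eq_top]) hK, inf_top_eq, h2, ← ro_eq_roK]

end Cfsg.Agent.H80.RealOdd
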