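import Cfsg.Agent.Cores.PCore
import Mathlib.GroupTheory.Sylow
import Mathlib.GroupTheory.SpecificGroups.Cyclic
import Mathlib.Tactic

/-!
Groups with a self-centralizing element of prime order.
-/

namespace Cfsg.Agent.H80.SelfCentralizing

open Subgroup
open scoped commutatorElement

variable {G : Type*} [Group G] [Finite G] {p : ℕ} [hp : Fact p.Prime] {x : G}

theorem card_zpowers_eq (hx : orderOf x = p) : Nat.card (zpowers x) = p := by
  rw [Nat.card_zpowers, hx]

omit [Finite G] hp in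
theorem mem_of_commute (hC : centralizer ({x} : Set G) = zpowers x) {g : G} (hg : g * x = x * g) :
    g ∈ zpowers x := by
  rw [← hC, mem_centralizer_singleton_iff]; exact hg

theorem isSylow (hx : orderOf x = p) (hC : centralizer ({x} : Set G) = zpowers x) :
    ∃ P : Sylow p G, (P : Subgroup G) = zpowers x := by
  obtain ⟨P, hXP⟩ := (IsPGroup.of_card (n := 1) (by rw [card_zpowers_eq hx, pow_one]) :
    IsPGroup p (zpowers x)).exists_le_sylow
  refine ⟨P, le_antisymm ?_ hXP⟩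
  have hx1 : x ≠ 1 := fun h => by rw [h, orderOf_one] at hx; exact hp.out.one_lt.ne hx
  haveI : Nontrivial (P : Subgroup G) := by
    refine (Subgroup.nontrivial_iff_ne_bot _).mpr fun h => hx1 ?_
    exact mem_bot.mp (h ▸ hXP (mem_zpowers x))
  obtain ⟨⟨z, hz⟩, hz1⟩ := (nontrivial_iff_exists_ne (1 : center (P : Subgroup G))).mp
    P.isPGroup'.center_nontrivial
  have hzc : ∀ g ∈ (P : Subgroup G), g * (z : G) = z * g := fun g hg =>
    congrArg Subtype.val (mem_center_iff.mp hz ⟨g, hg⟩)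
  have hzX : (z : G) ∈ zpowers x := mem_of_commute hC (hzc x (hXP (mem_zpowers x))).symm
  obtain ⟨k, hk⟩ := mem_zpowers_iff.mp hzX
  have hzne : (z : G) ≠ 1 := fun h => hz1 (Subtype.ext (Subtype.ext h))
  have hgen : zpowers (z : G) = zpowers x := by
    refine Subgroup.eq_of_le_of_card_ge (zpowers_le.mpr hzX) ?_
    have hd : orderOf (z : G) ∣ p := by
      have := card_dvd_of_le (zpowers_le.mpr hzX)
      rwa [Nat.card_zpowers, card_zpowers_eq hx] at this
    rcases (Nat.dvd_prime hp.out).mp hd with h | h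
    · exact absurd (orderOf_eq_one_iff.mp h) hzne
    · rw [card_zpowers_eq hx, Nat.card_zpowers, h]
  intro g hg
  obtain ⟨i, hi⟩ := mem_zpowers_iff.mp (show x ∈ zpowers (z : G) from hgen ▸ mem_zpowers x)
  refine mem_of_commute hC ?_
  rw [← hi]
  exact (Commute.zpow_right (hzc g hg) i)

theorem not_sq_dvd (hx : orderOf x = p) (hC : centralizer ({x} : Set G) = zpowers x) :
    ¬ p * p ∣ Nat.card G := by
  intro h
  obtain ⟨P, hP⟩ := isSylow hx hC
  have := P.pow_dvd_card_of_pow_dvd_card (n := 2) (by rw [pow_two]; exact h)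
  rw [hP, card_zpowers_eq hx, pow_two] at this
  have := Nat.le_of_dvd hp.out.pos this
  have := hp.out.two_le
  nlinarith

/-- A normal subgroup of order divisible by `p` contains every element of order `p`. -/
theorem mem_of_orderOf (hx : orderOf x = p) (hC : centralizer ({x} : Set G) = zpowers x)
    {K : Subgroup G} (M : Subgroup K) [M.Normal] (hM : p ∣ Nat.card M) {g : K}
    (hg : orderOf g = p) : g ∈ M := by
  have hndvd : ¬ p ∣ M.index := fun h => not_sq_dvd hx hC <| by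
    refine dvd_trans ?_ K.card_subgroup_dvd_card
    rw [← M.card_mul_index]
    exact Nat.mul_dvd_mul hM h
  have h1 : orderOf (QuotientGroup.mk g : K ⧸ M) ∣ p := hg ▸ orderOf_map_dvd (QuotientGroup.mk' M) g
  rcases (Nat.dvd_prime hp.out).mp h1 with h | h
  · rw [orderOf_eq_one_iff, QuotientGroup.eq_one_iff] at h; exact h
  · exfalso
    have h2 : orderOf (QuotientGroup.mk g : K ⧸ M) ∣ M.index := by
      rw [Subgroup.index_eq_card]; exact orderOf_dvd_natCard _
    exact hndvd (h ▸ h2)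

theorem mem_normal_of_orderOf (hx : orderOf x = p)
    (hC : centralizer ({x} : Set G) = zpowers x)
    (S : Subgroup G) [S.Normal] (hS : p ∣ Nat.card S) {g : G} (hg : orderOf g = p) : g ∈ S := by
  haveI : (S.subgroupOf ⊤).Normal := normal_subgroupOf
  have := mem_of_orderOf hx hC (K := ⊤) (S.subgroupOf ⊤)
    (by rw [Nat.card_congr (subgroupOfEquivOfLe (le_top : S ≤ ⊤)).toEquiv]; exact hS)
    (g := ⟨g, mem_top g⟩) (by rw [Subgroup.orderOf_mk]; exact hg)
  exact this

theorem commute_commutator_of_normalizer (hx : orderOf x = p) {n m : G}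
    (hn : n ∈ normalizer (zpowers x : Set G)) (hm : m ∈ normalizer (zpowers x : Set G)) :
    ⁅n, m⁆ * x = x * ⁅n, m⁆ := by
  have key : ∀ a b : G, a ∈ normalizer (zpowers x : Set G) → b ∈ normalizer (zpowers x : Set G) →
      ∃ i j : ℤ, a * x * a⁻¹ = x ^ i ∧ a * b * x * (a * b)⁻¹ = x ^ (i * j) ∧
        b * x * b⁻¹ = x ^ j := by
    intro a b ha hb
    obtain ⟨i, hi⟩ := mem_zpowers_iff.mp ((mem_normalizer_iff.mp ha x).mp (mem_zpowers x))
    obtain ⟨j, hj⟩ := mem_zpowers_iff.mp ((mem_normalizer_iff.mp hb x).mp (mem_zpowers x))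
    refine ⟨i, j, hi.symm, ?_, hj.symm⟩
    calc a * b * x * (a * b)⁻¹ = a * (b * x * b⁻¹) * a⁻¹ := by group
      _ = (MulAut.conj a) (x ^ j) := by rw [hj]; rfl
      _ = (a * x * a⁻¹) ^ j := by rw [map_zpow]; rfl
      _ = x ^ (i * j) := by rw [← hi, ← zpow_mul]
  obtain ⟨i, j, hi, h1, hj⟩ := key n⁻¹ m⁻¹ (inv_mem hn) (inv_mem hm)
  obtain ⟨j', i', hj', h2, hi'⟩ := key m⁻¹ n⁻¹ (inv_mem hm) (inv_mem hn)
  have h3 : n⁻¹ * m⁻¹ * x * (n⁻¹ * m⁻¹)⁻¹ = m⁻¹ * n⁻¹ * x * (m⁻¹ * n⁻¹)⁻¹ := by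
    rw [h1, h2]
    have e2 : x ^ i = x ^ i' := hi.symm.trans hi'
    have e3 : x ^ j = x ^ j' := hj.symm.trans hj'
    rw [zpow_mul, e2, ← zpow_mul, mul_comm, zpow_mul, e3, ← zpow_mul]
  calc ⁅n, m⁆ * x = n * m * (n⁻¹ * m⁻¹ * x * (n⁻¹ * m⁻¹)⁻¹) * (n⁻¹ * m⁻¹) := by
        rw [commutatorElement_def]; group
    _ = n * m * (m⁻¹ * n⁻¹ * x * (m⁻¹ * n⁻¹)⁻¹) * (n⁻¹ * m⁻¹) := by rw [h3]
    _ = x * ⁅n, m⁆ := by rw [commutatorElement_def]; group

theorem commutator_le_of_dvd (hx : orderOf x = p) (hC : centralizer ({x} : Set G) = zpowers x)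
    (S : Subgroup G) [S.Normal] (hS : p ∣ Nat.card S) : commutator G ≤ S := by
  obtain ⟨P, hP⟩ := isSylow hx hC
  have hXS : (zpowers x) ≤ S := zpowers_le.mpr (mem_normal_of_orderOf hx hC S hS hx)
  have hsup := Sylow.normalizer_sup_eq_top (P.subtype (hP ▸ hXS))
  rw [Sylow.coe_subtype, subgroupOf_map_subtype, inf_eq_left.mpr (hP ▸ hXS)] at hsup
  rw [hP] at hsup
  have hrep : ∀ a : G, ∃ n ∈ normalizer (zpowers x : Set G),
      (QuotientGroup.mk a : G ⧸ S) = QuotientGroup.mk n := by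
    intro a
    have ha : a ∈ normalizer (zpowers x : Set G) ⊔ S := hsup ▸ mem_top a
    rw [sup_comm, Subgroup.mem_sup_of_normal_left] at ha
    obtain ⟨s, hs, n, hn, rfl⟩ := ha
    refine ⟨n, hn, ?_⟩
    rw [QuotientGroup.mk_mul, (QuotientGroup.eq_one_iff s).mpr hs, one_mul]
  rw [_root_.commutator_def, Subgroup.commutator_le]
  intro a _ b _
  obtain ⟨n, hn, ha⟩ := hrep a
  obtain ⟨m, hm, hb⟩ := hrep b
  rw [← QuotientGroup.eq_one_iff, ← QuotientGroup.mk'_apply, map_commutatorElement,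
    QuotientGroup.mk'_apply, QuotientGroup.mk'_apply, ha, hb, ← QuotientGroup.mk'_apply,
    ← QuotientGroup.mk'_apply, ← map_commutatorElement, QuotientGroup.mk'_apply,
    QuotientGroup.eq_one_iff]
  exact hXS (mem_of_commute hC (commute_commutator_of_normalizer hx hn hm))

section coprime

variable (hx : orderOf x = p) (hC : centralizer ({x} : Set G) = zpowers x)
  (S : Subgroup G) [S.Normal] (hS : ¬ p ∣ Nat.card S)

include hx hS in
theorem inf_zpowers_eq_bot : S ⊓ zpowers x = ⊥ := by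
  rw [← Subgroup.card_eq_one]
  have h1 : Nat.card ↥(S ⊓ zpowers x) ∣ p := by
    have := card_dvd_of_le (inf_le_right : S ⊓ zpowers x ≤ zpowers x)
    rwa [card_zpowers_eq hx] at this
  rcases (Nat.dvd_prime hp.out).mp h1 with h | h
  · exact h
  · exact absurd (dvd_trans (by rw [h]) (card_dvd_of_le (inf_le_left : S ⊓ zpowers x ≤ S))) hS

include hx hC hS in
theorem exists_commutator_eq {t : G} (ht : t ∈ S) :
    ∃ s ∈ S, s * x * s⁻¹ * x⁻¹ = t := by
  let φ : S → S := fun s => ⟨(s : G) * x * (s : G)⁻¹ * x⁻¹, by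
    rw [mul_assoc, mul_assoc, ← mul_assoc x]
    exact S.mul_mem s.2 (Subgroup.Normal.conj_mem inferInstance _ (S.inv_mem s.2) x)⟩
  have hφ : Function.Injective φ := by
    intro a b hab
    have h1 : (a : G) * x * (a : G)⁻¹ = (b : G) * x * (b : G)⁻¹ :=
      mul_right_cancel (congrArg Subtype.val hab)
    have h2 : (b : G)⁻¹ * (a : G) ∈ zpowers x := by
      refine mem_of_commute hC ?_
      calc (b : G)⁻¹ * a * x = (b : G)⁻¹ * ((a : G) * x * (a : G)⁻¹) * a := by group
        _ = (b : G)⁻¹ * ((b : G) * x * (b : G)⁻¹) * a := by rw [h1]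
        _ = x * ((b : G)⁻¹ * a) := by group
    have h3 : (b : G)⁻¹ * (a : G) ∈ S ⊓ zpowers x := ⟨S.mul_mem (S.inv_mem b.2) a.2, h2⟩
    rw [inf_zpowers_eq_bot hx S hS, mem_bot, inv_mul_eq_one] at h3
    exact Subtype.ext h3.symm
  obtain ⟨s, hs⟩ := Finite.injective_iff_surjective.mp hφ ⟨t, ht⟩
  exact ⟨s, s.2, congrArg Subtype.val hs⟩

include hx hC hS in
theorem le_commutator : S ≤ commutator G := by
  intro t ht
  obtain ⟨s, -, hs⟩ := exists_commutator_eq hx hC S hS ht
  rw [← hs, _root_.commutator_def]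
  exact commutator_mem_commutator (mem_top s) (mem_top x)

include hx hC hS in
theorem eq_zpowers_of_centralizer {g : G} (hg : g * x * g⁻¹ * x⁻¹ ∈ S) :
    (QuotientGroup.mk g : G ⧸ S) ∈ zpowers (QuotientGroup.mk x : G ⧸ S) := by
  obtain ⟨s, hs, hst⟩ := exists_commutator_eq hx hC S hS hg
  have h1 : s * x * s⁻¹ = g * x * g⁻¹ := mul_right_cancel hst
  have h2 : s⁻¹ * g ∈ zpowers x := by
    refine mem_of_commute hC ?_
    calc s⁻¹ * g * x = s⁻¹ * (g * x * g⁻¹) * g := by group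
      _ = s⁻¹ * (s * x * s⁻¹) * g := by rw [h1]
      _ = x * (s⁻¹ * g) := by group
  obtain ⟨k, hk⟩ := mem_zpowers_iff.mp h2
  refine mem_zpowers_iff.mpr ⟨k, ?_⟩
  rw [← QuotientGroup.mk_zpow, hk, QuotientGroup.mk_mul, QuotientGroup.mk_inv,
    (QuotientGroup.eq_one_iff s).mpr hs, inv_one, one_mul]

include hx hC hS in
theorem card_mod_eq_one : Nat.card S % p = 1 := by
  haveI : Finite S := inferInstance
  have hX : IsPGroup p (ConjAct (zpowers x)) :=
    IsPGroup.of_card (n := 1) (by rw [pow_one]; exact card_zpowers_eq hx)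
  letI : MulAction (zpowers x) S :=
    { smul := fun g s => ⟨(g : G) * s * (g : G)⁻¹,
        Subgroup.Normal.conj_mem inferInstance _ s.2 g⟩
      one_smul := fun s => Subtype.ext (by show (1 : G) * s * (1 : G)⁻¹ = s; simp)
      mul_smul := fun a b s => Subtype.ext (by
        show (a : G) * b * s * ((a : G) * b)⁻¹ = (a : G) * ((b : G) * s * (b : G)⁻¹) * (a : G)⁻¹
        group) }
  have hP : IsPGroup p (zpowers x) :=
    IsPGroup.of_card (n := 1) (by rw [pow_one]; exact card_zpowers_eq hx)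
  have h := hP.card_modEq_card_fixedPoints S
  have hone : Nat.card (MulAction.fixedPoints (zpowers x) S) = 1 := by
    rw [Nat.card_eq_one_iff_unique]
    refine ⟨⟨fun a b => ?_⟩, ⟨⟨1, fun g => Subtype.ext (by
      show (g : G) * 1 * (g : G)⁻¹ = 1; simp)⟩⟩⟩
    have key : ∀ c : MulAction.fixedPoints (zpowers x) S, ((c : S) : G) = 1 := by
      intro c
      have hc : x * ((c : S) : G) * x⁻¹ = ((c : S) : G) :=
        congrArg Subtype.val (c.2 ⟨x, mem_zpowers x⟩)
      have hm : ((c : S) : G) ∈ S ⊓ zpowers x :=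
        ⟨(c : S).2, mem_of_commute hC (mul_inv_eq_iff_eq_mul.mp hc).symm⟩
      rwa [inf_zpowers_eq_bot hx S hS, mem_bot] at hm
    exact Subtype.ext (Subtype.ext ((key a).trans (key b).symm))
  rw [hone] at h
  rw [h, Nat.one_mod_eq_one]
  exact hp.out.ne_one

include hx hC hS in
theorem card_dvd_index_normalizer : Nat.card S ∣ (normalizer (zpowers x : Set G)).index := by
  set N := normalizer (zpowers x : Set G)
  have hinf : N ⊓ S = ⊥ := by
    rw [eq_bot_iff]
    intro s hs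
    have h1 : s * x * s⁻¹ * x⁻¹ ∈ S ⊓ zpowers x := by
      refine ⟨?_, (zpowers x).mul_mem ((mem_normalizer_iff.mp hs.1 x).mp (mem_zpowers x))
        ((zpowers x).inv_mem (mem_zpowers x))⟩
      rw [mul_assoc, mul_assoc, ← mul_assoc x]
      exact S.mul_mem hs.2 (Subgroup.Normal.conj_mem inferInstance _ (S.inv_mem hs.2) x)
    rw [inf_zpowers_eq_bot hx S hS, mem_bot, mul_inv_eq_one, mul_inv_eq_iff_eq_mul] at h1
    have h2 : s ∈ S ⊓ zpowers x := ⟨hs.2, mem_of_commute hC h1⟩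
    rwa [inf_zpowers_eq_bot hx S hS] at h2
  have h := Cores.card_sup_mul_card_inf N S
  rw [hinf, card_bot, mul_one] at h
  have h2 : Nat.card N * Nat.card S ∣ Nat.card N * N.index := by
    rw [← h, N.card_mul_index]; exact card_subgroup_dvd_card _
  exact Nat.dvd_of_mul_dvd_mul_left Nat.card_pos h2

end coprime

end Cfsg.Agent.H80.SelfCentralizing
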