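import Cfsg.Agent.H80.Blichfeldt60
import Cfsg.Agent.BlockBasic.Orth
import Cfsg.Agent.BlockBasic.Basic
import Cfsg.Agent.CharBasic.Integral
import Cfsg.Agent.CharBasic.Kernel

/-!
# Brauer's refinement of Burnside's theorem
-/

set_option linter.style.haveILetI false

namespace Cfsg.Agent.H80.ThreePrime

open CharBasic BlockBasic Finset

universe u

theorem norm_exp_sub_one_lt {θ : ℝ} (h : |θ| < Real.pi / 3) :
    ‖Complex.exp (θ * Complex.I) - 1‖ < 1 := by
  have hsq : ‖Complex.exp (θ * Complex.I) - 1‖ * ‖Complex.exp (θ * Complex.I) - 1‖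
      = 2 - 2 * Real.cos θ := by
    rw [Complex.norm_mul_self_eq_normSq, Complex.normSq_apply]
    simp only [Complex.sub_re, Complex.sub_im, Complex.exp_ofReal_mul_I_re,
      Complex.exp_ofReal_mul_I_im, Complex.one_re, Complex.one_im, sub_zero]
    nlinarith [Real.sin_sq_add_cos_sq θ]
  have hpi := Real.pi_pos
  have hcos : Real.cos (Real.pi / 3) < Real.cos |θ| :=
    Real.cos_lt_cos_of_nonneg_of_le_pi (abs_nonneg θ) (by linarith) h
  rw [Real.cos_abs, Real.cos_pi_div_three] at hcos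
  nlinarith [norm_nonneg (Complex.exp (θ * Complex.I) - 1)]

/-- Pigeonhole: a power separating few roots of unity by less than sixty degrees. -/
theorem exists_close {p : ℕ} (hp : p.Prime) (J : Finset ℂ) (hJ : ∀ ν ∈ J, ν ^ p = 1) {ν₀ : ℂ}
    (hν₀ : ν₀ ∈ J) (hcard : 6 ^ (J.card - 1) < p) :
    ∃ t : ℕ, 0 < t ∧ t < p ∧ ∀ ν ∈ J, ‖ν ^ t - ν₀ ^ t‖ < 1 := by
  classical
  haveI : NeZero p := ⟨hp.ne_zero⟩
  set ζ := Complex.exp (2 * Real.pi * Complex.I / p) with hζdef
  have hζ : IsPrimitiveRoot ζ p := Complex.isPrimitiveRoot_exp p hp.ne_zero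
  have hν₀0 : ν₀ ≠ 0 := fun h => by
    have := hJ ν₀ hν₀
    rw [h, zero_pow hp.ne_zero] at this
    exact zero_ne_one this
  have hd : ∀ ν ∈ J, ∃ d : ℕ, d < p ∧ ν = ν₀ * ζ ^ d := by
    intro ν hν
    obtain ⟨d, hd, he⟩ := hζ.eq_pow_of_pow_eq_one
      (show (ν / ν₀) ^ p = 1 by rw [div_pow, hJ ν hν, hJ ν₀ hν₀, div_one])
    exact ⟨d, hd, by rw [he, mul_div_cancel₀ _ hν₀0]⟩
  choose d hdp hde using hd
  set K := J.erase ν₀
  let f : Fin p → (↥K → Fin 6) := fun t ν =>
    ⟨6 * ((t.1 * d ν.1 (mem_of_mem_erase ν.2)) % p) / p, by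
      rw [Nat.div_lt_iff_lt_mul hp.pos]
      exact Nat.mul_lt_mul_of_pos_left (Nat.mod_lt _ hp.pos) (by norm_num)⟩
  obtain ⟨t₁, t₂, hne, he⟩ := Fintype.exists_ne_map_eq_of_card_lt f (by
    rw [Fintype.card_fun, Fintype.card_fin, Fintype.card_fin, Fintype.card_coe,
      card_erase_of_mem hν₀]
    exact hcard)
  wlog hlt : t₁.1 < t₂.1 generalizing t₁ t₂
  · exact this t₂ t₁ hne.symm he.symm (lt_of_le_of_ne (not_lt.1 hlt) fun h => hne (Fin.ext h.symm))
  refine ⟨t₂.1 - t₁.1, by omega, by omega, fun ν hν => ?_⟩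
  by_cases hν' : ν = ν₀
  · simp [hν']
  have hmem : ν ∈ K := mem_erase.2 ⟨hν', hν⟩
  have hbox := congrArg Fin.val (congrFun he ⟨ν, hmem⟩)
  simp only [f] at hbox
  set r₁ := (t₁.1 * d ν hν) % p with hr₁
  set r₂ := (t₂.1 * d ν hν) % p with hr₂
  have hζ0 : ζ ≠ 0 := Complex.exp_ne_zero _
  have hmod : ∀ m : ℕ, ζ ^ m = ζ ^ (m % p) := fun m => (pow_mod_orderOf ζ m).symm.trans (by
    rw [← hζ.eq_orderOf])
  have hnorm : ‖ν₀‖ = 1 := Complex.norm_eq_one_of_pow_eq_one (hJ ν₀ hν₀) hp.ne_zero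
  rw [hde ν hν, mul_pow, ← mul_sub_one, norm_mul, norm_pow, hnorm, one_pow, one_mul, ← pow_mul]
  have hexp : ζ ^ (d ν hν * (t₂.1 - t₁.1)) =
      Complex.exp (((2 * Real.pi * ((r₂ : ℝ) - r₁) / p : ℝ)) * Complex.I) := by
    have h1 : ζ ^ (d ν hν * (t₂.1 - t₁.1)) * ζ ^ r₁ = ζ ^ r₂ := by
      rw [hr₁, hr₂, ← hmod, ← hmod, ← pow_add, Nat.mul_sub, Nat.mul_comm t₁.1, Nat.mul_comm t₂.1,
        Nat.sub_add_cancel (Nat.mul_le_mul_left _ hlt.le)]
    have h2 : Complex.exp (((2 * Real.pi * ((r₂ : ℝ) - r₁) / p : ℝ)) * Complex.I) * ζ ^ r₁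
        = ζ ^ r₂ := by
      rw [hζdef, ← Complex.exp_nat_mul, ← Complex.exp_nat_mul, ← Complex.exp_add]
      congr 1
      push_cast
      field_simp
      ring
    exact mul_right_cancel₀ (pow_ne_zero _ hζ0) (h1.trans h2.symm)
  rw [hexp]
  refine norm_exp_sub_one_lt ?_
  have hdist : |(r₂ : ℝ) - r₁| * 6 < p := by
    have hb1 := Nat.div_add_mod (6 * r₁) p
    have hb2 := Nat.div_add_mod (6 * r₂) p
    have hm1 := Nat.mod_lt (6 * r₁) hp.pos
    have hm2 := Nat.mod_lt (6 * r₂) hp.pos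
    rw [hbox] at hb1
    have h3 : 6 * r₁ < 6 * r₂ + p := by omega
    have h4 : 6 * r₂ < 6 * r₁ + p := by omega
    have h3' : (6 : ℝ) * r₁ < 6 * r₂ + p := by exact_mod_cast h3
    have h4' : (6 : ℝ) * r₂ < 6 * r₁ + p := by exact_mod_cast h4
    rcases le_or_gt (r₁ : ℝ) r₂ with h | h
    · rw [abs_of_nonneg (sub_nonneg.2 h)]; linarith
    · rw [abs_of_neg (sub_neg.2 h)]; linarith
  have hp0 : (0 : ℝ) < p := by exact_mod_cast hp.pos
  rw [abs_div, abs_mul, abs_of_pos (by positivity : 0 < 2 * Real.pi), abs_of_pos hp0,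
    div_lt_iff₀ hp0]
  nlinarith [Real.pi_pos, mul_lt_mul_of_pos_left hdist Real.pi_pos]

variable {G : Type u} [Group G] [Finite G]

/-- Multiplicities of eigenvalues are divisible by the `p`-part of the degree. -/
theorem pow_dvd_multiplicity {p : ℕ} [hp : Fact p.Prime] {M : Ideal AlgInt} (hM : IsPModular p M)
    {n : ℕ} (ρ : Representation ℂ G (Fin n → ℂ)) [ρ.IsIrreducible]
    (hn : n ≠ 0) (hblock : SameBlock M (fun _ : G => (1 : ℂ)) ρ.character)
    {z : G} (hz : orderOf z = p) (hcent : ¬ p ∣ (Subgroup.centralizer ({z} : Set G)).index)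
    {ι : Type*} [Fintype ι] (b : Module.Basis ι ℂ (Fin n → ℂ)) (μ : ι → ℂ)
    (hb : ∀ i, ρ z (b i) = μ i • b i) (hμ : ∀ i, μ i ^ p = 1) {ν : ℂ} (hν : ν ^ p = 1) :
    p ^ n.factorization p ∣ (univ.filter fun i => μ i = ν).card := by
  classical
  set i₀ := n.factorization p with hi₀
  set m := (univ.filter fun i => μ i = ν).card with hm
  set g' := n / p ^ i₀ with hg'
  have hgn : p ^ i₀ * g' = n := Nat.ordProj_mul_ordCompl_eq_self n p
  have hpg : ¬ p ∣ g' := Nat.not_dvd_ordCompl hp.out hn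
  have hν0 : ν ≠ 0 := fun h => by rw [h, zero_pow hp.out.ne_zero] at hν; exact zero_ne_one hν
  have hpow : ∀ (t : ℕ) (i : ι), ρ (z ^ t) (b i) = μ i ^ t • b i := by
    intro t i
    induction t with
    | zero => simp
    | succ t ih =>
      rw [pow_succ, map_mul, Module.End.mul_apply, hb, map_smul, ih, smul_smul, ← pow_succ']
  have htr : ∀ t : ℕ, ρ.character (z ^ t) = ∑ i, μ i ^ t := fun t =>
    trace_eq_sum_of_eigenbasis b (fun i => μ i ^ t) _ (hpow t)
  have hsum : ∑ t ∈ range p, ρ.character (z ^ t) * ν⁻¹ ^ t = (p : ℂ) * m := by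
    simp only [htr, sum_mul, ← mul_pow]
    rw [sum_comm]
    have hgeo : ∀ i, ∑ t ∈ range p, (μ i * ν⁻¹) ^ t = if μ i = ν then (p : ℂ) else 0 := by
      intro i
      split_ifs with h
      · simp [h, hν0]
      · have h1 : μ i * ν⁻¹ ≠ 1 := fun h1 => h ((mul_inv_eq_one₀ hν0).1 h1)
        rw [geom_sum_eq h1, mul_pow, hμ, inv_pow, hν, inv_one, mul_one, sub_self, zero_div]
    simp only [hgeo, ← Finset.sum_filter, sum_const, nsmul_eq_mul, ← hm, mul_comm]
  -- the quotients `χ(zᵗ)/p^i₀` are congruent to `g'`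
  have hloc : ∀ t ∈ range p, t ≠ 0 →
      MemLocalIdeal M (ρ.character (z ^ t) / (p : ℂ) ^ i₀ - g') := by
    intro t ht ht0
    rw [mem_range] at ht
    set K := (Subgroup.centralizer ({z ^ t} : Set G)).index with hK
    have hcop : t.Coprime p :=
      (hp.out.coprime_iff_not_dvd.2 fun h =>
        absurd (Nat.le_of_dvd (Nat.pos_of_ne_zero ht0) h) (by omega)).symm
    have hKp : ¬ p ∣ K := by
      intro h
      refine hcent (h.trans (Subgroup.index_dvd_of_le ?_))
      intro x hx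
      rw [Subgroup.mem_centralizer_singleton_iff] at hx ⊢
      exact (Commute.pow_right hx t).eq
    have hKM : ¬ MemLocalIdeal M (K : ℂ) := fun h => hKp ((memLocalIdeal_natCast_iff hM K).1 h)
    have hω := isIntegral_centralChar ρ (z ^ t)
    rw [Module.finrank_fin_fun, ← hK] at hω
    have hn1 : ρ.character 1 = (n : ℂ) := by simp
    have hpi : (p : ℂ) ^ i₀ ≠ 0 := pow_ne_zero _ (Nat.cast_ne_zero.2 hp.out.ne_zero)
    have hnC : (n : ℂ) = (p : ℂ) ^ i₀ * g' := by exact_mod_cast hgn.symm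
    have hnC0 : (n : ℂ) ≠ 0 := Nat.cast_ne_zero.2 hn
    set η := ρ.character (z ^ t) / (p : ℂ) ^ i₀ with hη
    have hKη : (K : ℂ) * η = (g' : ℂ) * ((K : ℂ) * ρ.character (z ^ t) / (n : ℂ)) := by
      rw [hη, hnC]
      rw [hnC] at hnC0
      have := (mul_ne_zero_iff.1 hnC0).2
      field_simp
    have hηint : IsIntegral ℤ η := by
      obtain ⟨u, v, huv⟩ : ∃ u v : ℤ, u * (K : ℤ) + v * ((p : ℤ) ^ i₀) = 1 := by
        have hco : IsCoprime ((K : ℕ) : ℤ) ((p ^ i₀ : ℕ) : ℤ) :=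
          Nat.Coprime.isCoprime ((hp.out.coprime_iff_not_dvd.2 hKp).symm.pow_right i₀)
        obtain ⟨u, v, h⟩ := hco
        exact ⟨u, v, by exact_mod_cast h⟩
      have e : η = (u : ℂ) * ((K : ℂ) * η) + (v : ℂ) * ρ.character (z ^ t) := by
        have h1 : ρ.character (z ^ t) = (p : ℂ) ^ i₀ * η := by rw [hη, mul_div_cancel₀ _ hpi]
        have h2 : (u : ℂ) * K + (v : ℂ) * (p : ℂ) ^ i₀ = 1 := by exact_mod_cast huv
        rw [h1]; linear_combination (-η) * h2
      rw [e, hKη]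
      exact ((isIntegral_intCast u).mul ((isIntegral_natCast g').mul hω)).add
        ((isIntegral_intCast v).mul (isIntegral_character ρ _))
    have hb0 := hblock (z ^ t)
    rw [centralChar, centralChar, ← hK, hn1, mul_one, div_one] at hb0
    have h2 : MemLocalIdeal M ((K : ℂ) * (η - g')) := by
      rw [mul_sub, hKη, ← mul_comm ((g' : ℕ) : ℂ), ← mul_sub, ← neg_sub, mul_neg]
      exact memLocalIdeal_neg (memLocalIdeal_mul hM (memLocalRing_natCast hM g') hb0)
    exact ((memLocalIdeal_mul_iff hM (memLocalRing_natCast hM K)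
      (memLocalRing_of_isIntegral hM (hηint.sub (isIntegral_natCast g')))).1 h2).resolve_left hKM
  have hkey : MemLocalIdeal M (((p : ℂ) * m) / (p : ℂ) ^ i₀) := by
    rw [← hsum, Finset.sum_div]
    have hpmem : MemLocalIdeal M (p : ℂ) := (memLocalIdeal_natCast_iff hM p).2 dvd_rfl
    have hνsum : MemLocalIdeal M (∑ t ∈ range p, (g' : ℂ) * ν⁻¹ ^ t) := by
      rw [← mul_sum]
      by_cases h1 : ν⁻¹ = 1
      · simp only [h1, one_pow, sum_const, card_range, nsmul_eq_mul, mul_one]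
        exact memLocalIdeal_mul hM (memLocalRing_natCast hM g') hpmem
      · rw [geom_sum_eq h1, inv_pow, hν, inv_one, sub_self, zero_div, mul_zero]
        exact memLocalIdeal_zero hM
    have hdiff : MemLocalIdeal M
        (∑ t ∈ range p, (ρ.character (z ^ t) / (p : ℂ) ^ i₀ - g') * ν⁻¹ ^ t) := by
      refine Finset.sum_induction _ (MemLocalIdeal M) (fun _ _ => memLocalIdeal_add hM)
        (memLocalIdeal_zero hM) fun t ht => ?_
      rw [mul_comm]
      refine memLocalIdeal_mul hM (memLocalRing_of_isIntegral hM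
        (IsIntegral.pow (IsIntegral.of_pow hp.out.pos
          (by rw [inv_pow, hν, inv_one]; exact isIntegral_one)) t)) ?_
      by_cases ht0 : t = 0
      · have hn1 : ρ.character 1 = (n : ℂ) := by simp
        rw [ht0, pow_zero, hn1, show (n : ℂ) = (p : ℂ) ^ i₀ * g' by exact_mod_cast hgn.symm,
          mul_div_cancel_left₀ _ (pow_ne_zero _ (Nat.cast_ne_zero.2 hp.out.ne_zero)), sub_self]
        exact memLocalIdeal_zero hM
      · exact hloc t ht ht0
    have := memLocalIdeal_add hM hdiff hνsum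
    rw [← Finset.sum_add_distrib] at this
    convert this using 1
    exact Finset.sum_congr rfl fun t _ => by ring
  by_contra hnd
  have hm0 : m ≠ 0 := fun h => hnd (h ▸ dvd_zero _)
  set v := m.factorization p with hv
  set m' := m / p ^ v with hm'
  have hvm : p ^ v * m' = m := Nat.ordProj_mul_ordCompl_eq_self m p
  have hvi : v < i₀ := by
    by_contra h
    exact hnd ((pow_dvd_pow p (not_lt.1 h)).trans (Nat.ordProj_dvd m p))
  have hmC : (m : ℂ) = (p : ℂ) ^ v * m' := by exact_mod_cast hvm.symm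
  obtain ⟨c, hc⟩ := Nat.exists_eq_add_of_lt hvi
  have h3 : MemLocalIdeal M (m' : ℂ) := by
    have h4 := memLocalIdeal_mul hM (memLocalRing_natCast hM (p ^ c)) hkey
    convert h4 using 1
    have hp0 : (p : ℂ) ≠ 0 := Nat.cast_ne_zero.2 hp.out.ne_zero
    rw [hmC, hc, Nat.cast_pow, pow_succ, pow_add]
    field_simp
  exact Nat.not_dvd_ordCompl hp.out hm0 ((memLocalIdeal_natCast_iff hM m').1 h3)

end Cfsg.Agent.H80.ThreePrime
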