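import Cfsg.Agent.H80.Frobenius

/-!
# A finite group acts by isometries on a coordinate space embedded in its functions
-/

set_option linter.style.haveILetI false

namespace Cfsg.Agent.H80.Jordan

variable {G : Type*} [Group G] [Fintype G] {n : ℕ} (ρ : Representation ℂ G (Fin n → ℂ))

/-- A vector as the family of its translates. -/
noncomputable def orbitMap : (Fin n → ℂ) →ₗ[ℂ] EuclideanSpace ℂ (G × Fin n) where
  toFun v := WithLp.toLp 2 fun x => ρ x.1 v x.2
  map_add' v w := by ext x; simp
  map_smul' c v := by ext x; simp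

theorem orbitMap_injective : Function.Injective (orbitMap ρ) := by
  intro v w h
  funext i
  have := congrArg (fun z : EuclideanSpace ℂ (G × Fin n) => z (1, i)) h
  simpa [orbitMap] using this

theorem norm_orbitMap (g : G) (v : Fin n → ℂ) : ‖orbitMap ρ (ρ g v)‖ = ‖orbitMap ρ v‖ := by
  rw [EuclideanSpace.norm_eq, EuclideanSpace.norm_eq]
  congr 1
  refine Fintype.sum_equiv ((Equiv.mulRight g).prodCongr (Equiv.refl (Fin n))) _ _ fun x => ?_
  simp [orbitMap, map_mul]

/-- The equivalence with the image. -/
noncomputable def orbitEquiv : (Fin n → ℂ) ≃ₗ[ℂ] LinearMap.range (orbitMap ρ) :=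
  LinearEquiv.ofInjective (orbitMap ρ) (orbitMap_injective ρ)

/-- The isometric action. -/
noncomputable def isoAction : G →* (LinearMap.range (orbitMap ρ) →L[ℂ] LinearMap.range (orbitMap ρ))
    where
  toFun g := LinearMap.toContinuousLinearMap
    ((orbitEquiv ρ).toLinearMap ∘ₗ ρ g ∘ₗ (orbitEquiv ρ).symm.toLinearMap)
  map_one' := by
    refine ContinuousLinearMap.ext fun x => ?_
    simp
  map_mul' g h := by
    refine ContinuousLinearMap.ext fun x => ?_
    simp [map_mul]

theorem isoAction_apply (g : G) (x : LinearMap.range (orbitMap ρ)) :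
    isoAction ρ g x = orbitEquiv ρ (ρ g ((orbitEquiv ρ).symm x)) := rfl

theorem norm_isoAction (g : G) (x : LinearMap.range (orbitMap ρ)) : ‖isoAction ρ g x‖ = ‖x‖ := by
  rw [isoAction_apply, Submodule.coe_norm, Submodule.coe_norm, orbitEquiv,
    LinearEquiv.ofInjective_apply, norm_orbitMap]
  congr 1
  exact (LinearEquiv.ofInjective_apply (h := orbitMap_injective ρ) _ _).symm.trans
    (congrArg Subtype.val ((orbitEquiv ρ).apply_symm_apply x))

theorem isoAction_injective (hρ : Function.Injective ρ) : Function.Injective (isoAction ρ) := by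
  intro g h e
  refine hρ (LinearMap.ext fun v => (orbitEquiv ρ).injective ?_)
  have := DFunLike.congr_fun e (orbitEquiv ρ v)
  simpa [isoAction_apply] using this

theorem finrank_orbit : Module.finrank ℂ (LinearMap.range (orbitMap ρ)) = n := by
  rw [← (orbitEquiv ρ).finrank_eq, Module.finrank_fin_fun]

/-- Frobenius's bound for a faithful representation. -/
theorem exists_abelian_normal_rep (hρ : Function.Injective ρ) :
    ∃ A : Subgroup G, A.Normal ∧ (∀ x ∈ A, ∀ y ∈ A, x * y = y * x) ∧
      ∀ H : Subgroup G, (∀ x ∈ H, ∀ y ∈ H, x * y = y * x) →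
        (A.subgroupOf H).index ≤ 12 ^ n := by
  have h := exists_abelian_normal (E := LinearMap.range (orbitMap ρ)) (isoAction ρ)
    (norm_isoAction ρ) (isoAction_injective ρ hρ)
  rwa [finrank_orbit] at h

end Cfsg.Agent.H80.Jordan
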